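import Mathlib
import Cfsg.Agent.H617.TwoAvg

/-!
# Parity for semidihedral columns
-/

set_option autoImplicit false

open scoped ComplexConjugate

namespace Cfsg.Agent.H619.Tame

open Cfsg.Agent.H617.TwoAvg

/-- The coefficients of the conjugate. -/
def bar (j : ℕ) (a : ℕ → ℤ) (i : ℕ) : ℤ := if i = 0 then a 0 else - a (2 ^ j - i)

theorem conj_ev_eq (j : ℕ) (a : ℕ → ℤ) {k : ℕ} (hk : Odd k) :
    conj (ev j a k) = ev j (bar j a) k := by
  obtain ⟨N, hN⟩ : ∃ N, 2 ^ j = N + 1 := ⟨2 ^ j - 1, by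
    have : 0 < 2 ^ j := by positivity
    omega⟩
  have hb0 : bar j a 0 = a 0 := if_pos rfl
  have hbs : ∀ m, bar j a (m + 1) = - a (2 ^ j - (m + 1)) := fun m => if_neg (Nat.succ_ne_zero m)
  rw [ev_def, ev_def, map_sum, hN, Finset.sum_range_succ', Finset.sum_range_succ',
    ← Finset.sum_range_reflect]
  congr 1
  · refine Finset.sum_congr rfl fun m hm => ?_
    rw [Finset.mem_range] at hm
    have h2 : N - 1 - m + 1 = 2 ^ j - (m + 1) := by omega
    rw [h2, hbs, map_mul, map_intCast, conj_w_pow]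
    have h4 : w j ^ ((2 ^ j - (m + 1)) * k) * w j ^ ((m + 1) * k) = -1 := by
      rw [← pow_add, ← add_mul, Nat.sub_add_cancel (by omega), pow_mul, w_pow_half,
        hk.neg_one_pow]
    have h5 : (w j ^ ((2 ^ j - (m + 1)) * k))⁻¹ = - w j ^ ((m + 1) * k) := by
      rw [inv_eq_iff_eq_inv, eq_comm, inv_eq_of_mul_eq_one_left]
      rw [mul_neg, h4, neg_neg]
    rw [h5]
    push_cast
    ring
  · simp [hb0]

/-- The value at `(2 ^ j - 1) k`. -/
theorem ev_semi (j : ℕ) (a : ℕ → ℤ) {k : ℕ} (hk : Odd k) :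
    ev j a ((2 ^ j - 1) * k) = conj (ev j (fun i => (-1) ^ i * a i) k) := by
  rw [ev_def, ev_def, map_sum]
  refine Finset.sum_congr rfl fun i _ => ?_
  rw [map_mul, map_intCast, conj_w_pow]
  have h1 : w j ^ (i * ((2 ^ j - 1) * k)) * w j ^ (i * k) = (-1) ^ i := by
    rw [← pow_add, ← mul_add]
    have h2 : (2 ^ j - 1) * k + k = 2 ^ j * k := by
      have : 1 ≤ 2 ^ j := Nat.one_le_two_pow
      calc (2 ^ j - 1) * k + k = (2 ^ j - 1 + 1) * k := by ring
        _ = _ := by rw [Nat.sub_add_cancel this]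
    rw [h2, show i * (2 ^ j * k) = 2 ^ j * (k * i) by ring, pow_mul, w_pow_half, pow_mul,
      hk.neg_one_pow]
  have h2 : w j ^ (i * ((2 ^ j - 1) * k)) = (-1) ^ i * (w j ^ (i * k))⁻¹ := by
    rw [← h1, mul_inv_cancel_right₀ (pow_ne_zero _ (w_ne_zero j))]
  rw [h2]
  push_cast
  ring

theorem even_sub_of_semi {j : ℕ} (hj : 2 ≤ j) {a : ℕ → ℤ}
    (h : ∀ k, Odd k → ev j a ((2 ^ j - 1) * k) = ev j a k) :
    Even (∑ i ∈ Finset.range (2 ^ j), a i - a 0) := by
  have h1 : ∀ i < 2 ^ j, a i = bar j (fun i => (-1) ^ i * a i) i := fun i hi =>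
    coeff_eq_of_ev_eq (fun k hk => by
      have hk' := (mem_oddSet.1 hk).2
      rw [← conj_ev_eq j _ hk', ← ev_semi j a hk', h k hk']) hi
  have h2 : ∀ i < 2 ^ j, i ≠ 0 → a i = - ((-1) ^ (2 ^ j - i) * a (2 ^ j - i)) := by
    intro i hi hi0
    rw [h1 i hi]
    unfold bar
    rw [if_neg hi0]
  have h3 : ∀ i < 2 ^ j, i ≠ 0 → (a i : ZMod 2) = (a (2 ^ j - i) : ZMod 2) := by
    intro i hi hi0
    have e1 : ((-1 : ZMod 2)) = 1 := by decide
    rw [h2 i hi hi0]
    push_cast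
    rw [e1, one_pow, one_mul, neg_eq_neg_one_mul, e1, one_mul]
  have hhalf : 2 ^ j - 2 ^ (j - 1) = 2 ^ (j - 1) := by
    have : 2 ^ j = 2 * 2 ^ (j - 1) := by rw [← pow_succ', Nat.sub_add_cancel (by omega)]
    omega
  have hlt : 2 ^ (j - 1) < 2 ^ j := Nat.pow_lt_pow_right (by norm_num) (by omega)
  have h4 : a (2 ^ (j - 1)) = 0 := by
    have h5 := h2 (2 ^ (j - 1)) hlt (pow_pos two_pos _).ne'
    rw [hhalf] at h5
    have h6 : Even (2 ^ (j - 1)) := even_two.pow_of_ne_zero (by omega)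
    rw [h6.neg_one_pow, one_mul] at h5
    omega
  have h5 : ∑ i ∈ (Finset.range (2 ^ j)).erase 0, (a i : ZMod 2) = 0 := by
    refine Finset.sum_involution (fun i _ => 2 ^ j - i) ?_ ?_ ?_ ?_
    · intro i hi
      obtain ⟨hi0, hi1⟩ := Finset.mem_erase.1 hi
      rw [← h3 i (Finset.mem_range.1 hi1) hi0, ← two_mul]
      have : (2 : ZMod 2) = 0 := by decide
      rw [this, zero_mul]
    · intro i hi hne heq
      obtain ⟨hi0, hi1⟩ := Finset.mem_erase.1 hi
      have hi2 := Finset.mem_range.1 hi1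
      apply hne
      have h6 : i = 2 ^ (j - 1) := by
        have : 2 ^ j = 2 * 2 ^ (j - 1) := by rw [← pow_succ', Nat.sub_add_cancel (by omega)]
        omega
      rw [h6, h4]
      rfl
    · intro i hi
      obtain ⟨hi0, hi1⟩ := Finset.mem_erase.1 hi
      have hi2 := Finset.mem_range.1 hi1
      rw [Finset.mem_erase, Finset.mem_range]
      omega
    · intro i hi
      obtain ⟨hi0, hi1⟩ := Finset.mem_erase.1 hi
      have hi2 := Finset.mem_range.1 hi1
      omega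
  have h6 : ∑ i ∈ Finset.range (2 ^ j), a i - a 0 =
      ∑ i ∈ (Finset.range (2 ^ j)).erase 0, a i := by
    rw [← Finset.add_sum_erase (Finset.range (2 ^ j)) a
      (Finset.mem_range.2 (by positivity : 0 < 2 ^ j))]
    ring
  rw [h6]
  have h7 : ((∑ i ∈ (Finset.range (2 ^ j)).erase 0, a i : ℤ) : ZMod 2) = 0 := by
    push_cast
    exact h5
  exact (ZMod.intCast_zmod_eq_zero_iff_dvd _ 2).1 h7 |> fun ⟨c, hc⟩ => ⟨c, by
    rw [hc]; push_cast; ring⟩

end Cfsg.Agent.H619.Tame
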