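import Mathlib

/-!
# The integer form of the columns of a cyclic maximal subgroup

`V s f = |s| ∑ f² - (∑ f)²` for an integer function on a finite set; lower bounds depending on the
parity of `∑ f`.
-/

set_option autoImplicit false

namespace Cfsg.Agent.H619.TameInt

open Finset

variable {α : Type*}

/-- `|s| ∑ f² - (∑ f)²`. -/
def V (s : Finset α) (f : α → ℤ) : ℤ := (s.card : ℤ) * ∑ i ∈ s, f i ^ 2 - (∑ i ∈ s, f i) ^ 2

theorem V_sub_const (s : Finset α) (f : α → ℤ) (c : ℤ) : V s (fun i => f i - c) = V s f := by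
  unfold V
  have h1 : ∑ i ∈ s, (f i - c) = ∑ i ∈ s, f i - s.card * c := by
    rw [Finset.sum_sub_distrib, Finset.sum_const, nsmul_eq_mul]
  have h2 : ∑ i ∈ s, (f i - c) ^ 2 = ∑ i ∈ s, f i ^ 2 - 2 * c * ∑ i ∈ s, f i + s.card * c ^ 2 := by
    rw [Finset.mul_sum, ← Finset.sum_sub_distrib, ← nsmul_eq_mul, ← Finset.sum_const,
      ← Finset.sum_add_distrib]
    exact Finset.sum_congr rfl fun i _ => by ring
  rw [h1, h2]
  ring

/-- `V ≥ r (m - r)`, `r` the residue of the sum. -/
theorem V_ge (s : Finset α) (f : α → ℤ) (r c : ℤ) (hr : ∑ i ∈ s, f i = s.card * c + r) :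
    r * (s.card - r) ≤ V s f := by
  rw [← V_sub_const s f c]
  unfold V
  have h1 : ∑ i ∈ s, (f i - c) = r := by
    rw [Finset.sum_sub_distrib, Finset.sum_const, nsmul_eq_mul, hr]; ring
  have h2 : ∑ i ∈ s, (f i - c) ≤ ∑ i ∈ s, (f i - c) ^ 2 := by
    refine Finset.sum_le_sum fun i _ => ?_
    have h3 := Int.le_self_sq (f i - c)
    exact h3
  rw [h1] at h2 ⊢
  have h4 : (s.card : ℤ) * r ≤ (s.card : ℤ) * ∑ i ∈ s, (f i - c) ^ 2 :=
    mul_le_mul_of_nonneg_left h2 (Nat.cast_nonneg _)
  nlinarith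

theorem V_nonneg (s : Finset α) (f : α → ℤ) : 0 ≤ V s f := by
  unfold V
  have h := sq_sum_le_card_mul_sum_sq (s := s) (f := f)
  linarith

/-- Odd sum. -/
theorem V_odd (s : Finset α) (f : α → ℤ) (hs : Even s.card) (hs0 : 0 < s.card)
    (ho : Odd (∑ i ∈ s, f i)) : (s.card : ℤ) - 1 ≤ V s f := by
  set m : ℤ := (s.card : ℤ) with hm
  have hm0 : 0 < m := by rw [hm]; exact_mod_cast hs0
  have hme : Even m := by rw [hm]; exact_mod_cast hs
  set A : ℤ := ∑ i ∈ s, f i with hA
  have h1 : A = m * (A / m) + A % m := (Int.mul_ediv_add_emod A m).symm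
  have h2 : 0 ≤ A % m := Int.emod_nonneg _ hm0.ne'
  have h3 : A % m < m := Int.emod_lt_of_pos _ hm0
  have h4 := V_ge s f (A % m) (A / m) h1
  have h5 : A % m ≠ 0 := by
    intro h0
    rw [h0, add_zero] at h1
    rw [h1] at ho
    exact (Int.not_even_iff_odd.2 ho) (hme.mul_right _)
  have h6 : 1 ≤ A % m := by omega
  have h7 : 0 ≤ (A % m - 1) * (m - A % m - 1) := mul_nonneg (by linarith) (by linarith)
  nlinarith

/-- Even sum. -/
theorem V_even (s : Finset α) (f : α → ℤ) (hs : Even s.card) (hs0 : 0 < s.card)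
    (he : Even (∑ i ∈ s, f i)) : V s f = 0 ∨ 2 * (s.card : ℤ) - 4 ≤ V s f := by
  classical
  set m : ℤ := (s.card : ℤ) with hm
  have hm0 : 0 < m := by rw [hm]; exact_mod_cast hs0
  have hme : Even m := by rw [hm]; exact_mod_cast hs
  set A : ℤ := ∑ i ∈ s, f i with hA
  have h1 : A = m * (A / m) + A % m := (Int.mul_ediv_add_emod A m).symm
  have h2 : 0 ≤ A % m := Int.emod_nonneg _ hm0.ne'
  have h3 : A % m < m := Int.emod_lt_of_pos _ hm0
  have h4 := V_ge s f (A % m) (A / m) h1
  have h5 : Even (A % m) := by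
    have : A % m = A - m * (A / m) := by linarith
    rw [this]
    exact he.sub (hme.mul_right _)
  by_cases h0 : A % m = 0
  · -- shift
    by_cases hV : V s f = 0
    · exact Or.inl hV
    right
    set g : α → ℤ := fun i => f i - A / m with hg
    have hgs : ∑ i ∈ s, g i = 0 := by
      rw [hg, Finset.sum_sub_distrib, Finset.sum_const, nsmul_eq_mul, ← hA]
      rw [h0, add_zero] at h1
      have h6 : (s.card : ℤ) * (A / m) = m * (A / m) := by rw [hm]
      linarith
    have hVg : V s g = V s f := V_sub_const s f _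
    rw [← hVg] at hV ⊢
    unfold V at hV ⊢
    rw [hgs] at hV ⊢
    have h7 : ∑ i ∈ s, g i ^ 2 ≠ 0 := by
      intro h; apply hV; rw [h]; ring
    have h8 : ∃ i ∈ s, g i ≠ 0 := by
      by_contra hcon
      push Not at hcon
      apply h7
      exact Finset.sum_eq_zero fun i hi => by rw [hcon i hi]; ring
    obtain ⟨i, hi, hgi⟩ := h8
    have h9 : ∃ j ∈ s.erase i, g j ≠ 0 := by
      by_contra hcon
      push Not at hcon
      rw [← Finset.add_sum_erase s g hi, Finset.sum_eq_zero hcon, add_zero] at hgs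
      exact hgi hgs
    obtain ⟨j, hj, hgj⟩ := h9
    have h10 : 2 ≤ ∑ i ∈ s, g i ^ 2 := by
      rw [← Finset.add_sum_erase s _ hi, ← Finset.add_sum_erase (s.erase i) _ hj]
      have a1 : 0 < g i ^ 2 := by positivity
      have a2 : 0 < g j ^ 2 := by positivity
      have a3 : 0 ≤ ∑ x ∈ (s.erase i).erase j, g x ^ 2 := Finset.sum_nonneg fun _ _ => sq_nonneg _
      linarith
    nlinarith
  · right
    have h6 : 2 ≤ A % m := by
      obtain ⟨k, hk⟩ := h5
      omega
    have h7 : A % m ≤ m - 2 := by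
      obtain ⟨k, hk⟩ := h5
      obtain ⟨l, hl⟩ := hme
      omega
    have h8 : 0 ≤ (A % m - 2) * (m - A % m - 2) := mul_nonneg (by linarith) (by linarith)
    nlinarith

/-- Two families: total sum odd. -/
theorem V_add_odd (s t : Finset α) (f : α → ℤ) (hs : Even s.card) (hs0 : 0 < s.card)
    (hst : t.card = s.card) (ho : Odd (∑ i ∈ s, f i + ∑ i ∈ t, f i)) :
    (s.card : ℤ) - 1 ≤ V s f + V t f := by
  rcases Int.even_or_odd (∑ i ∈ s, f i) with h | h
  · have h1 : Odd (∑ i ∈ t, f i) := by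
      have h2 := ho.sub_even h
      rwa [add_sub_cancel_left] at h2
    have h2 := V_odd t f (by rwa [hst]) (by rwa [hst]) h1
    have h3 := V_nonneg s f
    rw [hst] at h2
    linarith
  · have h2 := V_odd s f hs hs0 h
    have h3 := V_nonneg t f
    linarith

/-- Two families: total sum even. -/
theorem V_add_even (s t : Finset α) (f : α → ℤ) (hs : Even s.card) (hs0 : 0 < s.card)
    (hst : t.card = s.card) (ho : Even (∑ i ∈ s, f i + ∑ i ∈ t, f i)) :
    V s f + V t f = 0 ∨ 2 * (s.card : ℤ) - 4 ≤ V s f + V t f := by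
  have h3 := V_nonneg s f
  have h4 := V_nonneg t f
  rcases Int.even_or_odd (∑ i ∈ s, f i) with h | h
  · have h1 : Even (∑ i ∈ t, f i) := by
      have h2 := ho.sub h
      rwa [add_sub_cancel_left] at h2
    rcases V_even s f hs hs0 h with h5 | h5
    · rcases V_even t f (by rwa [hst]) (by rwa [hst]) h1 with h6 | h6
      · left; rw [h5, h6]; rfl
      · right; rw [hst] at h6; linarith
    · right; linarith
  · have h1 : Odd (∑ i ∈ t, f i) := by
      have h2 := ho.sub_odd h
      rwa [add_sub_cancel_left] at h2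
    have h5 := V_odd s f hs hs0 h
    have h6 := V_odd t f (by rwa [hst]) (by rwa [hst]) h1
    rw [hst] at h6
    right; linarith

end Cfsg.Agent.H619.TameInt
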