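import Mathlib
import Cfsg.Agent.H613.SubDef
import Cfsg.Agent.H649.LocalDefect
import Cfsg.Agent.H650.StarAlg
import Cfsg.Agent.H652.CtrOne

/-!
# Transport of Brauer pairs and columns from `C_G(Q)` to `G`

`locIdx Q c = (Q R, h)` for a pair `c = (R, h)` of `C_G(Q)`.

* `leIdx_loc`: `c ≤ c'` implies `locIdx Q c ≤ locIdx Q c'`;
* `W_loc`, `Cn_loc`: columns and contributions.
-/

set_option autoImplicit false
set_option linter.unusedSectionVars false

open Cfsg
open scoped ComplexConjugate

namespace Cfsg.Agent.H619.Tame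

open Cfsg.Agent.Blocks.Blau Cfsg.Agent.Blocks.Local Cfsg.Agent.Characters
open Cfsg.Agent.H613.RegGram Cfsg.Agent.H613.Contrib Cfsg.Agent.H613.SubSys
open Cfsg.Agent.H613.SubFus
open Cfsg.Agent.H639 Cfsg.Agent.H649 Cfsg.Agent.H651

universe u

variable {G : Type u} [Group G] {p : ℕ} {M : Ideal AlgInt}

/-- The pair of `G` corresponding to a pair of `C_G(Q)`. -/
def locIdx (Q : Subgroup G) (c : BrauerPairIdx (Subgroup.centralizer (Q : Set G))) :
    BrauerPairIdx G := ⟨locSub Q c.1, locBlk Q c.1 c.2⟩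

theorem locSub_mono (Q : Subgroup G) {S R : Subgroup (Subgroup.centralizer (Q : Set G))}
    (h : S ≤ R) : locSub Q S ≤ locSub Q R :=
  sup_le_sup_left (Subgroup.map_mono h) Q

theorem brauerOmega_loc (Q : Subgroup G) (S R : Subgroup (Subgroup.centralizer (Q : Set G)))
    (hSR : S ≤ R)
    (e : Set (IrrCharacter (Subgroup.centralizer (S : Set (Subgroup.centralizer (Q : Set G))))))
    (ξ : IrrCharacter (Subgroup.centralizer (R : Set (Subgroup.centralizer (Q : Set G))))) :
    brauerOmega (locSub Q R) (subgroupBlockCoeff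
      (Subgroup.centralizer ((locSub Q S : Subgroup G) : Set G)) (locBlk Q S e))
      (irrMap (locIso Q R) ξ : _ → ℂ) =
    brauerOmega R (subgroupBlockCoeff (Subgroup.centralizer (S : Set _)) e) (ξ : _ → ℂ) := by
  rw [brauerOmega, brauerOmega]
  refine (finsum_eq_of_bijective (locIso Q R) (locIso Q R).bijective fun x => ?_).symm
  rw [irrMap_apply', irrMap_one, locIso_coe]
  congr 2
  have hx : (x : Subgroup.centralizer (Q : Set G)) ∈
      Subgroup.centralizer (S : Set (Subgroup.centralizer (Q : Set G))) :=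
    Subgroup.centralizer_le hSR x.2
  set x' : Subgroup.centralizer (S : Set (Subgroup.centralizer (Q : Set G))) := ⟨_, hx⟩ with hx'
  have h1 := subgroupBlockCoeff_coe
    (Subgroup.centralizer (S : Set (Subgroup.centralizer (Q : Set G)))) e x'
  have h2 := subgroupBlockCoeff_coe
    (Subgroup.centralizer ((locSub Q S : Subgroup G) : Set G)) (locBlk Q S e)
    (locIso Q S x')
  have h4 := blockCoeff_blkMap (locIso Q S) e x'
  exact h1.trans (h4.symm.trans h2.symm)

theorem isNormalSubpair_loc [M.IsPrime] {Q : Subgroup G} (hQ : IsPGroup p Q)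
    {S R : Subgroup (Subgroup.centralizer (Q : Set G))}
    {e : Set (IrrCharacter (Subgroup.centralizer (S : Set (Subgroup.centralizer (Q : Set G)))))}
    {h : Set (IrrCharacter (Subgroup.centralizer (R : Set (Subgroup.centralizer (Q : Set G)))))}
    (hn : IsNormalSubpair p M S e R h) :
    IsNormalSubpair p M (locSub Q S) (locBlk Q S e) (locSub Q R) (locBlk Q R h) := by
  obtain ⟨⟨hS, he⟩, ⟨hR, hh⟩, hSR, hRN, hst, hom⟩ := hn
  have hbe : IsPBlock M (locBlk Q S e) := isPBlock_blkMap he
  have key : locSub Q R ≤ idxStab ⟨locSub Q S, locBlk Q S e⟩ := by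
    refine sup_le ?_ ?_
    · exact (le_locSub Q S).trans (le_idxStab hbe)
    · rintro _ ⟨r, hr, rfl⟩
      refine conjIdx_locBlk he ?_
      exact (conjIdx_eq_iff he r).2 ⟨hRN hr, hst r hr⟩
  refine ⟨⟨isPGroup_locSub hQ hS, hbe⟩, ⟨isPGroup_locSub hQ hR, isPBlock_blkMap hh⟩,
    locSub_mono Q hSR, fun x hx => ((conjIdx_eq_iff hbe x).1 (key hx)).1,
    fun x hx => ((conjIdx_eq_iff hbe x).1 (key hx)).2, ?_⟩
  rintro _ ⟨ξ, hξ, rfl⟩
  rw [brauerOmega_loc Q S R hSR]
  exact hom ξ hξ

theorem leIdx_loc [M.IsPrime] {Q : Subgroup G} (hQ : IsPGroup p Q)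
    {c c' : BrauerPairIdx (Subgroup.centralizer (Q : Set G))} (h : LEIdx p M c c') :
    LEIdx p M (locIdx Q c) (locIdx Q c') := by
  refine Relation.ReflTransGen.lift (r := NormalSubpairRel p M) (p := NormalSubpairRel p M)
    (locIdx Q) (fun x y hxy => ?_) _ _ h
  exact isNormalSubpair_loc hQ hxy

section W

variable [Finite G]

/-- The isomorphism of the centralizers. -/
def cIso (Q : Subgroup G) (b : BrauerPairIdx (Subgroup.centralizer (Q : Set G))) :
    Subgroup.centralizer (b.1 : Set (Subgroup.centralizer (Q : Set G))) ≃*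
      Subgroup.centralizer ((locIdx Q b).1 : Set G) := locIso Q b.1

omit [Finite G] in
theorem cIso_coe (Q : Subgroup G) (b : BrauerPairIdx (Subgroup.centralizer (Q : Set G)))
    (y : Subgroup.centralizer (b.1 : Set (Subgroup.centralizer (Q : Set G)))) :
    ((cIso Q b y : Subgroup.centralizer ((locIdx Q b).1 : Set G)) : G) =
      ((y : Subgroup.centralizer (Q : Set G)) : G) := rfl

/-- The character of `C_G((locIdx Q b).1)`. -/
def lch (Q : Subgroup G) (b : BrauerPairIdx (Subgroup.centralizer (Q : Set G)))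
    (η : IrrCharacter (Subgroup.centralizer (b.1 : Set (Subgroup.centralizer (Q : Set G))))) :
    IrrCharacter (Subgroup.centralizer ((locIdx Q b).1 : Set G)) := irrMap (cIso Q b) η

omit [Finite G] in
theorem lch_injective (Q : Subgroup G) (b : BrauerPairIdx (Subgroup.centralizer (Q : Set G))) :
    Function.Injective (lch Q b) := irrMap_injective (cIso Q b)

omit [Finite G] in
theorem lch_apply (Q : Subgroup G) (b : BrauerPairIdx (Subgroup.centralizer (Q : Set G)))
    (η : IrrCharacter (Subgroup.centralizer (b.1 : Set (Subgroup.centralizer (Q : Set G)))))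
    (y : Subgroup.centralizer (b.1 : Set (Subgroup.centralizer (Q : Set G)))) :
    (lch Q b η : Subgroup.centralizer ((locIdx Q b).1 : Set G) → ℂ) (cIso Q b y) =
      (η : Subgroup.centralizer (b.1 : Set (Subgroup.centralizer (Q : Set G))) → ℂ) y :=
  irrMap_apply' (cIso Q b) η y

omit [Finite G] in
theorem locIdx_snd (Q : Subgroup G) (b : BrauerPairIdx (Subgroup.centralizer (Q : Set G))) :
    (locIdx Q b).2 = lch Q b '' b.2 := rfl

/-- Columns of a subsection of `C_G(Q)`. -/
theorem W_loc (Q : Subgroup G) (b : BrauerPairIdx (Subgroup.centralizer (Q : Set G)))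
    (u : Subgroup.centralizer (Q : Set G)) (χ : G → ℂ)
    (η : IrrCharacter (Subgroup.centralizer (b.1 : Set (Subgroup.centralizer (Q : Set G))))) :
    W p (u : G) (locIdx Q b) χ (lch Q b η) = W p u b (fun h => χ (h : G)) η := by
  classical
  have := Fintype.ofFinite (Subgroup.centralizer (b.1 : Set (Subgroup.centralizer (Q : Set G))))
  have := Fintype.ofFinite (Subgroup.centralizer ((locIdx Q b).1 : Set G))
  rw [W_eq_sum, W_eq_sum, ← Nat.card_congr (cIso Q b).toEquiv]
  congr 1
  rw [Finset.sum_filter, Finset.sum_filter]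
  symm
  refine Fintype.sum_equiv (cIso Q b).toEquiv _ _ fun y => ?_
  have h1 : orderOf (cIso Q b y) = orderOf y := MulEquiv.orderOf_eq _ y
  change _ = if ¬ p ∣ orderOf (cIso Q b y) then
    χ ((u : G) * ((cIso Q b y : Subgroup.centralizer ((locIdx Q b).1 : Set G)) : G)) *
      conj ((lch Q b η : Subgroup.centralizer ((locIdx Q b).1 : Set G) → ℂ) (cIso Q b y)) else 0
  rw [h1, lch_apply, cIso_coe]
  rfl

theorem Cn_loc (Q : Subgroup G) (b : BrauerPairIdx (Subgroup.centralizer (Q : Set G)))
    (u : Subgroup.centralizer (Q : Set G)) (χ ψ : G → ℂ) :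
    Cn p (u : G) (locIdx Q b) χ ψ = Cn p u b (fun h => χ (h : G)) (fun h => ψ (h : G)) := by
  unfold Cn
  rw [locIdx_snd, finsum_mem_image ((lch_injective Q b).injOn)]
  refine finsum_mem_congr rfl fun η _ => ?_
  rw [W_loc, W_loc]

end W

end Cfsg.Agent.H619.Tame
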