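import Mathlib
import Cfsg.Agent.H619.TameLoc
import Cfsg.Agent.H652.NilIrr

/-!
# Columns of `star η χ`

* `W_star`, `Cn_star`: columns and contributions of `star η χ`;
* `classInner_star_sys`: the inner products of `star η χ` in terms of a complete system of
  subsections.
-/

set_option autoImplicit false
set_option linter.unusedSectionVars false

open Cfsg
open scoped ComplexConjugate

namespace Cfsg.Agent.H619.Tame

open Cfsg.Agent.Blocks.Blau Cfsg.Agent.Blocks.Local Cfsg.Agent.Characters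
open Cfsg.Agent.H613.RegGram Cfsg.Agent.H613.Contrib Cfsg.Agent.H613.SubSys
open Cfsg.Agent.H613.SubFus Cfsg.Agent.H613.ContribVal
open Cfsg.Agent.H639 Cfsg.Agent.H649 Cfsg.Agent.H651

universe u

section gram

variable {K : Type u} [Group K] [Fintype K] {p : ℕ} [Fact p.Prime] {M : Ideal AlgInt}

theorem rg_blockPart (hM : IsPModular p M) {f : Set (IrrCharacter K)} (hf : IsPBlock M f)
    {θ : K → ℂ} (hθ : IsClassFunction K θ) {η : IrrCharacter K} (hη : η ∈ f) :
    rg p (blockPart f θ) (η : K → ℂ) = rg p θ (η : K → ℂ) := by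
  classical
  have := Core.finite_irr (G := K)
  have := Fintype.ofFinite (IrrCharacter K)
  rw [H650.blockPart_eq_sum_filter, rg_sum_smul_left]
  conv_rhs => rw [Core.classFunction_eq_sum hθ]
  rw [rg_sum_smul_left, Finset.sum_filter]
  refine Finset.sum_congr rfl fun ξ _ => ?_
  split_ifs with h
  · rfl
  · rw [rg_eq_zero' hM hf h hη, mul_zero]

theorem rg_congr_reg {θ θ' : K → ℂ} (h : ∀ s : K, ¬ p ∣ orderOf s → θ s = θ' s) (η : K → ℂ) :
    rg p θ η = rg p θ' η := by
  classical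
  rw [rg_def, rg_def, pair_eq_sum_filter, pair_eq_sum_filter]
  congr 1
  exact Finset.sum_congr rfl fun s hs => by rw [h s (Finset.mem_filter.1 hs).2]

theorem rg_smul_left (c : ℂ) (θ η : K → ℂ) : rg p (fun x => c * θ x) η = c * rg p θ η := by
  classical
  rw [rg_def, rg_def, pair_eq_sum_filter, pair_eq_sum_filter, mul_left_comm]
  congr 1
  rw [Finset.mul_sum]
  exact Finset.sum_congr rfl fun s _ => by ring

end gram

variable {G : Type u} [Group G] [Finite G] {p : ℕ} [Fact p.Prime] {M : Ideal AlgInt}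
  {B : Set (IrrCharacter G)} {a : BrauerPairIdx G}

theorem W_mk (u : G) (f : Set (IrrCharacter (H650.Cz u))) (χ : G → ℂ)
    (θ : IrrCharacter (H650.Cz u)) [Fintype (H650.Cz u)] :
    W p u (⟨Subgroup.zpowers u, f⟩ : BrauerPairIdx G) χ θ =
      rg p (H650.secFun u χ) (θ : H650.Cz u → ℂ) := by
  unfold W wt
  rw [Subsingleton.elim (Fintype.ofFinite _) ‹Fintype (H650.Cz u)›]
  rfl

theorem W_star (hM : IsPModular p M) {η : G → ℂ} (hη : IsStable p M a η) {χ : G → ℂ}
    (hχ : IsClassFunction G χ) {u : G} (hu : ∃ k : ℕ, orderOf u = p ^ k)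
    {b : BrauerPairIdx G} (hb1 : b.1 = Subgroup.zpowers u) (hb : IsPBlock M b.2)
    {θ : IrrCharacter (Subgroup.centralizer (b.1 : Set G))} (hθ : θ ∈ b.2) :
    W p u b (H651.star p M a η χ) θ = etaW p M a η u b * W p u b χ θ := by
  obtain ⟨Q, f⟩ := b
  have h1 : Q = Subgroup.zpowers u := hb1
  subst h1
  have : Fintype (H650.Cz u) := Fintype.ofFinite _
  have h2 := W_mk (p := p) u f (H651.star p M a η χ) θ
  have h3 := W_mk (p := p) u f χ θ
  refine h2.trans ?_
  refine Eq.trans ?_ (congrArg (fun t => etaW p M a η u ⟨Subgroup.zpowers u, f⟩ * t) h3.symm)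
  have hc := H650.isClassFunction_secFun hχ u
  have hc' := H650.isClassFunction_secFun (H650.isClassFunction_star hη hχ (M := M)) u
  rw [← rg_blockPart hM hb hc' hθ, ← rg_blockPart hM hb hc hθ, ← rg_smul_left]
  refine rg_congr_reg (fun s hs => ?_) _
  exact H650.blockPart_secFun_starW hM (H650.isWInv_etaW hη) hχ hu hb hs

theorem Cn_star (hM : IsPModular p M) {η : G → ℂ} (hη : IsStable p M a η) {χ : G → ℂ}
    (hχ : IsClassFunction G χ) {u : G} (hu : ∃ k : ℕ, orderOf u = p ^ k)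
    {b : BrauerPairIdx G} (hb1 : b.1 = Subgroup.zpowers u) (hb : IsPBlock M b.2) (ψ : G → ℂ) :
    Cn p u b (H651.star p M a η χ) ψ = etaW p M a η u b * Cn p u b χ ψ := by
  have := Core.finite_irr (G := Subgroup.centralizer (b.1 : Set G))
  have := Fintype.ofFinite b.2
  rw [Cn_eq_sum, Cn_eq_sum, Finset.mul_sum]
  refine Finset.sum_congr rfl fun θ _ => ?_
  rw [W_star hM hη hχ hu hb1 hb θ.2, mul_assoc]

theorem etaW_bel (hM : IsPModular p M) (ha : IsBrauerPair p M a.1 a.2) {η : G → ℂ}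
    (hη : IsStable p M a η) {u : G} (hu : u ∈ a.1) :
    etaW p M a η u (bel p M a u) = η u := by
  have h1 : LEIdx p M (conjIdx 1 (bel p M a u)) a := by
    rw [conjIdx_one]
    exact bel_le hM ha hu
  have h2 := etaW_eq hη rfl h1
  rw [one_mul, inv_one, mul_one] at h2
  exact h2

/-- A class function in the span of the block. -/
theorem eq_sum_of_mem [Fintype G] [Fintype B] {f : G → ℂ} (hf : IsClassFunction G f)
    (h : ∀ ζ : IrrCharacter G, ζ ∉ B → classInner f (ζ : G → ℂ) = 0) :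
    f = fun g => ∑ ζ : B, classInner f (ζ : G → ℂ) * (ζ : G → ℂ) g := by
  have := Core.finite_irr (G := G)
  have := Fintype.ofFinite (IrrCharacter G)
  funext g
  conv_lhs => rw [Core.classFunction_eq_sum hf]
  rw [Finset.sum_apply]
  rw [sum_eq_sum_coe B]
  · rfl
  · intro ζ hζ
    rw [Pi.smul_apply, h ζ hζ, zero_smul]

theorem Cn_sum_left {κ : Type*} (s : Finset κ) (u : G) (b : BrauerPairIdx G) (c : κ → ℂ)
    (f : κ → G → ℂ) (ψ : G → ℂ) :
    Cn p u b (fun x => ∑ i ∈ s, c i * f i x) ψ = ∑ i ∈ s, c i * Cn p u b (f i) ψ := by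
  have := Core.finite_irr (G := Subgroup.centralizer (b.1 : Set G))
  have := Fintype.ofFinite b.2
  simp only [Cn_eq_sum, W_sum, Finset.sum_mul, Finset.mul_sum]
  rw [Finset.sum_comm]
  exact Finset.sum_congr rfl fun i _ => Finset.sum_congr rfl fun η _ => by ring

theorem rg_sum_left [Fintype G] {κ : Type*} (s : Finset κ) (c : κ → ℂ) (f : κ → G → ℂ)
    (ψ : G → ℂ) : rg p (fun x => ∑ i ∈ s, c i * f i x) ψ = ∑ i ∈ s, c i * rg p (f i) ψ := by
  have h : (fun x => ∑ i ∈ s, c i * f i x) = ∑ i ∈ s, c i • f i := by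
    funext x
    rw [Finset.sum_apply]
    rfl
  rw [h, rg_sum_smul_left]

/-- The inner products of a class function in the span of the block. -/
theorem classInner_eq_sys [Fintype G] [Fintype B] (hM : IsPModular p M) (hB : IsPBlock M B)
    {ι : Type*} [Fintype ι] {r : ι → G} {b : ι → BrauerPairIdx G} (h : IsSys p M B r b)
    {f : G → ℂ} (hf : IsClassFunction G f)
    (hfB : ∀ ζ : IrrCharacter G, ζ ∉ B → classInner f (ζ : G → ℂ) = 0)
    {ψ : IrrCharacter G} (hψ : ψ ∈ B) :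
    classInner f (ψ : G → ℂ) = rg p f (ψ : G → ℂ) + ∑ i, Cn p (r i) (b i) f (ψ : G → ℂ) := by
  classical
  have h1 := eq_sum_of_mem hf hfB
  have h2 : rg p f (ψ : G → ℂ) =
      ∑ ζ : B, classInner f (ζ : G → ℂ) * rg p (ζ : G → ℂ) (ψ : G → ℂ) := by
    conv_lhs => rw [h1]
    exact rg_sum_left _ _ (fun ζ : B => ((ζ : IrrCharacter G) : G → ℂ)) _
  have h3 : ∀ i, Cn p (r i) (b i) f (ψ : G → ℂ) =
      ∑ ζ : B, classInner f (ζ : G → ℂ) * Cn p (r i) (b i) (ζ : G → ℂ) (ψ : G → ℂ) := by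
    intro i
    conv_lhs => rw [h1]
    exact Cn_sum_left _ _ _ _ (fun ζ : B => ((ζ : IrrCharacter G) : G → ℂ)) _
  rw [h2, Finset.sum_congr rfl fun i _ => h3 i, Finset.sum_comm, ← Finset.sum_add_distrib]
  have h4 : ∀ ζ : B, classInner f (ζ : G → ℂ) * rg p (ζ : G → ℂ) (ψ : G → ℂ) +
      ∑ i, classInner f (ζ : G → ℂ) * Cn p (r i) (b i) (ζ : G → ℂ) (ψ : G → ℂ) =
      classInner f (ζ : G → ℂ) * if (ζ : IrrCharacter G) = ψ then 1 else 0 := by
    intro ζ
    rw [← h.rg_add_sum hM hB ζ.2 hψ, mul_add, Finset.mul_sum]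
  rw [Finset.sum_congr rfl fun ζ _ => h4 ζ, Finset.sum_eq_single (⟨ψ, hψ⟩ : B)]
  · rw [if_pos rfl, mul_one]
  · intro ζ _ hζ
    rw [if_neg (fun h' => hζ (Subtype.ext h')), mul_zero]
  · exact fun h' => absurd (Finset.mem_univ _) h'

/-- The inner products of `star η χ`. -/
theorem classInner_star_sys [Fintype G] [Fintype B] (hM : IsPModular p M)
    (hmax : IsMaximalBrauerPair p M B a.1 a.2) {ι : Type*} [Fintype ι] {r : ι → G}
    (hr : ∀ i, r i ∈ a.1) (h : IsSys p M B r fun i => bel p M a (r i)) {η : G → ℂ}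
    (hη : IsStable p M a η) {χ ψ : IrrCharacter G} (hχ : χ ∈ B) (hψ : ψ ∈ B) :
    classInner (H651.star p M a η (χ : G → ℂ)) (ψ : G → ℂ) =
      η 1 * rg p (χ : G → ℂ) (ψ : G → ℂ) +
        ∑ i, η (r i) * Cn p (r i) (bel p M a (r i)) (χ : G → ℂ) (ψ : G → ℂ) := by
  have hB := hmax.1.2.1
  have hc := Core.isIrr_isClassFunction χ.2
  rw [classInner_eq_sys hM hB h (H650.isClassFunction_star hη hc)
    (fun ζ hζ => H650.classInner_star_of_notMem hM hB hχ hζ) hψ]
  congr 1
  · rw [← rg_smul_left]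
    exact rg_congr_reg (fun s hs => H650.star_apply_reg hM hmax hη hχ hs) _
  · refine Finset.sum_congr rfl fun i _ => ?_
    rw [Cn_star hM hη hc (h.sub i).pelt rfl (isPBlock_bel hM hmax.1.1 (hr i)),
      etaW_bel hM hmax.1.1 hη (hr i)]

end Cfsg.Agent.H619.Tame
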