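import Mathlib
import Cfsg.Agent.H619.TameStar
import Cfsg.Agent.H652.NilSetup

/-!
# Columns of a nilpotent block with abelian defect group

`nil_key`: for a nilpotent block `B` with maximal pair `a`, `a.1` abelian, the contributions are
`Cn u θ θ' = F θ u * conj (F θ' u) / |a.1|` with `F θ u = ∑ λ, classInner θ (Ψ λ) * λ u`.
-/

set_option autoImplicit false
set_option linter.unusedSectionVars false

open Cfsg
open scoped ComplexConjugate

namespace Cfsg.Agent.H619.Tame

open Cfsg.Agent.Blocks.Blau Cfsg.Agent.Blocks.Local Cfsg.Agent.Characters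
open Cfsg.Agent.H613.RegGram Cfsg.Agent.H613.Contrib Cfsg.Agent.H613.SubSys
open Cfsg.Agent.H613.SubFus Cfsg.Agent.H613.ContribVal
open Cfsg.Agent.H639 Cfsg.Agent.H649 Cfsg.Agent.H651
open Cfsg.Agent.H652.NilIrr Cfsg.Agent.H652.CtrOne Cfsg.Agent.H652.DoubleCount

universe u

variable {G : Type u} [Group G] [Finite G] {p : ℕ} [Fact p.Prime] {M : Ideal AlgInt}
  {B : Set (IrrCharacter G)} {a : BrauerPairIdx G}

theorem bP_eq_bel (hM : IsPModular p M) (ha : IsBrauerPair p M a.1 a.2) {u : G}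
    (hu : u ∈ a.1) : bP p M a u = bel p M a u := by
  have hp : M.IsPrime := isPrime_of_isPModular hM
  have := Fintype.ofFinite G
  obtain ⟨h1, h2⟩ := bP_spec hM ha hu
  exact eq_bel hM ha h1 h2

/-- `ctr` and `Cn`. -/
theorem ctr_eq_Cn [Fintype G] (hM : IsPModular p M) {u : G} {b : BrauerPairIdx G}
    (hb : b.1 = Subgroup.zpowers u) (hbl : IsPBlock M b.2) {χ ψ : G → ℂ}
    (hχ : IsClassFunction G χ) (hψ : IsClassFunction G ψ) :
    H652.Ctr.ctr p u b χ ψ = Cn p u b χ ψ := by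
  have := Fintype.ofFinite (Subgroup.centralizer (b.1 : Set G))
  have := Core.finite_irr (G := Subgroup.centralizer (b.1 : Set G))
  have := Fintype.ofFinite b.2
  rw [Cn_eq, ctr_eq_contr' hM hb hbl hχ hψ]

/-- Only the members of the block contribute to the columns. -/
theorem W_eq_sum_block [Fintype G] (hM : IsPModular p M) [Fintype B]
    (hmax : IsMaximalBrauerPair p M B a.1 a.2) {u : G} (hu : u ∈ a.1) {θ : G → ℂ}
    (hθ : IsClassFunction G θ)
    {η : IrrCharacter (Subgroup.centralizer ((bel p M a u).1 : Set G))}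
    (hη : η ∈ (bel p M a u).2) :
    W p u (bel p M a u) θ η =
      ∑ ζ : B, classInner θ (ζ : G → ℂ) * W p u (bel p M a u) (ζ : G → ℂ) η := by
  have hp : M.IsPrime := isPrime_of_isPModular hM
  have := Core.finite_irr (G := G)
  have := Fintype.ofFinite (IrrCharacter G)
  have h1 : θ = fun g => ∑ ζ : IrrCharacter G, classInner θ (ζ : G → ℂ) * (ζ : G → ℂ) g := by
    funext g
    conv_lhs => rw [Core.classFunction_eq_sum hθ]
    rw [Finset.sum_apply]
    rfl
  have hsub := isSubsec_bel hM hmax hu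
  have h2 : W p u (bel p M a u) θ η =
      ∑ ζ : IrrCharacter G, classInner θ (ζ : G → ℂ) * W p u (bel p M a u) (ζ : G → ℂ) η := by
    conv_lhs => rw [h1]
    exact W_sum p _ u _ _ (fun ζ : IrrCharacter G => (ζ : G → ℂ)) η
  rw [h2, sum_eq_sum_coe B]
  intro ζ hζ
  rw [W_eq_zero hM hsub.pelt hsub.fst (Blocks.Basic.isPBlock_blockOf ζ) hsub.ind.1 ?_
    (Blocks.Basic.mem_blockOf_self ζ) hη, mul_zero]
  intro hcon
  apply hζ
  rw [← Blocks.CentralizerSum.inducedBlock_unique hcon hsub.ind]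
  exact Blocks.Basic.mem_blockOf_self ζ

theorem nil_key [Fintype G] (hM : IsPModular p M) (hmax : IsMaximalBrauerPair p M B a.1 a.2)
    (hnil : IsNilpotentBlock p M B) (hab : ∀ x ∈ a.1, ∀ y ∈ a.1, x * y = y * x)
    [Fintype (IrrCharacter a.1)] :
    ∃ Ψ : IrrCharacter a.1 → IrrCharacter G, ∀ u (hu : u ∈ a.1), ∀ θ θ' : G → ℂ,
      IsClassFunction G θ → IsClassFunction G θ' → Cn p u (bel p M a u) θ θ' =
        (∑ l, classInner θ (Ψ l : G → ℂ) * (l : a.1 → ℂ) ⟨u, hu⟩) *
          conj (∑ l, classInner θ' (Ψ l : G → ℂ) * (l : a.1 → ℂ) ⟨u, hu⟩) / Nat.card a.1 := by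
  classical
  have hp : M.IsPrime := isPrime_of_isPModular hM
  have := Core.finite_irr (G := G)
  have := Fintype.ofFinite B
  have hin := H652.NilSetup.innerFus hM hmax hnil
  have hloc : ∀ v ∈ a.1, p ^ blockDefect p (bP p M a v).2 =
      Nat.card (a.1 ⊓ Subgroup.centralizer ({v} : Set G) : Subgroup G) :=
    fun v hv => H652.NilSetup.card_loc hM hmax hnil hv
  obtain ⟨χ, hχ, h0⟩ := H648.HeightForm.exists_height_zero (p := p) hmax.1.2.1
  refine ⟨psi hM hmax hin hloc hχ h0, fun u hu => ?_⟩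
  set b := bel p M a u with hb
  set F : (G → ℂ) → ℂ := fun θ => ∑ l, classInner θ (psi hM hmax hin hloc hχ h0 l : G → ℂ) *
    (l : a.1 → ℂ) ⟨u, hu⟩ with hF
  have hsub := isSubsec_bel hM hmax hu
  have hW : ∀ θ : G → ℂ, IsClassFunction G θ → ∀ η : IrrCharacter
      (Subgroup.centralizer (b.1 : Set G)), η ∈ b.2 → W p u b θ η = F θ * W p u b (χ : G → ℂ) η := by
    intro θ hθ η hη
    refine (W_eq_sum_block hM hmax hu hθ hη).trans ?_
    let Φ : IrrCharacter a.1 → B := fun l =>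
      ⟨psi hM hmax hin hloc hχ h0 l, psi_mem hM hmax hin hloc hχ h0 l⟩
    have hΦ : Function.Bijective Φ := by
      constructor
      · intro l l' h
        exact psi_injective hM hmax hin hloc hχ h0 (congrArg Subtype.val h)
      · rintro ⟨ψ, hψ⟩
        obtain ⟨l, hl⟩ := psi_surjective hM hmax hin hloc hχ h0 hψ
        exact ⟨l, Subtype.ext hl⟩
    rw [hF, Finset.sum_mul]
    refine (Function.Bijective.sum_comp hΦ (fun ζ : B => classInner θ (ζ : G → ℂ) *
      W p u b (ζ : G → ℂ) η)).symm.trans ?_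
    refine Finset.sum_congr rfl fun l _ => ?_
    have hl : W p u b (psi hM hmax hin hloc hχ h0 l : G → ℂ) η =
        (l : a.1 → ℂ) ⟨u, hu⟩ * W p u b (χ : G → ℂ) η := by
      have hs := isStable_ext0 hin (Core.isIrr_isClassFunction l.2)
      have h1 := W_star hM hs (Core.isIrr_isClassFunction χ.2) hsub.pelt hsub.fst hsub.ind.1 hη
      rw [etaW_bel hM hmax.1.1 hs hu, ext0_of_mem _ hu] at h1
      exact h1
    change classInner θ (psi hM hmax hin hloc hχ h0 l : G → ℂ) *
      W p u b (psi hM hmax hin hloc hχ h0 l : G → ℂ) η = _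
    rw [hl, mul_assoc]
  have hone : Cn p u b (χ : G → ℂ) (χ : G → ℂ) = (Nat.card a.1 : ℂ)⁻¹ := by
    have h1 := cc_eq_one hM hmax hin hloc hχ h0 hu
    unfold cc at h1
    have h2 := hloc u hu
    have h3 : a.1 ⊓ Subgroup.centralizer ({u} : Set G) = a.1 := by
      refine inf_eq_left.2 fun x hx => ?_
      rw [Subgroup.mem_centralizer_singleton_iff]
      exact hab x hx u hu
    rw [h3] at h2
    rw [bP_eq_bel hM hmax.1.1 hu] at h1 h2
    rw [ctr_eq_Cn hM hsub.fst hsub.ind.1 (Core.isIrr_isClassFunction χ.2)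
      (Core.isIrr_isClassFunction χ.2)] at h1
    have h4 : ((p : ℂ) ^ blockDefect p (bel p M a u).2) = (Nat.card a.1 : ℂ) := by
      exact_mod_cast h2
    rw [h4] at h1
    exact eq_inv_of_mul_eq_one_right h1
  intro θ θ' hθ hθ'
  have := Core.finite_irr (G := Subgroup.centralizer (b.1 : Set G))
  have := Fintype.ofFinite b.2
  have h5 : Cn p u b θ θ' = F θ * conj (F θ') * Cn p u b (χ : G → ℂ) (χ : G → ℂ) := by
    rw [Cn_eq_sum, Cn_eq_sum, Finset.mul_sum]
    refine Finset.sum_congr rfl fun η _ => ?_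
    rw [hW θ hθ η η.2, hW θ' hθ' η η.2, map_mul]
    ring
  rw [h5, hone, div_eq_mul_inv]

end Cfsg.Agent.H619.Tame
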