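import Mathlib
import Cfsg.Agent.H619.TameNil
import Cfsg.Agent.SmallSimple.SelfCentSum
import Cfsg.Agent.CharDeep.LinearChar

/-!
# Contributions of the elements `u` with `v ∈ ⟨u⟩`, for `C_D(v) = ⟨x⟩` cyclic

`exists_key`: if `b_v` is nilpotent with defect group `C_D(v) = ⟨x⟩` then there are integers
`n χ k` such that the contribution of `x ^ i` (`v ∈ ⟨x ^ i⟩`) at `χ, ψ` is
`F χ i * conj (F ψ i) / orderOf x`, `F χ i = ∑ k, n χ k * ζ ^ (k * i)`.
-/

set_option autoImplicit false
set_option linter.unusedSectionVars false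

open Cfsg
open scoped ComplexConjugate

namespace Cfsg.Agent.H619.Tame

open Cfsg.Agent.Blocks.Blau Cfsg.Agent.Blocks.Local Cfsg.Agent.Characters
open Cfsg.Agent.H613.RegGram Cfsg.Agent.H613.Contrib Cfsg.Agent.H613.SubSys
open Cfsg.Agent.H613.SubFus Cfsg.Agent.H613.ContribVal
open Cfsg.Agent.H639 Cfsg.Agent.H649 Cfsg.Agent.H651

universe u

/-- Irreducible characters of commutative groups. -/
theorem exists_hom_of_comm {A : Type u} [Group A] [Finite A] (hA : ∀ a b : A, a * b = b * a)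
    (l : IrrCharacter A) : ∃ f : A →* ℂˣ, ∀ g, (l : A → ℂ) g = f g :=
  CharDeep.LinearChar.exists_hom_of_isCharacter (Core.isIrr_isCharacter l.2)
    (SmallSimple.SelfCentSum.irr_apply_one_of_comm hA l.2)

variable {G : Type u} [Group G] [Finite G] {p : ℕ} [Fact p.Prime] {M : Ideal AlgInt}
  {B : Set (IrrCharacter G)} {a : BrauerPairIdx G}

/-- A Brauer pair on a subgroup of the order of the defect group is maximal. -/
theorem isMaximal_of_card (hM : IsPModular p M) {R : Subgroup G}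
    {h : Set (IrrCharacter (Subgroup.centralizer (R : Set G)))} (hR : IsBrauerPairOf p M B R h)
    (hcard : Nat.card R = p ^ blockDefect p B) : IsMaximalBrauerPair p M B R h := by
  have := Fintype.ofFinite G
  refine ⟨hR, fun R' g hg hle => ?_⟩
  obtain ⟨D, hD, hle'⟩ := exists_defect_ge hM hg
  have h1 := S0908.result p M hM B hR.2.1 D hD
  have h2 : R ≤ R' := SubpairLE.le hle
  have h3 : Nat.card D ≤ Nat.card R := by rw [h1, hcard]
  have h4 : R = D := Subgroup.eq_of_le_of_card_ge (h2.trans hle') h3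
  exact le_antisymm (by rw [h4]; exact hle') h2

theorem exists_key (hM : IsPModular p M) (hmax : IsMaximalBrauerPair p M B a.1 a.2) {v x : G}
    (hv : v ∈ a.1)
    (hX : a.1 ⊓ Subgroup.centralizer ((Subgroup.zpowers v : Subgroup G) : Set G) =
      Subgroup.zpowers x)
    (hdef : orderOf x = p ^ blockDefect p (bel p M a v).2)
    (hnil : IsNilpotentBlock p M (bel p M a v).2) {ζ : ℂ} (hζ : IsPrimitiveRoot ζ (orderOf x)) :
    ∃ n : IrrCharacter G → ℕ → ℤ, ∀ i : ℕ, v ∈ Subgroup.zpowers (x ^ i) →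
      ∀ χ ψ : IrrCharacter G,
      Cn p (x ^ i) (bel p M a (x ^ i)) (χ : G → ℂ) (ψ : G → ℂ) =
        (∑ k ∈ Finset.range (orderOf x), (n χ k : ℂ) * ζ ^ (k * i)) *
          conj (∑ k ∈ Finset.range (orderOf x), (n ψ k : ℂ) * ζ ^ (k * i)) / orderOf x := by
  classical
  have hp : M.IsPrime := isPrime_of_isPModular hM
  have := Fintype.ofFinite G
  have ha := hmax.1.1
  set Q : Subgroup G := Subgroup.zpowers v with hQ
  set f : Set (IrrCharacter (Subgroup.centralizer (Q : Set G))) := (bel p M a v).2 with hf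
  have hle : SubpairLE p M Q f a.1 a.2 := bel_le hM ha hv
  have hQp : IsPGroup p Q := (SubpairLE.isBrauerPair hle ha).1
  set R : Subgroup (Subgroup.centralizer (Q : Set G)) :=
    (a.1 ⊓ Subgroup.centralizer (Q : Set G)).subgroupOf (Subgroup.centralizer (Q : Set G)) with hR
  have hmemR : ∀ y : Subgroup.centralizer (Q : Set G), y ∈ R ↔
      (y : G) ∈ Subgroup.zpowers x := by
    intro y
    rw [hR, Subgroup.mem_subgroupOf, hX]
  obtain ⟨h, hRh, hloc⟩ := exists_local_pair hM ha hle (R := R)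
    (by
      rw [hR, Subgroup.subgroupOf_map_subtype]
      exact inf_le_left.trans inf_le_left)
  have hcardR : Nat.card R = orderOf x := by
    rw [hR, card_subgroupOf inf_le_right, hX, Nat.card_zpowers]
  set a' : BrauerPairIdx (Subgroup.centralizer (Q : Set G)) := ⟨R, h⟩ with ha'
  have hmax' : IsMaximalBrauerPair p M f a'.1 a'.2 :=
    isMaximal_of_card hM hRh (hcardR.trans hdef)
  have hcomm : ∀ y ∈ a'.1, ∀ z ∈ a'.1, y * z = z * y := by
    intro y hy z hz
    obtain ⟨i, hi⟩ := (hmemR y).1 hy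
    obtain ⟨j, hj⟩ := (hmemR z).1 hz
    apply Subtype.ext
    change (y : G) * z = z * y
    rw [← hi, ← hj]
    change x ^ i * x ^ j = x ^ j * x ^ i
    rw [← zpow_add, ← zpow_add, add_comm]
  have := Fintype.ofFinite (Subgroup.centralizer (Q : Set G))
  have := Core.finite_irr (G := a'.1)
  have := Fintype.ofFinite (IrrCharacter a'.1)
  obtain ⟨Ψ, hΨ⟩ := nil_key hM hmax' hnil hcomm
  -- the generator
  have hxC : x ∈ Subgroup.centralizer (Q : Set G) := by
    have h1 : x ∈ a.1 ⊓ Subgroup.centralizer (Q : Set G) := by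
      rw [hX]; exact Subgroup.mem_zpowers x
    exact h1.2
  have hxa : x ∈ a.1 := by
    have h1 : x ∈ a.1 ⊓ Subgroup.centralizer (Q : Set G) := by
      rw [hX]; exact Subgroup.mem_zpowers x
    exact h1.1
  set x' : Subgroup.centralizer (Q : Set G) := ⟨x, hxC⟩ with hx'
  have hx'R : x' ∈ a'.1 := (hmemR x').2 (Subgroup.mem_zpowers x)
  have hcA : ∀ y z : a'.1, y * z = z * y := fun y z =>
    Subtype.ext (hcomm y y.2 z z.2)
  have hk : ∀ l : IrrCharacter a'.1, ∃ k : ℕ, k < orderOf x ∧ ∀ i : ℕ,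
      (l : a'.1 → ℂ) ⟨x' ^ i, a'.1.pow_mem hx'R i⟩ = ζ ^ (k * i) := by
    intro l
    obtain ⟨g, hg⟩ := exists_hom_of_comm hcA l
    have h1 : ((g ⟨x', hx'R⟩ : ℂˣ) : ℂ) ^ orderOf x = 1 := by
      rw [← Units.val_pow_eq_pow_val, ← map_pow]
      have h2 : (⟨x', hx'R⟩ : a'.1) ^ orderOf x = 1 := by
        apply Subtype.ext
        apply Subtype.ext
        change x ^ orderOf x = 1
        exact pow_orderOf_eq_one x
      rw [h2, map_one, Units.val_one]
    have : NeZero (orderOf x) := ⟨(orderOf_pos x).ne'⟩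
    obtain ⟨k, hk1, hk2⟩ := hζ.eq_pow_of_pow_eq_one h1
    refine ⟨k, hk1, fun i => ?_⟩
    rw [hg, pow_mul, hk2, ← Units.val_pow_eq_pow_val, ← map_pow]
    rfl
  choose k hk1 hk2 using hk
  have hres : ∀ χ : IrrCharacter G, IsCharacter (Subgroup.centralizer (Q : Set G))
      (fun c => (χ : G → ℂ) (c : G)) := fun χ =>
    Core.isCharacter_comp (Subgroup.centralizer (Q : Set G)).subtype (Core.isIrr_isCharacter χ.2)
  have hc : ∀ (χ : IrrCharacter G) (l : IrrCharacter a'.1), ∃ c : ℕ,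
      classInner (fun c : Subgroup.centralizer (Q : Set G) => (χ : G → ℂ) (c : G))
        (Ψ l : Subgroup.centralizer (Q : Set G) → ℂ) = c := by
    intro χ l
    exact Core.classInner_isNat (hres χ) (Core.isIrr_isCharacter (Ψ l).2)
  choose c hc using hc
  refine ⟨fun χ j => ∑ l : IrrCharacter a'.1, if k l = j then (c χ l : ℤ) else 0, ?_⟩
  intro i hvi χ ψ
  set u : G := x ^ i with hu
  have hxi : x' ^ i ∈ a'.1 := a'.1.pow_mem hx'R i
  have hbel : locIdx Q (bel p M a' (x' ^ i)) = bel p M a u := by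
    refine eq_bel hM ha ?_ ?_
    · change Q ⊔ (Subgroup.zpowers (x' ^ i)).map (Subgroup.centralizer (Q : Set G)).subtype = _
      rw [MonoidHom.map_zpowers]
      have h1 : (Subgroup.centralizer (Q : Set G)).subtype (x' ^ i) = u := rfl
      rw [h1]
      refine sup_eq_right.2 ?_
      rw [hQ, Subgroup.zpowers_le]
      exact hvi
    · have h1 := leIdx_loc hQp (bel_le hM hmax'.1.1 hxi)
      exact Relation.ReflTransGen.trans h1 hloc
  have hF : ∀ χ : IrrCharacter G,
      ∑ j ∈ Finset.range (orderOf x),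
        (((∑ l : IrrCharacter a'.1, if k l = j then (c χ l : ℤ) else 0 : ℤ)) : ℂ) * ζ ^ (j * i) =
      ∑ l, classInner (fun c : Subgroup.centralizer (Q : Set G) => (χ : G → ℂ) (c : G))
        (Ψ l : Subgroup.centralizer (Q : Set G) → ℂ) *
        (l : a'.1 → ℂ) ⟨x' ^ i, hxi⟩ := by
    intro χ
    push_cast
    simp only [Finset.sum_mul]
    rw [Finset.sum_comm]
    refine Finset.sum_congr rfl fun l _ => ?_
    rw [Finset.sum_eq_single (k l)]
    · rw [if_pos rfl, hc, hk2]
    · intro j _ hj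
      rw [if_neg (Ne.symm hj), zero_mul]
    · intro h1
      exact absurd (Finset.mem_range.2 (hk1 l)) h1
  have h2 : Cn p u (bel p M a u) (χ : G → ℂ) (ψ : G → ℂ) =
      Cn p (x' ^ i) (bel p M a' (x' ^ i)) (fun c => (χ : G → ℂ) (c : G))
        (fun c => (ψ : G → ℂ) (c : G)) := by
    rw [← hbel]
    exact Cn_loc Q (bel p M a' (x' ^ i)) (x' ^ i) (χ : G → ℂ) (ψ : G → ℂ)
  rw [h2, hΨ _ hxi _ _ (Core.isCharacter_isClassFunction (hres χ))
    (Core.isCharacter_isClassFunction (hres ψ)), hF, hF, ← hcardR]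

end Cfsg.Agent.H619.Tame
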