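import Mathlib
import Cfsg.Agent.H613.DihGrp

/-!
# Dihedral, quaternion and semidihedral 2-subgroups of a group

`IsTm P x j m`: `P` has order `2 ^ (j + 2)`, `x ∈ P` has order `2 ^ (j + 1)` and `y x y⁻¹ = x ^ m`
for `y ∈ P`, `y ∉ ⟨x⟩`.
-/

set_option autoImplicit false
set_option linter.unusedSectionVars false

namespace Cfsg.Agent.H619.Tame

open Cfsg.Agent.H613.DihGrp (comm_of_coset comm_of_zpowers mem_zpowers_of_orderOf
  zpowers_eq_of_orderOf)

variable {G : Type*} [Group G]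

/-- `P` is dihedral, quaternion or semidihedral of order `2 ^ (j + 2)`. -/
structure IsTm (P : Subgroup G) (x : G) (j m : ℕ) : Prop where
  pos : 1 ≤ j
  mem : x ∈ P
  ord : orderOf x = 2 ^ (j + 1)
  card : Nat.card P = 2 ^ (j + 2)
  hm : m = 2 ^ (j + 1) - 1 ∨ (2 ≤ j ∧ m = 2 ^ j - 1)
  sq : ∀ y ∈ P, y ∉ Subgroup.zpowers x → y * y = 1 ∨ y * y = x ^ 2 ^ j
  conj : ∀ y ∈ P, y ∉ Subgroup.zpowers x → y * x * y⁻¹ = x ^ m

variable {P : Subgroup G} {x : G} {j m : ℕ}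

theorem IsTm.zpowers_le (h : IsTm P x j m) : Subgroup.zpowers x ≤ P := by
  rw [Subgroup.zpowers_le]; exact h.mem

theorem IsTm.finite (h : IsTm P x j m) : Finite P :=
  Nat.finite_of_card_ne_zero (by rw [h.card]; positivity)

theorem IsTm.isPGroup (h : IsTm P x j m) : IsPGroup 2 P := IsPGroup.of_card h.card

theorem IsTm.conj_zpow (h : IsTm P x j m) {y : G} (hy : y ∈ P) (hy' : y ∉ Subgroup.zpowers x)
    (k : ℤ) : y * x ^ k * y⁻¹ = (x ^ k) ^ m := by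
  rw [← _root_.conj_zpow, h.conj y hy hy', ← zpow_natCast, ← zpow_natCast, ← zpow_mul, ← zpow_mul,
    mul_comm]

theorem IsTm.conj_mem (h : IsTm P x j m) {y w : G} (hy : y ∈ P) (hy' : y ∉ Subgroup.zpowers x)
    (hw : w ∈ Subgroup.zpowers x) : y * w * y⁻¹ = w ^ m := by
  obtain ⟨k, rfl⟩ := Subgroup.mem_zpowers_iff.1 hw
  exact h.conj_zpow hy hy' k

theorem IsTm.relIndex (h : IsTm P x j m) : (Subgroup.zpowers x).relIndex P = 2 := by
  have h1 := Subgroup.card_mul_index ((Subgroup.zpowers x).subgroupOf P)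
  rw [Nat.card_congr (Subgroup.subgroupOfEquivOfLe h.zpowers_le).toEquiv, Nat.card_zpowers,
    h.ord, h.card, pow_succ 2 (j + 1)] at h1
  exact Nat.eq_of_mul_eq_mul_left (by positivity) h1

theorem IsTm.mul_mem (h : IsTm P x j m) {y y' : G} (hy : y ∈ P) (hy1 : y ∉ Subgroup.zpowers x)
    (hy' : y' ∈ P) (hy1' : y' ∉ Subgroup.zpowers x) : y * y' ∈ Subgroup.zpowers x := by
  have h1 : ((Subgroup.zpowers x).subgroupOf P).index = 2 := h.relIndex
  have h2 := (Subgroup.mul_mem_iff_of_index_two h1 (a := ⟨y, hy⟩) (b := ⟨y', hy'⟩))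
  have h3 : (⟨y, hy⟩ : P) * ⟨y', hy'⟩ ∈ (Subgroup.zpowers x).subgroupOf P := by
    rw [h2]
    rw [Subgroup.mem_subgroupOf, Subgroup.mem_subgroupOf]
    exact ⟨fun h => absurd h hy1, fun h => absurd h hy1'⟩
  exact h3

theorem IsTm.exists_notMem (h : IsTm P x j m) : ∃ y ∈ P, y ∉ Subgroup.zpowers x := by
  by_contra h1
  push Not at h1
  have h2 : P ≤ Subgroup.zpowers x := h1
  have h3 := h.relIndex
  rw [Subgroup.relIndex_eq_one.2 h2] at h3
  norm_num at h3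

theorem IsTm.pow_eq_one (h : IsTm P x j m) : x ^ 2 ^ (j + 1) = 1 := by
  rw [← h.ord, pow_orderOf_eq_one]

/-- The central involution. -/
theorem IsTm.z_ne (h : IsTm P x j m) : x ^ 2 ^ j ≠ 1 := by
  intro h1
  have h2 := orderOf_dvd_of_pow_eq_one h1
  rw [h.ord] at h2
  have h3 := Nat.le_of_dvd (by positivity) h2
  have h4 : 2 ^ j < 2 ^ (j + 1) := Nat.pow_lt_pow_right (by norm_num) (Nat.lt_succ_self j)
  omega

theorem IsTm.z_sq (h : IsTm P x j m) : x ^ 2 ^ j * x ^ 2 ^ j = 1 := by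
  rw [← pow_add, ← two_mul, ← pow_succ', h.pow_eq_one]

theorem IsTm.z_mem (h : IsTm P x j m) : x ^ 2 ^ j ∈ P := P.pow_mem h.mem _

theorem IsTm.z_mem' (_h : IsTm P x j m) : x ^ 2 ^ j ∈ Subgroup.zpowers x :=
  Subgroup.npow_mem_zpowers x _

theorem IsTm.orderOf_z (h : IsTm P x j m) : orderOf (x ^ 2 ^ j) = 2 :=
  orderOf_eq_prime (by rw [pow_two, h.z_sq]) h.z_ne

theorem IsTm.z_inv (h : IsTm P x j m) : (x ^ 2 ^ j)⁻¹ = x ^ 2 ^ j :=
  inv_eq_of_mul_eq_one_left h.z_sq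

theorem IsTm.isOfFinOrder (h : IsTm P x j m) : IsOfFinOrder x :=
  isOfFinOrder_iff_pow_eq_one.2 ⟨2 ^ (j + 1), by positivity, h.pow_eq_one⟩

theorem IsTm.exists_pow (h : IsTm P x j m) {w : G} (hw : w ∈ Subgroup.zpowers x) :
    ∃ k, k < 2 ^ (j + 1) ∧ x ^ k = w := by
  classical
  obtain ⟨k, hk⟩ := (h.isOfFinOrder.mem_zpowers_iff_mem_range_orderOf).1 hw |> Finset.mem_image.1
  refine ⟨k, ?_, hk.2⟩
  have := Finset.mem_range.1 hk.1
  rwa [h.ord] at this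

/-- `m = 2 c + 1` with `c` odd. -/
theorem IsTm.exists_m (h : IsTm P x j m) : ∃ c, Odd c ∧ m = 2 * c + 1 := by
  rcases h.hm with h1 | ⟨h1, h2⟩
  · refine ⟨2 ^ j - 1, ?_, ?_⟩
    · have := h.pos
      obtain ⟨i, rfl⟩ : ∃ i, j = i + 1 := ⟨j - 1, by omega⟩
      refine ⟨2 ^ i - 1, ?_⟩
      have := Nat.one_le_two_pow (n := i)
      rw [pow_succ]; omega
    · have := Nat.one_le_two_pow (n := j)
      rw [h1, pow_succ]; omega
  · obtain ⟨i, rfl⟩ : ∃ i, j = i + 2 := ⟨j - 2, by omega⟩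
    refine ⟨2 ^ (i + 1) - 1, ⟨2 ^ i - 1, ?_⟩, ?_⟩
    · have := Nat.one_le_two_pow (n := i)
      rw [pow_succ]; omega
    · have := Nat.one_le_two_pow (n := i + 1)
      rw [h2, pow_succ 2 (i + 1)]; omega

theorem IsTm.odd_m (h : IsTm P x j m) : Odd m := by
  obtain ⟨c, _, hc⟩ := h.exists_m
  exact ⟨c, hc⟩

/-- The only elements of `⟨x⟩` with square one. -/
theorem IsTm.eq_of_sq (h : IsTm P x j m) {w : G} (hw : w ∈ Subgroup.zpowers x)
    (hw2 : w * w = 1) : w = 1 ∨ w = x ^ 2 ^ j := by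
  obtain ⟨k, hk, rfl⟩ := h.exists_pow hw
  rw [← pow_add, ← orderOf_dvd_iff_pow_eq_one, h.ord, pow_succ, ← two_mul, mul_comm] at hw2
  have h1 : 2 ^ j ∣ k := Nat.dvd_of_mul_dvd_mul_left (by norm_num) hw2
  obtain ⟨c, rfl⟩ := h1
  rw [pow_succ] at hk
  have h2 : c < 2 := Nat.lt_of_mul_lt_mul_left hk
  interval_cases c
  · left; simp
  · right; simp

theorem IsTm.pow_card (h : IsTm P x j m) {w : G} (hw : w ∈ P) : w ^ 2 ^ (j + 2) = 1 := by
  have h1 : orderOf (⟨w, hw⟩ : P) ∣ Nat.card P := orderOf_dvd_natCard _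
  rw [h.card, Subgroup.orderOf_mk] at h1
  exact orderOf_dvd_iff_pow_eq_one.1 h1

/-- An element fixed by `y` has square one. -/
theorem IsTm.sq_of_pow (h : IsTm P x j m) {w : G} (hw : w ∈ P) (hwm : w ^ m = w) :
    w * w = 1 := by
  obtain ⟨c, hc, rfl⟩ := h.exists_m
  have h1 : (w * w) ^ c = 1 := by
    have h2 : w ^ (2 * c) * w = 1 * w := by rw [← pow_succ, hwm, one_mul]
    rw [← pow_two, ← pow_mul]
    exact mul_right_cancel h2
  have h2 : (w * w) ^ 2 ^ (j + 2) = 1 := by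
    rw [← pow_two, ← pow_mul, mul_comm, pow_mul, h.pow_card hw, one_pow]
  have h3 : orderOf (w * w) ∣ 1 := by
    have h6 : Nat.Coprime c (2 ^ (j + 2)) :=
      Nat.Coprime.pow_right _ (Nat.coprime_two_right.2 hc)
    rw [← h6.gcd_eq_one]
    exact Nat.dvd_gcd (orderOf_dvd_of_pow_eq_one h1) (orderOf_dvd_of_pow_eq_one h2)
  exact orderOf_eq_one_iff.1 (Nat.dvd_one.1 h3)

/-- `w ^ m = w⁻¹` for `w ^ 4 = 1`. -/
theorem IsTm.pow_m_of_four (h : IsTm P x j m) {w : G} (hw : w ^ 4 = 1) : w ^ m = w⁻¹ := by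
  obtain ⟨c, ⟨d, rfl⟩, rfl⟩ := h.exists_m
  rw [show 2 * (2 * d + 1) + 1 = 4 * d + 3 by ring, pow_add, pow_mul, hw, one_pow, one_mul,
    eq_inv_iff_mul_eq_one, ← pow_succ, hw]

theorem IsTm.z_comm (h : IsTm P x j m) {y : G} (hy : y ∈ P) :
    y * x ^ 2 ^ j = x ^ 2 ^ j * y := by
  by_cases hy' : y ∈ Subgroup.zpowers x
  · obtain ⟨k, rfl⟩ := Subgroup.mem_zpowers_iff.1 hy'
    rw [← zpow_natCast x (2 ^ j), ← zpow_add, ← zpow_add, add_comm]
  · have h1 := h.conj_mem hy hy' h.z_mem'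
    have h4 : (x ^ 2 ^ j) ^ 4 = 1 := by
      rw [show (4 : ℕ) = 2 + 2 from rfl, pow_add, pow_two, h.z_sq, one_mul]
    rw [h.pow_m_of_four h4, h.z_inv] at h1
    calc y * x ^ 2 ^ j = (y * x ^ 2 ^ j * y⁻¹) * y := by group
      _ = _ := by rw [h1]

/-- Elements of order at least four are centralized only by `⟨x⟩`. -/
theorem IsTm.mem_of_comm (h : IsTm P x j m) {u y : G} (hu : u ∈ Subgroup.zpowers x)
    (hu2 : u * u ≠ 1) (hy : y ∈ P) (hc : y * u = u * y) : y ∈ Subgroup.zpowers x := by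
  by_contra hy'
  apply hu2
  have h1 := h.conj_mem hy hy' hu
  rw [hc, mul_inv_cancel_right] at h1
  exact h.sq_of_pow (h.zpowers_le hu) h1.symm

theorem IsTm.key_comm (h : IsTm P x j m) {y : G} (hy : y ∈ P) (hy' : y ∉ Subgroup.zpowers x)
    {v : G} (hv : v ∈ Subgroup.zpowers x) (hvc : v * y = y * v) : v = 1 ∨ v = x ^ 2 ^ j := by
  refine h.eq_of_sq hv ?_
  have h1 := h.conj_mem hy hy' hv
  rw [← hvc, mul_inv_cancel_right] at h1
  exact h.sq_of_pow (h.zpowers_le hv) h1.symm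

/-- The elements commuting with an element outside `⟨x⟩`. -/
theorem IsTm.eq_of_comm (h : IsTm P x j m) {y w : G} (hy : y ∈ P) (hy' : y ∉ Subgroup.zpowers x)
    (hw : w ∈ P) (hc : w * y = y * w) :
    w = 1 ∨ w = x ^ 2 ^ j ∨ w = y ∨ w = x ^ 2 ^ j * y := by
  by_cases hw' : w ∈ Subgroup.zpowers x
  · rcases h.key_comm hy hy' hw' hc with h1 | h1
    · exact Or.inl h1
    · exact Or.inr (Or.inl h1)
  · have hyi : y⁻¹ ∈ P := P.inv_mem hy
    have hyi' : y⁻¹ ∉ Subgroup.zpowers x := fun h' => hy' (by simpa using inv_mem h')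
    have h1 : w * y⁻¹ ∈ Subgroup.zpowers x := h.mul_mem hw hw' hyi hyi'
    have hc' : w * y⁻¹ * y = y * (w * y⁻¹) := by
      rw [← mul_assoc, ← hc]; group
    rcases h.key_comm hy hy' h1 hc' with h2 | h2
    · right; right; left
      rw [mul_inv_eq_one] at h2
      exact h2
    · right; right; right
      rw [← h2]; group

/-- `y ⟨x⟩ y⁻¹ = ⟨x⟩`. -/
theorem IsTm.conj_mem_zpowers (h : IsTm P x j m) {y w : G} (hy : y ∈ P)
    (hw : w ∈ Subgroup.zpowers x) : y * w * y⁻¹ ∈ Subgroup.zpowers w := by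
  by_cases hy' : y ∈ Subgroup.zpowers x
  · have h1 : y * w = w * y := by
      obtain ⟨k, rfl⟩ := Subgroup.mem_zpowers_iff.1 hy'
      obtain ⟨l, rfl⟩ := Subgroup.mem_zpowers_iff.1 hw
      rw [← zpow_add, ← zpow_add, add_comm]
    rw [h1, mul_inv_cancel_right]
    exact Subgroup.mem_zpowers w
  · rw [h.conj_mem hy hy' hw]
    exact Subgroup.npow_mem_zpowers w m

theorem IsTm.le_normalizer (h : IsTm P x j m) {w : G} (hw : w ∈ Subgroup.zpowers x) :
    P ≤ Subgroup.normalizer ((Subgroup.zpowers w : Subgroup G) : Set G) := by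
  have key : ∀ y ∈ P, ∀ v ∈ Subgroup.zpowers w, y * v * y⁻¹ ∈ Subgroup.zpowers w := by
    intro y hy v hv
    have h1 := h.conj_mem_zpowers hy ((Subgroup.zpowers_le.2 hw) hv)
    exact (Subgroup.zpowers_le.2 hv) h1
  intro y hy
  rw [Subgroup.mem_normalizer_iff]
  intro v
  refine ⟨key y hy v, fun hv => ?_⟩
  have h1 := key y⁻¹ (P.inv_mem hy) _ hv
  have h2 : y⁻¹ * (y * v * y⁻¹) * y⁻¹⁻¹ = v := by group
  rwa [h2] at h1

/-- Elements of `P` outside `⟨x⟩` have fourth power one. -/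
theorem IsTm.pow_four (h : IsTm P x j m) {y : G} (hy : y ∈ P) (hy' : y ∉ Subgroup.zpowers x) :
    y ^ 4 = 1 := by
  have h1 : y ^ 4 = (y * y) * (y * y) := by
    rw [show (4 : ℕ) = 2 + 2 from rfl, pow_add, pow_two]
  rcases h.sq y hy hy' with h2 | h2
  · rw [h1, h2, one_mul]
  · rw [h1, h2, h.z_sq]

end Cfsg.Agent.H619.Tame
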