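import Mathlib
import Cfsg.Agent.H619.TameGrp

/-!
# Odd order automorphisms of subgroups of dihedral, quaternion and semidihedral groups
-/

set_option autoImplicit false
set_option linter.unusedSectionVars false

namespace Cfsg.Agent.H619.Tame

open Cfsg.Agent.H613.DihGrp (comm_of_coset comm_of_zpowers mem_zpowers_of_orderOf
  zpowers_eq_of_orderOf)

variable {G : Type*} [Group G] {P : Subgroup G} {x : G} {j m : ℕ}

theorem comm_of_mem_zpowers {g v w : G} (h : g * v = v * g) (hw : w ∈ Subgroup.zpowers v) :
    g * w = w * g := by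
  obtain ⟨k, rfl⟩ := Subgroup.mem_zpowers_iff.1 hw
  exact ((show Commute g v from h).zpow_right k).eq

theorem four_dvd_orderOf {v : G} {k : ℕ} (hv : v ^ 2 ^ k = 1) (h2 : v * v ≠ 1) :
    4 ∣ orderOf v := by
  obtain ⟨i, _, hi⟩ := (Nat.dvd_prime_pow Nat.prime_two).1 (orderOf_dvd_of_pow_eq_one hv)
  rw [hi]
  have h3 : 2 ≤ i := by
    by_contra hcon
    apply h2
    rw [← pow_two, ← orderOf_dvd_iff_pow_eq_one, hi]
    exact (pow_dvd_pow 2 (by omega : i ≤ 1)).trans (by norm_num)
  exact (pow_dvd_pow 2 h3)

theorem IsTm.mem_zpowers_of_four (h : IsTm P x j m) {v w : G} (hv : v ∈ Subgroup.zpowers x)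
    (hw : w ∈ Subgroup.zpowers x) (hv2 : v * v ≠ 1) (hw4 : w ^ 4 = 1) :
    w ∈ Subgroup.zpowers v :=
  mem_zpowers_of_orderOf h.isOfFinOrder hv hw
    ((orderOf_dvd_of_pow_eq_one hw4).trans
      (four_dvd_orderOf (h.pow_card (h.zpowers_le hv)) hv2))

/-- An element of odd order normalizing a subgroup `E` of `P` and centralizing an element `u` of
`E`, `u` of order at least four or not in `⟨x⟩`, centralizes `E`. -/
theorem IsTm.mem_centralizer (h : IsTm P x j m) {E : Subgroup G} (hE : E ≤ P) {u g : G}
    (hu : u ∈ E) (hu1 : u * u ≠ 1 ∨ u ∉ Subgroup.zpowers x)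
    (hg : g ∈ Subgroup.normalizer (E : Set G)) (hgu : g * u = u * g)
    (hodd : ¬ 2 ∣ orderOf g) : g ∈ Subgroup.centralizer (E : Set G) := by
  have hgE : ∀ e ∈ E, g * e * g⁻¹ ∈ E := fun e he => (Subgroup.mem_normalizer_iff.1 hg e).1 he
  suffices H : ∀ e ∈ E, e ∈ Subgroup.zpowers x → g * e = e * g by
    rw [Subgroup.mem_centralizer_iff]
    intro e he
    by_cases hex : e ∈ Subgroup.zpowers x
    · exact (H e he hex).symm
    · have h5 : g * e * g⁻¹ ∉ Subgroup.zpowers x := by
        intro h6
        apply hex
        have h7 := H _ (hgE e he) h6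
        have h8 : g * e * g⁻¹ = e := by
          have h9 : g * (g * e * g⁻¹) = g * e := by rw [h7]; group
          exact mul_left_cancel h9
        rwa [h8] at h6
      have hei : e⁻¹ ∉ Subgroup.zpowers x := fun h' => hex (by simpa using inv_mem h')
      have h6 : e⁻¹ * (g * e * g⁻¹) ∈ Subgroup.zpowers x :=
        h.mul_mem (P.inv_mem (hE he)) hei (hE (hgE e he)) h5
      have h7 : e⁻¹ * (g * e * g⁻¹) ∈ E := E.mul_mem (E.inv_mem he) (hgE e he)
      exact (comm_of_coset hodd (H _ h7 h6) (e := e) (by group) (h.pow_card (hE h7))).symm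
  by_cases hv : ∃ v ∈ E, v ∈ Subgroup.zpowers x ∧ v ^ 4 ≠ 1
  · obtain ⟨v, hvE, hvx, hv4⟩ := hv
    have hcomm : ∀ w ∈ E, w ∈ Subgroup.zpowers x → w ^ 4 ≠ 1 → g * w = w * g := by
      intro w hw hwx hw4
      have h5 : (g * w * g⁻¹) ^ 4 ≠ 1 := by
        rw [conj_pow]
        intro h6
        exact hw4 (conj_eq_one_iff.1 h6)
      have h6 : g * w * g⁻¹ ∈ Subgroup.zpowers x := by
        by_contra h7
        exact h5 (h.pow_four (hE (hgE w hw)) h7)
      have h7 : Subgroup.zpowers (g * w * g⁻¹) = Subgroup.zpowers w :=
        zpowers_eq_of_orderOf h.isOfFinOrder h6 hwx (by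
          have := orderOf_injective (MulAut.conj g).toMonoidHom (MulAut.conj g).injective w
          exact this)
      refine comm_of_zpowers (h.pow_card (hE hw)) hodd ?_
      rw [Subgroup.mem_normalizer_iff]
      intro c
      constructor
      · intro hc
        obtain ⟨k, rfl⟩ := Subgroup.mem_zpowers_iff.1 hc
        rw [← _root_.conj_zpow, ← h7]
        exact Subgroup.zpow_mem_zpowers _ k
      · intro hc
        rw [← h7] at hc
        obtain ⟨k, hk⟩ := Subgroup.mem_zpowers_iff.1 hc
        rw [_root_.conj_zpow] at hk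
        have h8 : w ^ k = c := mul_left_cancel (mul_right_cancel hk)
        rw [← h8]
        exact Subgroup.zpow_mem_zpowers _ k
    intro w hw hwx
    by_cases hw4 : w ^ 4 = 1
    · have hv2 : v * v ≠ 1 := by
        intro h5
        apply hv4
        rw [show (4 : ℕ) = 2 + 2 from rfl, pow_add, pow_two, h5, one_mul]
      exact comm_of_mem_zpowers (hcomm v hvE hvx hv4) (h.mem_zpowers_of_four hvx hwx hv2 hw4)
    · exact hcomm w hw hwx hw4
  · push Not at hv
    by_cases hux : u ∈ Subgroup.zpowers x
    · have hu2 : u * u ≠ 1 := by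
        rcases hu1 with h5 | h5
        · exact h5
        · exact absurd hux h5
      intro w hw hwx
      exact comm_of_mem_zpowers hgu (h.mem_zpowers_of_four hux hwx hu2 (hv w hw hwx))
    · have huP := hE hu
      -- squares
      have hsqz : ∀ e ∈ E, e * e ≠ 1 → e * e = x ^ 2 ^ j := by
        intro e he he2
        by_cases hex : e ∈ Subgroup.zpowers x
        · have h4 := hv e he hex
          rcases h.eq_of_sq ((Subgroup.zpowers x).mul_mem hex hex) (by
            rw [show (4 : ℕ) = 2 + 2 from rfl, pow_add, pow_two] at h4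
            exact h4) with h5 | h5
          · exact absurd h5 he2
          · exact h5
        · rcases h.sq e (hE he) hex with h5 | h5
          · exact absurd h5 he2
          · exact h5
      by_cases h4 : ∃ v ∈ E, v ∈ Subgroup.zpowers x ∧ v * v ≠ 1
      · obtain ⟨v, hvE, hvx, hv2⟩ := h4
        have hzv : v * v = x ^ 2 ^ j := hsqz v hvE hv2
        have hgz : g * x ^ 2 ^ j = x ^ 2 ^ j * g := by
          have h5 : (g * v * g⁻¹) * (g * v * g⁻¹) ≠ 1 := by
            intro h6
            apply hv2
            have h7 : g * (v * v) * g⁻¹ = 1 := by rw [← h6]; group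
            exact conj_eq_one_iff.1 h7
          have h6 := hsqz _ (hgE v hvE) h5
          have h7 : g * (v * v) * g⁻¹ = x ^ 2 ^ j := by rw [← h6]; group
          rw [hzv] at h7
          calc g * x ^ 2 ^ j = (g * x ^ 2 ^ j * g⁻¹) * g := by group
            _ = _ := by rw [h7]
        have hvu : v * u ≠ u * v := by
          intro h5
          exact hux (h.mem_of_comm hvx hv2 huP h5.symm)
        set v' := g * v * g⁻¹ with hv'
        have hv'E : v' ∈ E := hgE v hvE
        have hv'2 : v' * v' = x ^ 2 ^ j := by
          refine hsqz v' hv'E ?_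
          intro h6
          apply hv2
          have h7 : g * (v * v) * g⁻¹ = 1 := by rw [← h6, hv']; group
          exact conj_eq_one_iff.1 h7
        have hcx : ∀ s t : G, s ∈ Subgroup.zpowers x → t ∈ Subgroup.zpowers x →
            s * t = t * s := by
          intro s t hs ht
          obtain ⟨k, rfl⟩ := Subgroup.mem_zpowers_iff.1 hs
          obtain ⟨l, rfl⟩ := Subgroup.mem_zpowers_iff.1 ht
          rw [← zpow_add, ← zpow_add, add_comm]
        -- quotients of elements with square `z`
        have hquot : ∀ s : G, s ∈ Subgroup.zpowers x → s * s = x ^ 2 ^ j →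
            v⁻¹ * s = 1 ∨ v⁻¹ * s = x ^ 2 ^ j := by
          intro s hs hs2
          have hvi : v⁻¹ ∈ Subgroup.zpowers x := inv_mem hvx
          refine h.eq_of_sq ((Subgroup.zpowers x).mul_mem hvi hs) ?_
          calc v⁻¹ * s * (v⁻¹ * s) = v⁻¹ * (s * v⁻¹) * s := by group
            _ = v⁻¹ * (v⁻¹ * s) * s := by rw [hcx s _ hs hvi]
            _ = (v * v)⁻¹ * (s * s) := by group
            _ = 1 := by rw [hzv, hs2, inv_mul_cancel]
        have hgw : g * (v⁻¹ * v') = v⁻¹ * v' * g := by
          by_cases hv'x : v' ∈ Subgroup.zpowers x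
          · rcases hquot v' hv'x hv'2 with h5 | h5
            · rw [h5]; simp
            · rw [h5]; exact hgz
          · have hui : u⁻¹ ∉ Subgroup.zpowers x := fun h' => hux (by simpa using inv_mem h')
            have hs : v' * u⁻¹ ∈ Subgroup.zpowers x :=
              h.mul_mem (hE hv'E) hv'x (P.inv_mem huP) hui
            have hsE : v' * u⁻¹ ∈ E := E.mul_mem hv'E (E.inv_mem hu)
            by_cases hs2 : v' * u⁻¹ * (v' * u⁻¹) = 1
            · exfalso
              have h5 : v' * u = u * v' := by
                rcases h.eq_of_sq hs hs2 with h6 | h6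
                · rw [mul_inv_eq_one] at h6
                  rw [h6]
                · have h7 : v' = x ^ 2 ^ j * u := by rw [← h6]; group
                  rw [h7, ← mul_assoc, h.z_comm huP]
              apply hvu
              have h6 : g * (v * u) * g⁻¹ = g * (u * v) * g⁻¹ := by
                calc g * (v * u) * g⁻¹ = v' * (g * u * g⁻¹) := by rw [hv']; group
                  _ = v' * u := by rw [hgu, mul_inv_cancel_right]
                  _ = u * v' := h5
                  _ = (g * u * g⁻¹) * v' := by rw [hgu, mul_inv_cancel_right]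
                  _ = _ := by rw [hv']; group
              exact mul_left_cancel (mul_right_cancel h6)
            · have h5 := hsqz _ hsE hs2
              have h6 : v⁻¹ * v' = v⁻¹ * (v' * u⁻¹) * u := by group
              rw [h6]
              rcases hquot _ hs h5 with h7 | h7
              · rw [h7, one_mul, hgu]
              · rw [h7, ← mul_assoc, hgz, mul_assoc, hgu, mul_assoc]
        have hgv : g * v = v * g :=
          comm_of_coset hodd hgw (e := v) (by rw [hv']; group)
            (h.pow_card (hE (E.mul_mem (E.inv_mem hvE) hv'E)))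
        intro w hw hwx
        exact comm_of_mem_zpowers hgv (h.mem_zpowers_of_four hvx hwx hv2 (hv w hw hwx))
      · push Not at h4
        intro w hw hwx
        rcases h.eq_of_sq hwx (h4 w hw hwx) with h5 | h5
        · rw [h5]; simp
        · subst h5
          set c := g * x ^ 2 ^ j * g⁻¹ with hc
          have hcE : c ∈ E := hgE _ hw
          have hcu : c * u = u * c := by
            calc c * u = g * x ^ 2 ^ j * g⁻¹ * (u * g) * g⁻¹ := by rw [hc]; group
              _ = g * x ^ 2 ^ j * g⁻¹ * (g * u) * g⁻¹ := by rw [hgu]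
              _ = g * (x ^ 2 ^ j * u) * g⁻¹ := by group
              _ = g * (u * x ^ 2 ^ j) * g⁻¹ := by rw [h.z_comm huP]
              _ = (g * u) * x ^ 2 ^ j * g⁻¹ := by group
              _ = (u * g) * x ^ 2 ^ j * g⁻¹ := by rw [hgu]
              _ = u * c := by rw [hc]; group
          rcases h.eq_of_comm huP hux (hE hcE) hcu with h5 | h5 | h5 | h5
          · exact absurd (conj_eq_one_iff.1 h5) h.z_ne
          · calc g * x ^ 2 ^ j = c * g := by rw [hc]; group
              _ = _ := by rw [h5]
          · exfalso
            apply hux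
            have h6 : x ^ 2 ^ j = u := by
              have h7 : g * x ^ 2 ^ j = g * u := by
                calc g * x ^ 2 ^ j = c * g := by rw [hc]; group
                  _ = g * u := by rw [h5, hgu]
              exact mul_left_cancel h7
            rw [← h6]
            exact h.z_mem'
          · exact comm_of_coset hodd hgu (e := x ^ 2 ^ j) h5 (h.pow_card huP)

end Cfsg.Agent.H619.Tame
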