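import Mathlib
import Cfsg.Agent.H619.TameGrp2
import Cfsg.Agent.H613.CycFus
import Cfsg.Agent.H613.SubDef
import Cfsg.Agent.H613.NilRank

/-!
# Subsections of blocks with dihedral, quaternion or semidihedral defect groups

* `nil_bel`, `rank_bel`: `b_u` is nilpotent and `l(b_u) = 1` if `u ≠ 1` is not fused to `z`;
* `fus_zpowers`: fusion in `⟨x⟩`;
* `defect_x`, `defect_w`, `defect_z`: the defects of the local blocks.
-/

set_option autoImplicit false
set_option linter.unusedSectionVars false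

open Cfsg
open scoped ComplexConjugate

namespace Cfsg.Agent.H619.Tame

open Cfsg.Agent.Blocks.Blau Cfsg.Agent.Blocks.Local Cfsg.Agent.Characters
open Cfsg.Agent.H613.SubSys Cfsg.Agent.H613.SubFus Cfsg.Agent.H644 Cfsg.Agent.H651
open Cfsg.Agent.H639 Cfsg.Agent.H649

universe u

variable {G : Type u} [Group G] [Finite G] {M : Ideal AlgInt}
  {B : Set (IrrCharacter G)} {a : BrauerPairIdx G}

/-- The blocks of the pairs on nontrivial elements are nilpotent under a condition on the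
subgroups of `a.1`. -/
theorem isNilpotentBlock_bel_fus (hM : IsPModular 2 M)
    (hmax : IsMaximalBrauerPair 2 M B a.1 a.2) {u : G} (hu : u ∈ a.1)
    (hkey : ∀ (E : Subgroup G) (t : G), E ≤ a.1 → t ∈ E → Fus 2 M a u t → ∀ g : G,
      g ∈ Subgroup.normalizer (E : Set G) → g * t = t * g →
      ¬ 2 ∣ orderOf g → g ∈ Subgroup.centralizer (E : Set G)) :
    IsNilpotentBlock 2 M (bel 2 M a u).2 := by
  have : Fact (Nat.Prime 2) := ⟨Nat.prime_two⟩
  have hp : M.IsPrime := isPrime_of_isPModular hM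
  have := Fintype.ofFinite G
  have hQf : IsBrauerPairOf 2 M B (Subgroup.zpowers u) (bel 2 M a u).2 :=
    isBrauerPairOf_bel hM hmax hu
  refine ⟨hQf.1.2, fun R h hRh x hxN hxS hreg => ?_⟩
  have hn : IsNormalSubpair 2 M (Subgroup.zpowers u) (bel 2 M a u).2
      (locSub (Subgroup.zpowers u) R) (locBlk (Subgroup.zpowers u) R h) :=
    (isNormalSubpair_locBlk_iff hQf.1.1 hQf.1.2 hRh.1.1).2 hRh
  have hB : IsBrauerPairOf 2 M B (locSub (Subgroup.zpowers u) R)
      (locBlk (Subgroup.zpowers u) R h) := isBrauerPairOf_of_isNormalSubpair hM hn hQf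
  obtain ⟨y, hy⟩ := exists_conj_subpairLE hM hmax hB
  have hSP : (locSub (Subgroup.zpowers u) R).map (MulAut.conj y).toMonoidHom ≤ a.1 :=
    SubpairLE.le hy
  have huS : y * u * y⁻¹ ∈ (locSub (Subgroup.zpowers u) R).map (MulAut.conj y).toMonoidHom :=
    ⟨u, le_locSub _ R (Subgroup.mem_zpowers u), rfl⟩
  have hfus : Fus 2 M a u (y * u * y⁻¹) := by
    refine Fus.of_le hM hmax.1.1 ?_
    have h1 : LEIdx 2 M (bel 2 M a u)
        ⟨locSub (Subgroup.zpowers u) R, locBlk (Subgroup.zpowers u) R h⟩ :=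
      subpairLE_of_isNormalSubpair hn
    have h2 := (leIdx_conjIdx_iff y).2 h1
    have h3 : LEIdx 2 M (conjIdx y ⟨locSub (Subgroup.zpowers u) R,
        locBlk (Subgroup.zpowers u) R h⟩) a := by
      rw [conjIdx_mk]
      exact hy
    exact Relation.ReflTransGen.trans h2 h3
  have hxu : (x : G) * u = u * x :=
    ((Subgroup.mem_centralizer_iff.1 x.2) u (Subgroup.mem_zpowers u)).symm
  have hxn : (x : G) ∈ Subgroup.normalizer
      ((locSub (Subgroup.zpowers u) R : Subgroup G) : Set G) := mem_normalizer_locSub hxN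
  have hc := hkey _ _ hSP huS hfus (y * x * y⁻¹) (by
      rw [mem_normalizer_iff_map_conj] at hxn ⊢
      conv_rhs => rw [← hxn]
      rw [Subgroup.map_map, Subgroup.map_map]
      congr 1
      ext w
      simp [mul_assoc]) (by
      calc y * x * y⁻¹ * (y * u * y⁻¹) = y * (x * u) * y⁻¹ := by group
        _ = y * (u * x) * y⁻¹ := by rw [hxu]
        _ = _ := by group) (by
      rw [Cfsg.Agent.Blocks.Blau.orderOf_conj_eq, Subgroup.orderOf_coe]
      exact hreg)
  rw [Subgroup.mem_centralizer_iff]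
  intro r hr
  apply Subtype.ext
  have h6 := (Subgroup.mem_centralizer_iff.1 hc) (y * (r : G) * y⁻¹)
    ⟨(r : G), coe_mem_locSub hr, by simp⟩
  have h7 : y * ((r : G) * x) * y⁻¹ = y * ((x : G) * r) * y⁻¹ := by
    calc y * ((r : G) * x) * y⁻¹ = y * (r : G) * y⁻¹ * (y * x * y⁻¹) := by group
      _ = y * x * y⁻¹ * (y * (r : G) * y⁻¹) := h6
      _ = _ := by group
  exact mul_left_cancel (mul_right_cancel h7)

variable {x : G} {j m : ℕ}

theorem nil_bel (hM : IsPModular 2 M) (hmax : IsMaximalBrauerPair 2 M B a.1 a.2)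
    (hD : IsTm a.1 x j m) {u : G} (hu : u ∈ a.1) (hu1 : u ≠ 1)
    (huz : ¬ Fus 2 M a u (x ^ 2 ^ j)) : IsNilpotentBlock 2 M (bel 2 M a u).2 := by
  refine isNilpotentBlock_bel_fus hM hmax hu fun E t hE ht hf g hg hgt hodd => ?_
  refine hD.mem_centralizer hE ht ?_ hg hgt hodd
  by_contra hcon
  push Not at hcon
  obtain ⟨h1, h2⟩ := hcon
  rcases hD.eq_of_sq h2 h1 with h3 | h3
  · apply hu1
    obtain ⟨y, hy, -⟩ := hf
    rw [h3, conj_eq_one_iff] at hy
    exact hy
  · rw [h3] at hf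
    exact huz hf

theorem rank_bel (hM : IsPModular 2 M) (hmax : IsMaximalBrauerPair 2 M B a.1 a.2)
    (hD : IsTm a.1 x j m) {u : G} (hu : u ∈ a.1) (hu1 : u ≠ 1)
    (huz : ¬ Fus 2 M a u (x ^ 2 ^ j)) : blockRank 2 (bel 2 M a u).2 = 1 := by
  have : Fact (Nat.Prime 2) := ⟨Nat.prime_two⟩
  exact H613.NilRank.rank_one hM (nil_bel hM hmax hD hu hu1 huz)

theorem not_fus_z (hD : IsTm a.1 x j m) {u : G} (hu2 : u * u ≠ 1) :
    ¬ Fus 2 M a u (x ^ 2 ^ j) := by
  rintro ⟨y, hy, -⟩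
  apply hu2
  have h1 : y * (u * u) * y⁻¹ = 1 := by
    calc y * (u * u) * y⁻¹ = (y * u * y⁻¹) * (y * u * y⁻¹) := by group
      _ = 1 := by rw [hy, hD.z_sq]
  exact conj_eq_one_iff.1 h1

/-- Fusion in `⟨x⟩`. -/
theorem fus_zpowers (hM : IsPModular 2 M) (hmax : IsMaximalBrauerPair 2 M B a.1 a.2)
    (hD : IsTm a.1 x j m) {u v : G} (hu : u ∈ Subgroup.zpowers x)
    (hv : v ∈ Subgroup.zpowers x) (h : Fus 2 M a u v) : v = u ∨ v = u ^ m := by
  have : Fact (Nat.Prime 2) := ⟨Nat.prime_two⟩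
  have hz : Subgroup.zpowers v = Subgroup.zpowers u :=
    H613.DihGrp.zpowers_eq_of_orderOf hD.isOfFinOrder hv hu h.orderOf_eq.symm
  obtain ⟨d, hd, hdu⟩ := H613.CycFus.conj_of_normal hM hmax (hD.zpowers_le hu) hz
    (hD.le_normalizer hu) h
  by_cases hdx : d ∈ Subgroup.zpowers x
  · left
    rw [← hdu]
    obtain ⟨k, rfl⟩ := Subgroup.mem_zpowers_iff.1 hdx
    obtain ⟨l, rfl⟩ := Subgroup.mem_zpowers_iff.1 hu
    rw [← zpow_add, ← zpow_neg, ← zpow_add]
    congr 1
    ring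
  · right
    rw [← hdu, hD.conj_mem hd hdx hu]

/-- The other direction. -/
theorem fus_pow_m (hM : IsPModular 2 M) (hmax : IsMaximalBrauerPair 2 M B a.1 a.2)
    (hD : IsTm a.1 x j m) {u : G} (hu : u ∈ Subgroup.zpowers x) : Fus 2 M a u (u ^ m) := by
  obtain ⟨y, hy, hyx⟩ := hD.exists_notMem
  have h1 := Fus.of_mem hM hmax.1.1 hy (hD.zpowers_le hu)
  rwa [hD.conj_mem hy hyx hu] at h1

theorem inf_centralizer_x (hD : IsTm a.1 x j m) {u : G} (hu : u ∈ Subgroup.zpowers x)
    (hu2 : u * u ≠ 1) :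
    a.1 ⊓ Subgroup.centralizer ((Subgroup.zpowers u : Subgroup G) : Set G) =
      Subgroup.zpowers x := by
  rw [centralizer_zpowers]
  apply le_antisymm
  · rintro y ⟨hy, hyc⟩
    exact hD.mem_of_comm hu hu2 hy (Subgroup.mem_centralizer_singleton_iff.1 hyc)
  · refine le_inf hD.zpowers_le ?_
    intro y hy
    rw [Subgroup.mem_centralizer_singleton_iff]
    obtain ⟨k, rfl⟩ := Subgroup.mem_zpowers_iff.1 hy
    obtain ⟨l, rfl⟩ := Subgroup.mem_zpowers_iff.1 hu
    rw [← zpow_add, ← zpow_add, add_comm]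

theorem card_inf_centralizer_w (hD : IsTm a.1 x j m) {w : G} (hw : w ∈ a.1)
    (hwx : w ∉ Subgroup.zpowers x) :
    Nat.card (a.1 ⊓ Subgroup.centralizer ((Subgroup.zpowers w : Subgroup G) : Set G) :
      Subgroup G) = 4 := by
  classical
  have h1 : ((a.1 ⊓ Subgroup.centralizer ((Subgroup.zpowers w : Subgroup G) : Set G) :
      Subgroup G) : Set G) = (({1, x ^ 2 ^ j, w, x ^ 2 ^ j * w} : Finset G) : Set G) := by
    ext y
    rw [SetLike.mem_coe, Subgroup.mem_inf, centralizer_zpowers,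
      Subgroup.mem_centralizer_singleton_iff]
    simp only [Finset.coe_insert, Finset.coe_singleton, Set.mem_insert_iff,
      Set.mem_singleton_iff]
    constructor
    · rintro ⟨h2, h3⟩
      exact hD.eq_of_comm hw hwx h2 h3
    · have hz := hD.z_comm hw
      rintro (h2 | h2 | h2 | h2)
      · rw [h2]; exact ⟨a.1.one_mem, by simp⟩
      · rw [h2]; exact ⟨hD.z_mem, hz.symm⟩
      · rw [h2]; exact ⟨hw, rfl⟩
      · rw [h2]
        refine ⟨a.1.mul_mem hD.z_mem hw, ?_⟩
        rw [← mul_assoc, ← hz, mul_assoc]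
  have h2 : Nat.card (a.1 ⊓ Subgroup.centralizer ((Subgroup.zpowers w : Subgroup G) : Set G) :
      Subgroup G) = ({1, x ^ 2 ^ j, w, x ^ 2 ^ j * w} : Finset G).card := by
    refine (Nat.card_congr (Equiv.setCongr h1)).trans ?_
    rw [Nat.card_coe_set_eq, Set.ncard_coe_finset]
  rw [h2]
  have hw1 : w ≠ 1 := fun h => hwx (by rw [h]; exact one_mem _)
  have hwz : w ≠ x ^ 2 ^ j := fun h => hwx (by rw [h]; exact hD.z_mem')
  rw [Finset.card_insert_of_notMem, Finset.card_insert_of_notMem,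
    Finset.card_insert_of_notMem, Finset.card_singleton]
  · rw [Finset.mem_singleton]
    intro h
    exact hD.z_ne (right_eq_mul.1 h)
  · simp only [Finset.mem_insert, Finset.mem_singleton, not_or]
    refine ⟨Ne.symm hwz, fun h => hw1 (left_eq_mul.1 h)⟩
  · simp only [Finset.mem_insert, Finset.mem_singleton, not_or]
    refine ⟨Ne.symm hD.z_ne, Ne.symm hw1, fun h => hwz ?_⟩
    have h3 : w = (x ^ 2 ^ j)⁻¹ := (eq_inv_of_mul_eq_one_right h.symm)
    rw [h3, hD.z_inv]

/-- The defect of `b_u` for `u ∈ ⟨x⟩` of order at least four. -/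
theorem defect_x (hM : IsPModular 2 M) (hmax : IsMaximalBrauerPair 2 M B a.1 a.2)
    (hD : IsTm a.1 x j m) {u : G} (hu : u ∈ Subgroup.zpowers x) (hu2 : u * u ≠ 1) :
    blockDefect 2 (bel 2 M a u).2 = j + 1 := by
  have : Fact (Nat.Prime 2) := ⟨Nat.prime_two⟩
  have hua := hD.zpowers_le hu
  have h1 := H613.SubDef.card_le_defect hM hmax hua
  rw [inf_centralizer_x hD hu hu2, Nat.card_zpowers, hD.ord] at h1
  obtain ⟨v, hv, hf, h2⟩ := H613.SubDef.exists_fus_defect hM hmax hua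
  have hv2 : v * v ≠ 1 := by
    intro h
    apply hu2
    obtain ⟨y, hy, -⟩ := hf
    have h3 : y * (u * u) * y⁻¹ = 1 := by
      calc y * (u * u) * y⁻¹ = (y * u * y⁻¹) * (y * u * y⁻¹) := by group
        _ = 1 := by rw [hy, h]
    exact conj_eq_one_iff.1 h3
  by_cases hvx : v ∈ Subgroup.zpowers x
  · rw [inf_centralizer_x hD hvx hv2, Nat.card_zpowers, hD.ord] at h2
    exact Nat.pow_right_injective le_rfl h2
  · rw [card_inf_centralizer_w hD hv hvx] at h2
    rw [h2] at h1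
    have h3 : j + 1 ≤ 2 := by
      by_contra h4
      have h5 : 2 ^ 3 ≤ 2 ^ (j + 1) := Nat.pow_le_pow_right (by norm_num) (by omega)
      omega
    have h4 : j = 1 := by have := hD.pos; omega
    subst h4
    have h5 : 2 ^ blockDefect 2 (bel 2 M a u).2 = 2 ^ 2 := by rw [h2]; norm_num
    exact Nat.pow_right_injective le_rfl h5

/-- The defect of `b_w` for `w` not fused into `⟨x⟩`. -/
theorem defect_w (hM : IsPModular 2 M) (hmax : IsMaximalBrauerPair 2 M B a.1 a.2)
    (hD : IsTm a.1 x j m) {w : G} (hw : w ∈ a.1)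
    (hwx : ∀ v ∈ Subgroup.zpowers x, ¬ Fus 2 M a w v) :
    blockDefect 2 (bel 2 M a w).2 = 2 := by
  have : Fact (Nat.Prime 2) := ⟨Nat.prime_two⟩
  obtain ⟨v, hv, hf, h2⟩ := H613.SubDef.exists_fus_defect hM hmax hw
  have hvx : v ∉ Subgroup.zpowers x := fun h => hwx v h hf
  rw [card_inf_centralizer_w hD hv hvx] at h2
  have h5 : 2 ^ blockDefect 2 (bel 2 M a w).2 = 2 ^ 2 := by rw [h2]; norm_num
  exact Nat.pow_right_injective le_rfl h5

/-- The defect of `b_z`. -/
theorem defect_z (hM : IsPModular 2 M) (hmax : IsMaximalBrauerPair 2 M B a.1 a.2)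
    (hD : IsTm a.1 x j m) : blockDefect 2 (bel 2 M a (x ^ 2 ^ j)).2 = j + 2 := by
  have : Fact (Nat.Prime 2) := ⟨Nat.prime_two⟩
  have hle : ∀ v : G, Nat.card (a.1 ⊓ Subgroup.centralizer
      ((Subgroup.zpowers v : Subgroup G) : Set G) : Subgroup G) ≤ 2 ^ (j + 2) := by
    intro v
    rw [← hD.card]
    have := hD.finite
    exact Nat.card_le_card_of_injective _ (Subgroup.inclusion_injective inf_le_left)
  have h1 := H613.SubDef.card_le_defect hM hmax hD.z_mem
  have h3 : a.1 ⊓ Subgroup.centralizer ((Subgroup.zpowers (x ^ 2 ^ j) : Subgroup G) : Set G) =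
      a.1 := by
    refine inf_eq_left.2 fun y hy => ?_
    rw [centralizer_zpowers, Subgroup.mem_centralizer_singleton_iff]
    exact hD.z_comm hy
  rw [h3, hD.card] at h1
  obtain ⟨v, hv, hf, h2⟩ := H613.SubDef.exists_fus_defect hM hmax hD.z_mem
  have h4 := hle v
  rw [← h2] at h4
  exact Nat.pow_right_injective le_rfl (le_antisymm h4 h1)

/-- The defect of the block. -/
theorem defect_B (hM : IsPModular 2 M) (hmax : IsMaximalBrauerPair 2 M B a.1 a.2)
    (hD : IsTm a.1 x j m) : blockDefect 2 B = j + 2 := by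
  have : Fact (Nat.Prime 2) := ⟨Nat.prime_two⟩
  have := isPrime_of_isPModular hM
  have h1 := S0908.result 2 M hM B hmax.1.2.1 a.1 (isDefectGroup_of_isMaximalBrauerPair hM hmax)
  rw [hD.card] at h1
  exact (Nat.pow_right_injective le_rfl h1).symm

end Cfsg.Agent.H619.Tame
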