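import Mathlib
import Cfsg.Agent.H619.TameFus

/-!
# The system of the nontrivial classes of the maximal pair under fusion

`Cl M a`: the classes of the nontrivial elements of `a.1`; `rep`: representatives.

* `sum_cl`: a sum over the classes in terms of `z`, the powers of `x` and the other classes
  (`Oth`: the classes not meeting `⟨x⟩`).
-/

set_option autoImplicit false
set_option linter.unusedSectionVars false

open Cfsg
open scoped ComplexConjugate

namespace Cfsg.Agent.H619.Tame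

open Cfsg.Agent.Blocks.Blau Cfsg.Agent.Blocks.Local Cfsg.Agent.Characters
open Cfsg.Agent.H613.SubSys Cfsg.Agent.H613.SubFus
open Cfsg.Agent.H639 Cfsg.Agent.H649

universe u

variable {G : Type u} [Group G] [Finite G] {M : Ideal AlgInt}
  {B : Set (IrrCharacter G)} {a : BrauerPairIdx G}

/-- Fusion of the nontrivial elements of `a.1`. -/
def clSetoid (M : Ideal AlgInt) (a : BrauerPairIdx G) : Setoid {u : G // u ∈ a.1 ∧ u ≠ 1} where
  r u v := Fus 2 M a (u : G) v
  iseqv := ⟨fun _ => Fus.refl _, fun h => h.symm, fun h h' => h.trans h'⟩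

/-- The classes. -/
abbrev Cl (M : Ideal AlgInt) (a : BrauerPairIdx G) : Type u := Quotient (clSetoid M a)

noncomputable instance fintypeCl (M : Ideal AlgInt) (a : BrauerPairIdx G) : Fintype (Cl M a) := by
  classical
  exact Fintype.ofFinite _

/-- Representatives. -/
noncomputable def rep (i : Cl M a) : G := (Quotient.out i : {u : G // u ∈ a.1 ∧ u ≠ 1})

/-- The class of an element. -/
def mkCl (M : Ideal AlgInt) (a : BrauerPairIdx G) (u : G) (hu : u ∈ a.1) (hu1 : u ≠ 1) : Cl M a :=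
  Quotient.mk (clSetoid M a) ⟨u, hu, hu1⟩

theorem rep_mem (i : Cl M a) : rep i ∈ a.1 :=
  (Quotient.out i : {u : G // u ∈ a.1 ∧ u ≠ 1}).2.1

theorem rep_ne (i : Cl M a) : rep i ≠ 1 :=
  (Quotient.out i : {u : G // u ∈ a.1 ∧ u ≠ 1}).2.2

theorem fus_rep_mk {u : G} (hu : u ∈ a.1) (hu1 : u ≠ 1) :
    Fus 2 M a (rep (mkCl M a u hu hu1)) u :=
  Quotient.exact (s := clSetoid M a) (Quotient.out_eq (mkCl M a u hu hu1))

theorem mkCl_eq_iff {u v : G} (hu : u ∈ a.1) (hu1 : u ≠ 1) (hv : v ∈ a.1) (hv1 : v ≠ 1) :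
    mkCl M a u hu hu1 = mkCl M a v hv hv1 ↔ Fus 2 M a u v :=
  ⟨fun h => Quotient.exact (s := clSetoid M a) h, fun h => Quotient.sound (s := clSetoid M a) h⟩

theorem eq_mkCl_iff {i : Cl M a} {v : G} (hv : v ∈ a.1) (hv1 : v ≠ 1) :
    i = mkCl M a v hv hv1 ↔ Fus 2 M a (rep i) v := by
  have h : i = mkCl M a (rep i) (rep_mem i) (rep_ne i) := (Quotient.out_eq i).symm
  conv_lhs => rw [h]
  exact mkCl_eq_iff _ _ _ _

theorem eq_of_fus_rep {i i' : Cl M a} (h : Fus 2 M a (rep i) (rep i')) : i = i' := by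
  have h1 : i' = mkCl M a (rep i') (rep_mem i') (rep_ne i') := (Quotient.out_eq i').symm
  rw [h1]
  exact (eq_mkCl_iff _ _).2 h

theorem isSys_rep (hM : IsPModular 2 M) (hmax : IsMaximalBrauerPair 2 M B a.1 a.2) :
    IsSys 2 M B (rep (M := M) (a := a)) (fun i => bel 2 M a (rep i)) := by
  have : Fact (Nat.Prime 2) := ⟨Nat.prime_two⟩
  refine isSys_of_reps hM hmax rep rep_mem rep_ne (fun i i' h => eq_of_fus_rep h) ?_
  intro v hv hv1
  exact ⟨mkCl M a v hv hv1, fus_rep_mk hv hv1⟩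

/-- The exponents of the elements of `⟨x⟩` of order at least four. -/
def idx (j : ℕ) : Finset ℕ := (Finset.range (2 ^ (j + 1))).filter fun k => k ≠ 0 ∧ k ≠ 2 ^ j

theorem card_idx (j : ℕ) : (idx j).card = 2 ^ (j + 1) - 2 := by
  have h1 : idx j = ((Finset.range (2 ^ (j + 1))).erase 0).erase (2 ^ j) := by
    ext k
    simp only [idx, Finset.mem_filter, Finset.mem_range, Finset.mem_erase]
    tauto
  have h2 : (2 : ℕ) ^ j < 2 ^ (j + 1) := Nat.pow_lt_pow_right (by norm_num) (Nat.lt_succ_self j)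
  rw [h1, Finset.card_erase_of_mem, Finset.card_erase_of_mem, Finset.card_range]
  · omega
  · exact Finset.mem_range.2 (by positivity)
  · exact Finset.mem_erase.2 ⟨(pow_pos two_pos j).ne', Finset.mem_range.2 h2⟩

variable {x : G} {j m : ℕ}

theorem mem_idx_iff (hD : IsTm a.1 x j m) {k : ℕ} (hk : k < 2 ^ (j + 1)) :
    k ∈ idx j ↔ x ^ k * x ^ k ≠ 1 := by
  rw [idx, Finset.mem_filter, Finset.mem_range]
  constructor
  · rintro ⟨-, h1, h2⟩ h3
    rw [← pow_add, ← orderOf_dvd_iff_pow_eq_one, hD.ord, pow_succ, ← two_mul, mul_comm] at h3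
    obtain ⟨c, rfl⟩ := Nat.dvd_of_mul_dvd_mul_left (by norm_num) h3
    rw [pow_succ] at hk
    have h4 : c < 2 := Nat.lt_of_mul_lt_mul_left hk
    interval_cases c
    · exact h1 (by simp)
    · exact h2 (by simp)
  · intro h
    refine ⟨hk, ?_, ?_⟩
    · rintro rfl
      exact h (by simp)
    · rintro rfl
      exact h hD.z_sq

theorem pow_ne_one_of_mem_idx (hD : IsTm a.1 x j m) {k : ℕ} (hk : k ∈ idx j) : x ^ k ≠ 1 := by
  intro h
  have h1 := (mem_idx_iff hD (Finset.mem_range.1 (Finset.mem_filter.1 hk).1)).1 hk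
  exact h1 (by rw [h, one_mul])

/-- The class of `x ^ k`, `k ∈ idx j`. -/
def clx (M : Ideal AlgInt) {a : BrauerPairIdx G} {x : G} {j m : ℕ} (hD : IsTm a.1 x j m)
    (k : {k // k ∈ idx j}) : Cl M a :=
  mkCl M a (x ^ (k : ℕ)) (a.1.pow_mem hD.mem _) (pow_ne_one_of_mem_idx hD k.2)

/-- The classes meeting `⟨x⟩` in elements of order at least four. -/
def MeetX (x : G) (i : Cl M a) : Prop := ∃ v ∈ Subgroup.zpowers x, v * v ≠ 1 ∧ Fus 2 M a (rep i) v

/-- The classes not meeting `⟨x⟩`. -/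
def Oth (x : G) (i : Cl M a) : Prop := ∀ v ∈ Subgroup.zpowers x, ¬ Fus 2 M a (rep i) v

theorem meetX_iff (hD : IsTm a.1 x j m) (i : Cl M a) :
    MeetX x i ↔ ∃ k, clx M hD k = i := by
  constructor
  · rintro ⟨v, hv, hv2, hf⟩
    obtain ⟨k, hk, rfl⟩ := hD.exists_pow hv
    refine ⟨⟨k, (mem_idx_iff hD hk).2 hv2⟩, ?_⟩
    exact ((eq_mkCl_iff _ _).2 hf).symm
  · rintro ⟨k, rfl⟩
    refine ⟨x ^ (k : ℕ), Subgroup.npow_mem_zpowers x _, ?_, fus_rep_mk _ _⟩
    exact (mem_idx_iff hD (Finset.mem_range.1 (Finset.mem_filter.1 k.2).1)).1 k.2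

theorem mul_sq_ne (hD : IsTm a.1 x j m) {k : ℕ} (hk : x ^ k * x ^ k ≠ 1) :
    x ^ (m * k) * x ^ (m * k) ≠ 1 := by
  intro h
  apply hk
  have h1 : (x ^ k * x ^ k) ^ m = 1 := by
    rw [← pow_add, ← pow_mul, ← h, ← pow_add]
    congr 1
    ring
  have h2 : (x ^ k * x ^ k) ^ 2 ^ (j + 1) = 1 := by
    rw [← pow_add, ← pow_mul, mul_comm, pow_mul, hD.pow_eq_one, one_pow]
  have h3 : orderOf (x ^ k * x ^ k) ∣ 1 := by
    have h6 : Nat.Coprime m (2 ^ (j + 1)) :=
      Nat.Coprime.pow_right _ (Nat.coprime_two_right.2 hD.odd_m)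
    rw [← h6.gcd_eq_one]
    exact Nat.dvd_gcd (orderOf_dvd_of_pow_eq_one h1) (orderOf_dvd_of_pow_eq_one h2)
  exact orderOf_eq_one_iff.1 (Nat.dvd_one.1 h3)

theorem pow_mod (hD : IsTm a.1 x j m) (k : ℕ) : x ^ (k % 2 ^ (j + 1)) = x ^ k := by
  rw [← hD.ord, pow_mod_orderOf]

/-- The fibers of `clx` have two elements. -/
theorem card_fiber_clx (hM : IsPModular 2 M) (hmax : IsMaximalBrauerPair 2 M B a.1 a.2)
    (hD : IsTm a.1 x j m) [DecidableEq (Cl M a)] {i : Cl M a} (hi : MeetX x i) :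
    (Finset.univ.filter fun k : {k // k ∈ idx j} => clx M hD k = i).card = 2 := by
  classical
  obtain ⟨k, rfl⟩ := (meetX_iff hD i).1 hi
  have hkr := Finset.mem_range.1 (Finset.mem_filter.1 k.2).1
  have hk2 := (mem_idx_iff hD hkr).1 k.2
  have hk'r : m * (k : ℕ) % 2 ^ (j + 1) < 2 ^ (j + 1) := Nat.mod_lt _ (by positivity)
  have hk' : m * (k : ℕ) % 2 ^ (j + 1) ∈ idx j := by
    rw [mem_idx_iff hD hk'r, pow_mod hD]
    exact mul_sq_ne hD hk2
  have hne : k ≠ ⟨_, hk'⟩ := by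
    intro h
    have h1 : (k : ℕ) = m * (k : ℕ) % 2 ^ (j + 1) := congrArg Subtype.val h
    apply hk2
    refine hD.sq_of_pow (a.1.pow_mem hD.mem _) ?_
    have h2 := pow_mod hD (m * (k : ℕ))
    rw [← h1, mul_comm, pow_mul] at h2
    exact h2.symm
  have hset : (Finset.univ.filter fun k' : {k // k ∈ idx j} => clx M hD k' = clx M hD k) =
      {k, ⟨_, hk'⟩} := by
    ext k'
    rw [Finset.mem_filter, Finset.mem_insert, Finset.mem_singleton]
    have hk'r' := Finset.mem_range.1 (Finset.mem_filter.1 k'.2).1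
    constructor
    · rintro ⟨-, h1⟩
      have h2 : Fus 2 M a (x ^ (k : ℕ)) (x ^ (k' : ℕ)) := ((mkCl_eq_iff _ _ _ _).1 h1).symm
      rcases fus_zpowers hM hmax hD (Subgroup.npow_mem_zpowers x _)
        (Subgroup.npow_mem_zpowers x _) h2 with h3 | h3
      · left
        apply Subtype.ext
        exact pow_injOn_Iio_orderOf (by rw [Set.mem_Iio, hD.ord]; exact hk'r')
          (by rw [Set.mem_Iio, hD.ord]; exact hkr) h3
      · right
        apply Subtype.ext
        refine pow_injOn_Iio_orderOf (x := x) (by rw [Set.mem_Iio, hD.ord]; exact hk'r')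
          (by rw [Set.mem_Iio, hD.ord]; exact hk'r) ?_
        change x ^ (k' : ℕ) = x ^ (m * (k : ℕ) % 2 ^ (j + 1))
        rw [h3, pow_mod hD, ← pow_mul, mul_comm]
    · rintro (rfl | rfl)
      · exact ⟨Finset.mem_univ _, rfl⟩
      · refine ⟨Finset.mem_univ _, (mkCl_eq_iff _ _ _ _).2 ?_⟩
        have h1 := fus_pow_m hM hmax hD (Subgroup.npow_mem_zpowers x (k : ℕ))
        rw [← pow_mul, mul_comm, ← pow_mod hD (m * (k : ℕ))] at h1
        exact h1.symm
  rw [hset, Finset.card_pair hne]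

open Classical in
/-- The sum over the powers of `x` of order at least four. -/
theorem sum_idx (hM : IsPModular 2 M) (hmax : IsMaximalBrauerPair 2 M B a.1 a.2)
    (hD : IsTm a.1 x j m) (φ : G → ℂ)
    (hφ : ∀ u v, u ∈ a.1 → v ∈ a.1 → Fus 2 M a u v → φ u = φ v) :
    ∑ k ∈ idx j, φ (x ^ k) = 2 * ∑ i : Cl M a with MeetX x i, φ (rep i) := by
  have h1 : ∑ k ∈ idx j, φ (x ^ k) = ∑ k : {k // k ∈ idx j}, φ (rep (clx M hD k)) := by
    rw [← Finset.sum_coe_sort]
    refine Finset.sum_congr rfl fun k _ => ?_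
    exact (hφ _ _ (rep_mem _) (a.1.pow_mem hD.mem _) (fus_rep_mk _ _)).symm
  rw [h1, Finset.sum_comp (fun i => φ (rep i)) (clx M hD), Finset.mul_sum]
  have h2 : (Finset.univ.image (clx M hD)) = Finset.univ.filter fun i : Cl M a => MeetX x i := by
    ext i
    rw [Finset.mem_image, Finset.mem_filter, meetX_iff hD]
    simp
  rw [h2]
  refine Finset.sum_congr rfl fun i hi => ?_
  rw [card_fiber_clx hM hmax hD (Finset.mem_filter.1 hi).2, nsmul_eq_mul]
  norm_num

open Classical in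
/-- The sum over the classes. -/
theorem sum_cl (hM : IsPModular 2 M) (hmax : IsMaximalBrauerPair 2 M B a.1 a.2)
    (hD : IsTm a.1 x j m) (φ : G → ℂ)
    (hφ : ∀ u v, u ∈ a.1 → v ∈ a.1 → Fus 2 M a u v → φ u = φ v) :
    2 * ∑ i : Cl M a, φ (rep i) = 2 * φ (x ^ 2 ^ j) + ∑ k ∈ idx j, φ (x ^ k) +
      2 * ∑ i : Cl M a with Oth x i, φ (rep i) := by
  have h0 : ∑ i : Cl M a, φ (rep i) = ∑ i : Cl M a with Fus 2 M a (rep i) (x ^ 2 ^ j), φ (rep i) +
      ∑ i : Cl M a with MeetX x i, φ (rep i) + ∑ i : Cl M a with Oth x i, φ (rep i) := by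
    have hd1 : Disjoint (Finset.univ.filter fun i : Cl M a => Fus 2 M a (rep i) (x ^ 2 ^ j))
        (Finset.univ.filter fun i : Cl M a => MeetX x i) := by
      rw [Finset.disjoint_filter]
      rintro i - h1 ⟨v, -, hv2, h2⟩
      exact not_fus_z hD hv2 (h2.symm.trans h1)
    have hd2 : Disjoint ((Finset.univ.filter fun i : Cl M a => Fus 2 M a (rep i) (x ^ 2 ^ j)) ∪
        (Finset.univ.filter fun i : Cl M a => MeetX x i))
        (Finset.univ.filter fun i : Cl M a => Oth x i) := by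
      rw [Finset.disjoint_left]
      intro i h1 h2
      rw [Finset.mem_filter] at h2
      rw [Finset.mem_union, Finset.mem_filter, Finset.mem_filter] at h1
      rcases h1 with ⟨-, h1⟩ | ⟨-, v, hv, -, h1⟩
      · exact h2.2 _ hD.z_mem' h1
      · exact h2.2 v hv h1
    rw [← Finset.sum_union hd1, ← Finset.sum_union hd2]
    symm
    refine Finset.sum_subset (Finset.subset_univ _) fun i _ hi => ?_
    exfalso
    apply hi
    simp only [Finset.mem_union, Finset.mem_filter, Finset.mem_univ, true_and]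
    by_cases hO : Oth x i
    · exact Or.inr hO
    · left
      unfold Oth at hO
      push Not at hO
      obtain ⟨v, hv, hf⟩ := hO
      by_cases hv2 : v * v = 1
      · left
        rcases hD.eq_of_sq hv hv2 with h1 | h1
        · exfalso
          apply rep_ne i
          obtain ⟨g, hg, -⟩ := hf
          rw [h1, conj_eq_one_iff] at hg
          exact hg
        · rwa [h1] at hf
      · exact Or.inr ⟨v, hv, hv2, hf⟩
  have h1 : ∑ i : Cl M a with Fus 2 M a (rep i) (x ^ 2 ^ j), φ (rep i) = φ (x ^ 2 ^ j) := by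
    have h2 : (Finset.univ.filter fun i : Cl M a => Fus 2 M a (rep i) (x ^ 2 ^ j)) =
        {mkCl M a (x ^ 2 ^ j) hD.z_mem hD.z_ne} := by
      ext i
      rw [Finset.mem_filter, Finset.mem_singleton, eq_mkCl_iff]
      simp
    rw [h2, Finset.sum_singleton]
    exact hφ _ _ (rep_mem _) hD.z_mem (fus_rep_mk _ _)
  rw [h0, h1, sum_idx hM hmax hD φ hφ]
  ring

end Cfsg.Agent.H619.Tame
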