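import Mathlib
import Cfsg.Agent.H619.TameSys
import Cfsg.Agent.H619.TameKey
import Cfsg.Agent.H619.TameInt
import Cfsg.Agent.H617.TwoAvg

/-!
# The contributions of the elements of `⟨x⟩` of order at least four

`Fx j n k = ∑ i, n i * w ^ (i k)`; `TT j n n'` is half the sum of `Fx j n k * conj (Fx j n' k)` over
the `k ∈ idx j`.
-/

set_option autoImplicit false
set_option linter.unusedSectionVars false

open Cfsg
open scoped ComplexConjugate

namespace Cfsg.Agent.H619.Tame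

open Cfsg.Agent.H617.TwoAvg Cfsg.Agent.H619.TameInt

/-- The values at the powers of `x`. -/
noncomputable def Fx (j : ℕ) (n : ℕ → ℤ) (k : ℕ) : ℂ :=
  ∑ i ∈ Finset.range (2 ^ (j + 1)), (n i : ℂ) * w j ^ (i * k)

/-- The even indices. -/
def evS (j : ℕ) : Finset ℕ := (Finset.range (2 ^ (j + 1))).filter fun i => Even i

/-- The odd indices. -/
def odS (j : ℕ) : Finset ℕ := (Finset.range (2 ^ (j + 1))).filter fun i => ¬ Even i

theorem card_evS (j : ℕ) : (evS j).card = 2 ^ j := by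
  have h : evS j = (Finset.range (2 ^ j)).image fun i => 2 * i := by
    ext k
    rw [evS, Finset.mem_filter, Finset.mem_image, Finset.mem_range]
    constructor
    · rintro ⟨h1, m, hm⟩
      refine ⟨m, ?_, by omega⟩
      rw [Finset.mem_range]
      rw [pow_succ] at h1
      omega
    · rintro ⟨m, hm, rfl⟩
      rw [Finset.mem_range] at hm
      refine ⟨?_, even_two_mul m⟩
      rw [pow_succ]
      omega
  rw [h, Finset.card_image_of_injective _ (fun a b h => by simpa using h), Finset.card_range]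

theorem card_odS (j : ℕ) : (odS j).card = 2 ^ j := by
  have h1 : (evS j).card + (odS j).card = (Finset.range (2 ^ (j + 1))).card :=
    Finset.card_filter_add_card_filter_not (s := Finset.range (2 ^ (j + 1))) (fun i => Even i)
  rw [card_evS, Finset.card_range, pow_succ] at h1
  omega

theorem sum_evS_add_odS {A : Type*} [AddCommMonoid A] (j : ℕ) (f : ℕ → A) :
    ∑ i ∈ evS j, f i + ∑ i ∈ odS j, f i = ∑ i ∈ Finset.range (2 ^ (j + 1)), f i :=
  Finset.sum_filter_add_sum_filter_not _ _ _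

/-- Half the sum of the products of the values. -/
def TT (j : ℕ) (n n' : ℕ → ℤ) : ℤ :=
  2 ^ j * ∑ i ∈ Finset.range (2 ^ (j + 1)), n i * n' i -
    (∑ i ∈ evS j, n i) * (∑ i ∈ evS j, n' i) - (∑ i ∈ odS j, n i) * (∑ i ∈ odS j, n' i)

theorem TT_comm (j : ℕ) (n n' : ℕ → ℤ) : TT j n n' = TT j n' n := by
  unfold TT
  have h : ∑ i ∈ Finset.range (2 ^ (j + 1)), n i * n' i =
      ∑ i ∈ Finset.range (2 ^ (j + 1)), n' i * n i :=
    Finset.sum_congr rfl fun i _ => mul_comm _ _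
  rw [h]
  ring

theorem TT_self (j : ℕ) (n : ℕ → ℤ) : TT j n n = V (evS j) n + V (odS j) n := by
  unfold TT V
  rw [card_evS, card_odS, ← sum_evS_add_odS]
  have h1 : ∀ i, n i * n i = n i ^ 2 := fun i => by ring
  simp only [h1]
  push_cast
  ring

theorem TT_self_nonneg (j : ℕ) (n : ℕ → ℤ) : 0 ≤ TT j n n := by
  rw [TT_self]
  exact add_nonneg (V_nonneg _ _) (V_nonneg _ _)

theorem TT_odd {j : ℕ} (hj : 1 ≤ j) (n : ℕ → ℤ)
    (h : Odd (∑ i ∈ Finset.range (2 ^ (j + 1)), n i)) : 2 ^ j - 1 ≤ TT j n n := by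
  rw [TT_self]
  have hev : Even (evS j).card := by
    rw [card_evS]
    exact (even_two.pow_of_ne_zero (by omega))
  have h1 := V_add_odd (evS j) (odS j) n hev (by rw [card_evS]; positivity)
    (by rw [card_evS, card_odS]) (by rw [sum_evS_add_odS]; exact h)
  rw [card_evS] at h1
  push_cast at h1
  exact h1

theorem TT_even {j : ℕ} (hj : 1 ≤ j) (n : ℕ → ℤ)
    (h : Even (∑ i ∈ Finset.range (2 ^ (j + 1)), n i)) :
    TT j n n = 0 ∨ 2 ^ (j + 1) - 4 ≤ TT j n n := by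
  rw [TT_self]
  have hev : Even (evS j).card := by
    rw [card_evS]
    exact (even_two.pow_of_ne_zero (by omega))
  have h1 := V_add_even (evS j) (odS j) n hev (by rw [card_evS]; positivity)
    (by rw [card_evS, card_odS]) (by rw [sum_evS_add_odS]; exact h)
  rw [card_evS] at h1
  push_cast at h1
  rw [pow_succ, mul_comm ((2 : ℤ) ^ j)]
  exact h1

/-- Orthogonality. -/
theorem sum_Fx_mul (j : ℕ) (n n' : ℕ → ℤ) :
    ∑ k ∈ Finset.range (2 ^ (j + 1)), Fx j n k * conj (Fx j n' k) =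
      2 ^ (j + 1) * ∑ i ∈ Finset.range (2 ^ (j + 1)), (n i : ℂ) * n' i := by
  have hw := isPrimitiveRoot_w j
  have hw0 := w_ne_zero j
  have h1 : ∀ k, Fx j n k * conj (Fx j n' k) =
      ∑ i ∈ Finset.range (2 ^ (j + 1)), ∑ i' ∈ Finset.range (2 ^ (j + 1)),
        (n i : ℂ) * n' i' * (w j ^ i * (w j ^ i')⁻¹) ^ k := by
    intro k
    unfold Fx
    rw [map_sum, Finset.sum_mul_sum]
    refine Finset.sum_congr rfl fun i _ => Finset.sum_congr rfl fun i' _ => ?_
    rw [map_mul, map_intCast, conj_w_pow, mul_pow, inv_pow, ← pow_mul, ← pow_mul]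
    ring
  simp_rw [h1]
  rw [Finset.sum_comm, Finset.mul_sum]
  refine Finset.sum_congr rfl fun i hi => ?_
  rw [Finset.sum_comm, Finset.sum_eq_single i]
  · simp_rw [mul_inv_cancel₀ (pow_ne_zero i hw0), one_pow, mul_one]
    rw [Finset.sum_const, Finset.card_range, nsmul_eq_mul]
    push_cast
    ring
  · intro i' hi' hne
    rw [← Finset.mul_sum]
    have h2 : w j ^ i * (w j ^ i')⁻¹ ≠ 1 := by
      intro h
      apply hne
      rw [mul_inv_eq_one₀ (pow_ne_zero _ hw0)] at h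
      exact (hw.pow_inj (Finset.mem_range.1 hi) (Finset.mem_range.1 hi') h).symm
    have h3 : (w j ^ i * (w j ^ i')⁻¹) ^ 2 ^ (j + 1) = 1 := by
      rw [mul_pow, inv_pow, ← pow_mul, ← pow_mul, mul_comm i, mul_comm i', pow_mul, pow_mul,
        w_pow_card, one_pow, one_pow, inv_one, one_mul]
    have h4 := geom_sum_mul (w j ^ i * (w j ^ i')⁻¹) (2 ^ (j + 1))
    rw [h3, sub_self, mul_eq_zero] at h4
    rw [h4.resolve_right (sub_ne_zero.2 h2), mul_zero]
  · exact fun h => absurd hi h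

theorem Fx_zero (j : ℕ) (n : ℕ → ℤ) :
    Fx j n 0 = ((∑ i ∈ evS j, n i + ∑ i ∈ odS j, n i : ℤ) : ℂ) := by
  rw [sum_evS_add_odS]
  unfold Fx
  push_cast
  refine Finset.sum_congr rfl fun i _ => ?_
  rw [mul_zero, pow_zero, mul_one]

theorem Fx_half (j : ℕ) (n : ℕ → ℤ) :
    Fx j n (2 ^ j) = ((∑ i ∈ evS j, n i - ∑ i ∈ odS j, n i : ℤ) : ℂ) := by
  unfold Fx
  rw [← sum_evS_add_odS]
  push_cast
  rw [sub_eq_add_neg, ← Finset.sum_neg_distrib]
  congr 1
  · refine Finset.sum_congr rfl fun i hi => ?_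
    rw [mul_comm i, pow_mul, w_pow_half, (Finset.mem_filter.1 hi).2.neg_one_pow, mul_one]
  · refine Finset.sum_congr rfl fun i hi => ?_
    rw [mul_comm i, pow_mul, w_pow_half,
      (Nat.not_even_iff_odd.1 (Finset.mem_filter.1 hi).2).neg_one_pow, mul_neg_one]

theorem sum_range_eq {A : Type*} [AddCommMonoid A] (j : ℕ) (f : ℕ → A) :
    ∑ k ∈ Finset.range (2 ^ (j + 1)), f k = f 0 + f (2 ^ j) + ∑ k ∈ idx j, f k := by
  have h1 : idx j = ((Finset.range (2 ^ (j + 1))).erase 0).erase (2 ^ j) := by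
    ext k
    simp only [idx, Finset.mem_filter, Finset.mem_range, Finset.mem_erase]
    tauto
  have h2 : (2 : ℕ) ^ j < 2 ^ (j + 1) := Nat.pow_lt_pow_right (by norm_num) (Nat.lt_succ_self j)
  have h3 : (0 : ℕ) ∈ Finset.range (2 ^ (j + 1)) := Finset.mem_range.2 (by positivity)
  have h4 : 2 ^ j ∈ (Finset.range (2 ^ (j + 1))).erase 0 :=
    Finset.mem_erase.2 ⟨(pow_pos two_pos j).ne', Finset.mem_range.2 h2⟩
  rw [h1, ← Finset.add_sum_erase _ _ h3, ← Finset.add_sum_erase _ _ h4, add_assoc]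

theorem sum_idx_Fx (j : ℕ) (n n' : ℕ → ℤ) :
    ∑ k ∈ idx j, Fx j n k * conj (Fx j n' k) = 2 * (TT j n n' : ℂ) := by
  have h1 := sum_Fx_mul j n n'
  rw [sum_range_eq, Fx_zero, Fx_zero, Fx_half, Fx_half, map_intCast, map_intCast] at h1
  have h2 : ∑ k ∈ idx j, Fx j n k * conj (Fx j n' k) =
      2 ^ (j + 1) * ∑ i ∈ Finset.range (2 ^ (j + 1)), (n i : ℂ) * n' i -
      (((∑ i ∈ evS j, n i + ∑ i ∈ odS j, n i : ℤ) : ℂ) *
        ((∑ i ∈ evS j, n' i + ∑ i ∈ odS j, n' i : ℤ) : ℂ) +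
      ((∑ i ∈ evS j, n i - ∑ i ∈ odS j, n i : ℤ) : ℂ) *
        ((∑ i ∈ evS j, n' i - ∑ i ∈ odS j, n' i : ℤ) : ℂ)) := by
    rw [← h1]; ring
  rw [h2]
  unfold TT
  push_cast
  ring

theorem TT_zero {j : ℕ} {n : ℕ → ℤ} (h : TT j n n = 0) (n' : ℕ → ℤ) : TT j n n' = 0 := by
  have h1 := sum_idx_Fx j n n
  rw [h, Int.cast_zero, mul_zero] at h1
  have h2 : ∑ k ∈ idx j, ‖Fx j n k‖ ^ 2 = 0 := by
    have h3 : ((∑ k ∈ idx j, ‖Fx j n k‖ ^ 2 : ℝ) : ℂ) = 0 := by
      rw [← h1]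
      push_cast
      refine Finset.sum_congr rfl fun k _ => ?_
      rw [Complex.mul_conj, Complex.normSq_eq_norm_sq]
      push_cast
      ring
    exact_mod_cast h3
  have h3 := (Finset.sum_eq_zero_iff_of_nonneg fun k _ => sq_nonneg _).1 h2
  have h4 : ∀ k ∈ idx j, Fx j n k = 0 := fun k hk =>
    norm_eq_zero.1 (pow_eq_zero_iff two_ne_zero |>.1 (h3 k hk))
  have h5 := sum_idx_Fx j n n'
  rw [Finset.sum_eq_zero fun k hk => by rw [h4 k hk, zero_mul]] at h5
  have h6 : (TT j n n' : ℂ) = 0 := (mul_eq_zero.1 h5.symm).resolve_left two_ne_zero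
  exact_mod_cast h6

section block

open Cfsg.Agent.Blocks.Blau Cfsg.Agent.Blocks.Local Cfsg.Agent.Characters
open Cfsg.Agent.H613.SubSys Cfsg.Agent.H613.SubFus
open Cfsg.Agent.H639 Cfsg.Agent.H649

universe u

variable {G : Type u} [Group G] [Finite G] {M : Ideal AlgInt}
  {B : Set (IrrCharacter G)} {a : BrauerPairIdx G} {x : G} {j m : ℕ}

theorem exists_T (hM : IsPModular 2 M) (hmax : IsMaximalBrauerPair 2 M B a.1 a.2)
    (hD : IsTm a.1 x j m) : ∃ n : IrrCharacter G → ℕ → ℤ, ∀ k ∈ idx j,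
      ∀ χ ψ : IrrCharacter G, Cn 2 (x ^ k) (bel 2 M a (x ^ k)) (χ : G → ℂ) (ψ : G → ℂ) =
        Fx j (n χ) k * conj (Fx j (n ψ) k) / 2 ^ (j + 1) := by
  have : Fact (Nat.Prime 2) := ⟨Nat.prime_two⟩
  have hj := hD.pos
  set v : G := x ^ 2 ^ (j - 1) with hv
  have hvx : v ∈ Subgroup.zpowers x := Subgroup.npow_mem_zpowers x _
  have hv2' : v * v = x ^ 2 ^ j := by
    rw [hv, ← pow_add, ← two_mul, ← pow_succ', Nat.sub_add_cancel hj]
  have hv2 : v * v ≠ 1 := by rw [hv2']; exact hD.z_ne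
  have hv4 : v ^ 4 = 1 := by
    rw [show (4 : ℕ) = 2 + 2 from rfl, pow_add, pow_two, hv2', hD.z_sq]
  have hv1 : v ≠ 1 := fun h => hv2 (by rw [h, one_mul])
  have hw : IsPrimitiveRoot (w j) (orderOf x) := by rw [hD.ord]; exact isPrimitiveRoot_w j
  obtain ⟨n, hn⟩ := exists_key hM hmax (hD.zpowers_le hvx) (inf_centralizer_x hD hvx hv2)
    (by rw [hD.ord, defect_x hM hmax hD hvx hv2])
    (nil_bel hM hmax hD (hD.zpowers_le hvx) hv1 (not_fus_z hD hv2)) hw
  refine ⟨n, fun k hk χ ψ => ?_⟩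
  have hk2 := (mem_idx_iff hD (Finset.mem_range.1 (Finset.mem_filter.1 hk).1)).1 hk
  rw [hn k (hD.mem_zpowers_of_four (Subgroup.npow_mem_zpowers x _) hvx hk2 hv4) χ ψ, hD.ord]
  unfold Fx
  push_cast
  rfl

end block

end Cfsg.Agent.H619.Tame
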