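import Mathlib
import Cfsg.Agent.H619.TameT
import Cfsg.Agent.H619.TameSemi
import Cfsg.Agent.H613.TwoColD
import Cfsg.Agent.H613.HtFour
import Cfsg.Agent.H613.NumCol

/-!
# Heights and parity

* `card_height_zero`: there are four characters of height zero;
* `parity`: `∑ i, n χ i` is odd if and only if `χ` has height zero.
-/

set_option autoImplicit false
set_option linter.unusedSectionVars false

open Cfsg
open scoped ComplexConjugate

namespace Cfsg.Agent.H619.Tame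

open Cfsg.Agent.Blocks.Blau Cfsg.Agent.Blocks.Local Cfsg.Agent.Characters
open Cfsg.Agent.H613.RegGram Cfsg.Agent.H613.Contrib Cfsg.Agent.H613.ContribVal
open Cfsg.Agent.H613.SubSys Cfsg.Agent.H613.SubFus Cfsg.Agent.H613.TwoCol
open Cfsg.Agent.H639 Cfsg.Agent.H649 Cfsg.Agent.H617.TwoAvg

universe u

section local'

variable {M : Ideal AlgInt}

theorem memLocalIdeal_comb_sub (hM : IsPModular 2 M) {ι : Type*} (s : Finset ι) (c : ι → ℤ)
    (z : ι → ℂ) {K : ℕ} (hz : ∀ i ∈ s, z i ^ 2 ^ K = 1) :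
    MemLocalIdeal M (∑ i ∈ s, (c i : ℂ) * z i - ((∑ i ∈ s, c i : ℤ) : ℂ)) := by
  have := isPrime_of_isPModular hM
  have : Fact (Nat.Prime 2) := ⟨Nat.prime_two⟩
  push_cast
  rw [← Finset.sum_sub_distrib]
  refine memLocalIdeal_sum fun i hi => ?_
  have h := memLocalIdeal_mul_left (memLocalRing_intCast (M := M) (c i))
    (memLocalIdeal_root_sub_one hM (hz i hi))
  convert h using 1
  ring

theorem memLocalIdeal_normSq (hM : IsPModular 2 M) {ι : Type*} (s : Finset ι) (c : ι → ℤ)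
    (z : ι → ℂ) {K : ℕ} (hz : ∀ i ∈ s, z i ^ 2 ^ K = 1) :
    MemLocalIdeal M ((∑ i ∈ s, (c i : ℂ) * z i) * conj (∑ i ∈ s, (c i : ℂ) * z i) -
      (((∑ i ∈ s, c i) * (∑ i ∈ s, c i) : ℤ) : ℂ)) := by
  have := isPrime_of_isPModular hM
  have h1 := memLocalIdeal_comb_sub hM s c z hz
  have h2 := memLocalIdeal_comb_sub hM s c (fun i => conj (z i)) (K := K)
    (fun i hi => by rw [← map_pow, hz i hi, map_one])
  have h3 : conj (∑ i ∈ s, (c i : ℂ) * z i) = ∑ i ∈ s, (c i : ℂ) * conj (z i) := by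
    rw [map_sum]
    refine Finset.sum_congr rfl fun i _ => ?_
    rw [map_mul, map_intCast]
  rw [← h3] at h2
  have h4 : MemLocalRing M (∑ i ∈ s, (c i : ℂ) * z i) := by
    have h5 := memLocalRing_add (memLocalRing_of_memLocalIdeal h1)
      (memLocalRing_intCast (M := M) (∑ i ∈ s, c i))
    rwa [sub_add_cancel] at h5
  have h5 := memLocalIdeal_mul_left h4 h2
  have h6 := memLocalIdeal_mul_right h1 (memLocalRing_intCast (M := M) (∑ i ∈ s, c i))
  have h7 := memLocalIdeal_add h5 h6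
  convert h7 using 1
  push_cast
  ring

/-- Equal norms give equal parities. -/
theorem even_iff_of_normSq (hM : IsPModular 2 M) {ι κ : Type*} (s : Finset ι) (t : Finset κ)
    (c : ι → ℤ) (d : κ → ℤ) (z : ι → ℂ) (y : κ → ℂ) {K L : ℕ} (hz : ∀ i ∈ s, z i ^ 2 ^ K = 1)
    (hy : ∀ i ∈ t, y i ^ 2 ^ L = 1)
    (h : (∑ i ∈ s, (c i : ℂ) * z i) * conj (∑ i ∈ s, (c i : ℂ) * z i) =
      (∑ i ∈ t, (d i : ℂ) * y i) * conj (∑ i ∈ t, (d i : ℂ) * y i)) :
    Even (∑ i ∈ s, c i) ↔ Even (∑ i ∈ t, d i) := by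
  have := isPrime_of_isPModular hM
  have h1 := memLocalIdeal_normSq hM s c z hz
  have h2 := memLocalIdeal_normSq hM t d y hy
  rw [h] at h1
  have h3 := memLocalIdeal_sub h1 h2
  have h4 : MemLocalIdeal M ((((∑ i ∈ t, d i) * (∑ i ∈ t, d i) -
      (∑ i ∈ s, c i) * (∑ i ∈ s, c i) : ℤ)) : ℂ) := by
    convert h3 using 1
    push_cast
    ring
  rw [memLocalIdeal_intCast_iff hM] at h4
  have h5 : Even ((∑ i ∈ t, d i) * (∑ i ∈ t, d i) - (∑ i ∈ s, c i) * (∑ i ∈ s, c i)) := by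
    obtain ⟨e, he⟩ := h4
    exact ⟨e, by rw [he]; push_cast; ring⟩
  rw [Int.even_sub, Int.even_mul, Int.even_mul] at h5
  tauto

end local'

variable {G : Type u} [Group G] [Finite G] {M : Ideal AlgInt}
  {B : Set (IrrCharacter G)} {a : BrauerPairIdx G} {x : G} {j m : ℕ}

theorem x_sq_ne (hD : IsTm a.1 x j m) : x * x ≠ 1 := by
  intro h
  have h1 : orderOf x ∣ 2 := by rw [orderOf_dvd_iff_pow_eq_one, pow_two, h]
  rw [hD.ord] at h1
  have h2 := Nat.le_of_dvd (by norm_num) h1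
  have h3 : 2 ^ 2 ≤ 2 ^ (j + 1) := Nat.pow_le_pow_right (by norm_num) (by have := hD.pos; omega)
  omega

/-- Conjugation of odd powers of `x` by elements fixing `b_x`. -/
theorem conj_odd_iff (hM : IsPModular 2 M) (hmax : IsMaximalBrauerPair 2 M B a.1 a.2)
    (hD : IsTm a.1 x j m) {k k' : ℕ} (hk : k ∈ oddSet (j + 1)) (hk' : k' ∈ oddSet (j + 1)) :
    (∃ g : G, g * x ^ k * g⁻¹ = x ^ k' ∧ conjIdx g (bel 2 M a x) = bel 2 M a x) ↔
      (k' = k ∨ k' = m * k % 2 ^ (j + 1)) := by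
  have : Fact (Nat.Prime 2) := ⟨Nat.prime_two⟩
  have hp : M.IsPrime := isPrime_of_isPModular hM
  obtain ⟨hk1, hk2⟩ := mem_oddSet.1 hk
  obtain ⟨hk1', hk2'⟩ := mem_oddSet.1 hk'
  have ha := hmax.1.1
  have hbel : ∀ i, Odd i → bel 2 M a (x ^ i) = bel 2 M a x := by
    intro i hi
    refine (eq_bel hM ha ?_ (bel_le hM ha hD.mem)).symm
    rw [bel_fst, zpowers_pow_odd hD.pow_eq_one hi]
  constructor
  · rintro ⟨g, hg, hgb⟩
    have hf : Fus 2 M a (x ^ k) (x ^ k') := ⟨g, hg, by rw [hbel k hk2, hbel k' hk2', hgb]⟩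
    rcases fus_zpowers hM hmax hD (Subgroup.npow_mem_zpowers x _)
      (Subgroup.npow_mem_zpowers x _) hf with h1 | h1
    · left
      exact pow_injOn_Iio_orderOf (x := x) (by rw [Set.mem_Iio, hD.ord]; exact hk1')
        (by rw [Set.mem_Iio, hD.ord]; exact hk1) h1
    · right
      refine pow_injOn_Iio_orderOf (x := x) (by rw [Set.mem_Iio, hD.ord]; exact hk1')
        (by rw [Set.mem_Iio, hD.ord]; exact Nat.mod_lt _ (by positivity)) ?_
      change x ^ k' = x ^ (m * k % 2 ^ (j + 1))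
      rw [h1, pow_mod hD, ← pow_mul, mul_comm]
  · rintro (rfl | rfl)
    · exact ⟨1, by simp, conjIdx_one _⟩
    · obtain ⟨y, hy, hyx⟩ := hD.exists_notMem
      refine ⟨y, ?_, ?_⟩
      · rw [pow_mod hD, ← conj_pow, hD.conj y hy hyx, ← pow_mul]
      · rw [conjIdx_bel hM ha (conjIdx_self hM ha hy) hD.mem, hD.conj y hy hyx, hbel m hD.odd_m]

theorem m_not_modEq (hD : IsTm a.1 x j m) : ¬ m ≡ 1 [MOD 2 ^ (j + 1)] := by
  intro h
  apply x_sq_ne hD
  refine hD.sq_of_pow hD.mem ?_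
  have h1 : x ^ m = x ^ 1 := by
    rw [pow_eq_pow_iff_modEq, hD.ord]
    exact h
  rw [h1, pow_one]

/-- The parity of the coefficients of the columns at `x`. -/
theorem even_sum_sub (hM : IsPModular 2 M) (hmax : IsMaximalBrauerPair 2 M B a.1 a.2)
    (hD : IsTm a.1 x j m)
    {d : IrrCharacter (Subgroup.centralizer ((bel 2 M a x).1 : Set G)) → ℕ}
    {c : IrrCharacter G → ℕ → ℤ} (h : Col M B x (bel 2 M a x) j d c)
    (hl : blockRank 2 (bel 2 M a x).2 = 1) (χ : IrrCharacter G) :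
    Even (∑ i ∈ Finset.range (2 ^ j), c χ i - c χ 0) := by
  have hmul : ∀ k, Odd k → ev j (c χ) (m * k) = ev j (c χ) k := by
    intro k hk
    obtain ⟨y, hy, hyx⟩ := hD.exists_notMem
    refine h.ev_eq hM hl (x := y) hk (hD.odd_m.mul hk) ?_ ?_ χ
    · rw [← conj_pow, hD.conj y hy hyx, ← pow_mul]
    · have : Fact (Nat.Prime 2) := ⟨Nat.prime_two⟩
      have ha := hmax.1.1
      rw [conjIdx_bel hM ha (conjIdx_self hM ha hy) hD.mem, hD.conj y hy hyx]
      refine (eq_bel hM ha ?_ (bel_le hM ha hD.mem)).symm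
      rw [bel_fst, zpowers_pow_odd hD.pow_eq_one hD.odd_m]
  rcases hD.hm with h1 | ⟨h1, h2⟩
  · have hreal : ∀ k ∈ oddSet (j + 1), conj (ev j (c χ) k) = ev j (c χ) k := by
      intro k hk
      have hk2 := (mem_oddSet.1 hk).2
      have h3 : conj (ev j (c χ) k) = ev j (c χ) (m * k) := by
        rw [ev_def, ev_def, map_sum]
        refine Finset.sum_congr rfl fun i _ => ?_
        rw [map_mul, map_intCast, conj_w_pow]
        congr 1
        symm
        refine eq_inv_of_mul_eq_one_left ?_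
        rw [← pow_add]
        have h4 : i * (m * k) + i * k = 2 ^ (j + 1) * (i * k) := by
          have h5 : m + 1 = 2 ^ (j + 1) := by
            rw [h1]
            exact Nat.sub_add_cancel Nat.one_le_two_pow
          rw [← h5]
          ring
        rw [h4, pow_mul, w_pow_card, one_pow]
      rw [h3, hmul k hk2]
    rw [sum_eq_of_real hreal, sub_self]
    exact Even.zero
  · refine even_sub_of_semi h1 fun k hk => ?_
    rw [← h2]
    exact hmul k hk

/-- There are four characters of height zero, and `n χ` has odd sum exactly for these. -/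
theorem card_and_parity (hM : IsPModular 2 M) (hmax : IsMaximalBrauerPair 2 M B a.1 a.2)
    (hD : IsTm a.1 x j m) {n : IrrCharacter G → ℕ → ℤ}
    (hn : ∀ k ∈ idx j, ∀ χ ψ : IrrCharacter G,
      Cn 2 (x ^ k) (bel 2 M a (x ^ k)) (χ : G → ℂ) (ψ : G → ℂ) =
        Fx j (n χ) k * conj (Fx j (n ψ) k) / 2 ^ (j + 1)) :
    Nat.card {χ : IrrCharacter G // χ ∈ B ∧ blockHeight 2 B (χ : G → ℂ) = 0} = 4 ∧
    (∀ χ : IrrCharacter G, χ ∈ B → blockHeight 2 B (χ : G → ℂ) = 0 →
      Odd (∑ i ∈ Finset.range (2 ^ (j + 1)), n χ i)) ∧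
    (∀ χ : IrrCharacter G, χ ∈ B → blockHeight 2 B (χ : G → ℂ) ≠ 0 →
      Even (∑ i ∈ Finset.range (2 ^ (j + 1)), n χ i)) := by
  classical
  have : Fact (Nat.Prime 2) := ⟨Nat.prime_two⟩
  have hp : M.IsPrime := isPrime_of_isPModular hM
  have := Core.finite_irr (G := G)
  have := Fintype.ofFinite (IrrCharacter G)
  have := Fintype.ofFinite B
  have hx1 : x ≠ 1 := fun h => x_sq_ne hD (by rw [h, one_mul])
  have hl : blockRank 2 (bel 2 M a x).2 = 1 :=
    rank_bel hM hmax hD hD.mem hx1 (not_fus_z hD (x_sq_ne hD))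
  have hdx : blockDefect 2 (bel 2 M a x).2 = j + 1 :=
    defect_x hM hmax hD (Subgroup.mem_zpowers x) (x_sq_ne hD)
  obtain ⟨d, c, hcol⟩ := exists_col hM (isSubsec_bel hM hmax hD.mem) hl hD.pow_eq_one
  -- the traces
  have hsum : ∑ χ : B, c χ 0 ^ 2 = 4 := by
    have h1 := hcol.sum_sq_zero hM hl hD.odd_m (m_not_modEq hD)
      (fun k k' hk hk' => conj_odd_iff hM hmax hD hk hk')
    rw [hdx] at h1
    have h2 : (2 : ℤ) * 2 ^ (j + 1) = 2 ^ j * 4 := by rw [pow_succ]; ring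
    rw [h2] at h1
    exact mul_left_cancel₀ (pow_ne_zero j two_ne_zero) h1
  have hodd : ∀ χ : IrrCharacter G, χ ∈ B → blockHeight 2 B (χ : G → ℂ) = 0 →
      Odd (c χ 0) := by
    intro χ hχ h0
    have h1 := hcol.not_memLocalIdeal hM hχ h0 (k := 1) odd_one
    rw [memLocalIdeal_ev_iff hM] at h1
    have h2 := even_sum_sub hM hmax hD hcol hl χ
    have h3 : Odd (∑ i ∈ Finset.range (2 ^ j), c χ i) := by
      rw [← Int.not_even_iff_odd]
      exact fun h => h1 (even_iff_two_dvd.1 h)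
    rw [Int.even_sub'] at h2
    exact h2.1 h3
  set s : Finset B := Finset.univ.filter fun χ : B =>
    blockHeight 2 B ((χ : IrrCharacter G) : G → ℂ) = 0 with hs
  have hcard : Nat.card {χ : IrrCharacter G // χ ∈ B ∧ blockHeight 2 B (χ : G → ℂ) = 0} =
      s.card := by
    rw [hs, ← Fintype.card_subtype, ← Nat.card_eq_fintype_card]
    exact Nat.card_congr (Equiv.subtypeSubtypeEquivSubtypeInter (fun χ => χ ∈ B)
      (fun χ : IrrCharacter G => blockHeight 2 B (χ : G → ℂ) = 0)).symm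
  have hB := hmax.1.2.1
  have hdB := defect_B hM hmax hD
  obtain ⟨h4, h5, h6⟩ := H613.NumCol.num_four s (fun χ : B => c χ 0)
    (fun χ hχ => hodd χ χ.2 (Finset.mem_filter.1 hχ).2) hsum
    (by
      rw [← hcard]
      exact H613.HtFour.four_dvd hM hB (by rw [hdB]; omega))
    (by
      rw [← hcard]
      exact H613.HtFour.one_le hM hB)
  -- comparison of the parities
  have h1idx : 1 ∈ idx j := by
    rw [mem_idx_iff hD (Nat.one_lt_two_pow (Nat.succ_ne_zero j)), pow_one]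
    exact x_sq_ne hD
  have hpar : ∀ χ : IrrCharacter G, Even (∑ i ∈ Finset.range (2 ^ (j + 1)), n χ i) ↔
      Even (c χ 0) := by
    intro χ
    have h7 := hn 1 h1idx χ χ
    have h8 := hcol.Cn_eq χ χ (k := 1) odd_one
    rw [pow_one] at h7 h8
    rw [h7, hdx] at h8
    have hp0 : (2 : ℂ) ^ (j + 1) ≠ 0 := pow_ne_zero _ two_ne_zero
    rw [div_left_inj' hp0, ev_def] at h8
    unfold Fx at h8
    have h9 := even_iff_of_normSq hM (Finset.range (2 ^ (j + 1))) (Finset.range (2 ^ j))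
      (n χ) (c χ) (fun i => w j ^ (i * 1)) (fun i => w j ^ (i * 1)) (K := j + 1) (L := j + 1)
      (fun i _ => by rw [← pow_mul, mul_comm, pow_mul, w_pow_card, one_pow])
      (fun i _ => by rw [← pow_mul, mul_comm, pow_mul, w_pow_card, one_pow]) h8
    rw [h9]
    have h10 := even_sum_sub hM hmax hD hcol hl χ
    rw [Int.even_sub] at h10
    exact h10
  refine ⟨by rw [hcard, h4], fun χ hχ h0 => ?_, fun χ hχ h0 => ?_⟩
  · rw [← Int.not_even_iff_odd, hpar, Int.not_even_iff_odd]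
    exact hodd χ hχ h0
  · rw [hpar]
    have h7 := h6 ⟨χ, hχ⟩ (by
      rw [hs, Finset.mem_filter]
      exact fun h => h0 h.2)
    rw [show c χ 0 = 0 from h7]
    exact Even.zero

end Cfsg.Agent.H619.Tame
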