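import Mathlib

/-!
# Numerics of tame 2-blocks

Integer matrices `t1`, `tz` (`2 ^ n` times the contributions of `1` and of the central involution
`z`) and `T` (the contributions of the other elements of the cyclic maximal subgroup).

* `bessel`: rank inequality for a multiple of an idempotent;
* `Tame`: the hypotheses; `Tame.main`: the conclusion for `n ≥ 4`; `Tame3.main` for `n = 3`.
-/

set_option autoImplicit false

namespace Cfsg.Agent.H619.TameNum

open Finset

variable {I : Type*} [Fintype I] [DecidableEq I]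

/-- Rank inequality. -/
theorem bessel (t : I → I → ℤ) (q : ℤ) (hq : 0 < q) (hs : ∀ i j, t i j = t j i)
    (hm : ∀ i j, ∑ k, t i k * t k j = q * t i j) (S : Finset I)
    (hoff : ∀ i ∈ S, ∀ j ∈ S, i ≠ j → t i j = 0) (hpos : ∀ i ∈ S, 0 < t i i) :
    q * (S.card : ℤ) ≤ ∑ i, t i i := by
  have hqR : (0 : ℝ) < q := by exact_mod_cast hq
  have hmR : ∀ i j, ∑ k, (t i k : ℝ) * (t j k : ℝ) = q * t i j := by
    intro i j
    have h1 := hm i j
    have h2 : ∑ k, t i k * t j k = q * t i j := by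
      rw [← h1]
      exact Finset.sum_congr rfl fun k _ => by rw [hs j k]
    exact_mod_cast h2
  have hposR : ∀ i ∈ S, (0 : ℝ) < t i i := fun i hi => by exact_mod_cast hpos i hi
  have key : ∀ k, ∑ i ∈ S, (t i k : ℝ) ^ 2 / t i i ≤ t k k := by
    intro k
    have h0 : 0 ≤ ∑ j, ((t k j : ℝ) - ∑ i ∈ S, (t i k : ℝ) / t i i * t i j) ^ 2 :=
      Finset.sum_nonneg fun _ _ => sq_nonneg _
    have h1 : ∑ j, ((t k j : ℝ) - ∑ i ∈ S, (t i k : ℝ) / t i i * t i j) ^ 2 =
        ∑ j, (t k j : ℝ) * t k j - 2 * ∑ i ∈ S, (t i k : ℝ) / t i i * ∑ j, (t i j : ℝ) * t k j +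
        ∑ i ∈ S, ∑ i' ∈ S, (t i k : ℝ) / t i i * ((t i' k : ℝ) / t i' i') *
          ∑ j, (t i j : ℝ) * t i' j := by
      simp only [Finset.mul_sum]
      rw [Finset.sum_comm, ← Finset.sum_sub_distrib]
      have e1 : ∑ i ∈ S, ∑ i' ∈ S, ∑ j, (t i k : ℝ) / t i i * ((t i' k : ℝ) / t i' i') *
          ((t i j : ℝ) * t i' j) = ∑ j, ∑ i ∈ S, ∑ i' ∈ S,
          (t i k : ℝ) / t i i * ((t i' k : ℝ) / t i' i') * ((t i j : ℝ) * t i' j) := by
        rw [Finset.sum_congr rfl fun i _ => Finset.sum_comm, Finset.sum_comm]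
      rw [e1, ← Finset.sum_add_distrib]
      refine Finset.sum_congr rfl fun j _ => ?_
      have e2 : (∑ i ∈ S, (t i k : ℝ) / t i i * t i j) ^ 2 = ∑ i ∈ S, ∑ i' ∈ S,
          (t i k : ℝ) / t i i * ((t i' k : ℝ) / t i' i') * ((t i j : ℝ) * t i' j) := by
        rw [sq, Finset.sum_mul_sum]
        exact Finset.sum_congr rfl fun i _ => Finset.sum_congr rfl fun i' _ => by ring
      rw [sub_sq, e2, Finset.mul_sum]
      have e3 : ∑ i ∈ S, 2 * (t k j : ℝ) * ((t i k : ℝ) / t i i * t i j) =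
          ∑ i ∈ S, 2 * ((t i k : ℝ) / t i i * ((t i j : ℝ) * t k j)) :=
        Finset.sum_congr rfl fun i _ => by ring
      rw [e3]
      ring
    rw [h1, hmR] at h0
    have h2 : ∀ i ∈ S, (t i k : ℝ) / t i i * ∑ j, (t i j : ℝ) * t k j =
        q * ((t i k : ℝ) ^ 2 / t i i) := by
      intro i _
      rw [hmR]
      ring
    rw [Finset.sum_congr rfl h2, ← Finset.mul_sum] at h0
    have h3 : ∀ i ∈ S, ∑ i' ∈ S, (t i k : ℝ) / t i i * ((t i' k : ℝ) / t i' i') *
          ∑ j, (t i j : ℝ) * t i' j = q * ((t i k : ℝ) ^ 2 / t i i) := by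
      intro i hi
      rw [Finset.sum_eq_single i]
      · rw [hmR]
        have := (hposR i hi).ne'
        field_simp
      · intro i' hi' hne
        rw [hmR, hoff i hi i' hi' (Ne.symm hne), Int.cast_zero, mul_zero, mul_zero]
      · exact fun h => absurd hi h
    rw [Finset.sum_congr rfl h3, ← Finset.mul_sum] at h0
    have h4 : 0 ≤ (q : ℝ) * (t k k - ∑ i ∈ S, (t i k : ℝ) ^ 2 / t i i) := by linarith
    have h5 := (mul_nonneg_iff_of_pos_left hqR).1 h4
    linarith
  have h6 : ∑ k, ∑ i ∈ S, (t i k : ℝ) ^ 2 / t i i ≤ ∑ k, (t k k : ℝ) :=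
    Finset.sum_le_sum fun k _ => key k
  rw [Finset.sum_comm] at h6
  have h7 : ∀ i ∈ S, ∑ k, (t i k : ℝ) ^ 2 / t i i = q := by
    intro i hi
    rw [← Finset.sum_div]
    have h8 : ∑ k, (t i k : ℝ) ^ 2 = q * t i i := by
      rw [← hmR i i]
      exact Finset.sum_congr rfl fun k _ => by ring
    rw [h8]
    have := (hposR i hi).ne'
    field_simp
  rw [Finset.sum_congr rfl h7, Finset.sum_const, nsmul_eq_mul] at h6
  have h9 : (q : ℝ) * (S.card : ℝ) ≤ ∑ k, (t k k : ℝ) := by linarith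
  exact_mod_cast h9

/-- The part of the hypotheses concerning the contributions of `1` and `z`. -/
structure Base (n : ℕ) (h : I → ℕ) (t1 tz T : I → I → ℤ) (l1 lz : ℕ) : Prop where
  symm1 : ∀ i j, t1 i j = t1 j i
  symmz : ∀ i j, tz i j = tz j i
  mul1 : ∀ i j, ∑ k, t1 i k * t1 k j = 2 ^ n * t1 i j
  mulz : ∀ i j, ∑ k, tz i k * tz k j = 2 ^ n * tz i j
  tr1 : ∑ i, t1 i i = 2 ^ n * l1
  trz : ∑ i, tz i i = 2 ^ n * lz
  pos1 : ∀ i, 0 < t1 i i
  posz : ∀ i, 0 < tz i i
  val1 : ∀ i j, h j = 0 → ∃ r, Odd r ∧ t1 i j = 2 ^ h i * r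
  val1' : ∀ i, h i ≠ 0 → 2 ^ (h i + 1) ∣ t1 i i
  valz' : ∀ i, h i ≠ 0 → 2 ^ (h i + 1) ∣ tz i i
  add : ∀ i j, h i ≠ 0 → t1 i j + tz i j + 2 * T i j = if i = j then 2 ^ n else 0
  card0 : (Finset.univ.filter fun i => h i = 0).card = 4

variable {n : ℕ} {h : I → ℕ} {t1 tz T : I → I → ℤ} {l1 lz : ℕ}

theorem Base.four_le_t1 (H : Base n h t1 tz T l1 lz) {i : I} (hi : h i ≠ 0) : 4 ≤ t1 i i := by
  obtain ⟨c, hc⟩ := H.val1' i hi
  have h1 := H.pos1 i
  have h2 : (2 : ℤ) ^ (h i + 1) = 4 * 2 ^ (h i - 1) := by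
    rw [show h i + 1 = 2 + (h i - 1) by omega, pow_add]; norm_num
  rw [hc, h2] at h1
  rw [hc, h2]
  have h3 : (0 : ℤ) < 2 ^ (h i - 1) := by positivity
  have h4 : 0 < 2 ^ (h i - 1) * c := by nlinarith
  nlinarith

theorem Base.four_le_tz (H : Base n h t1 tz T l1 lz) {i : I} (hi : h i ≠ 0) : 4 ≤ tz i i := by
  obtain ⟨c, hc⟩ := H.valz' i hi
  have h1 := H.posz i
  have h2 : (2 : ℤ) ^ (h i + 1) = 4 * 2 ^ (h i - 1) := by
    rw [show h i + 1 = 2 + (h i - 1) by omega, pow_add]; norm_num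
  rw [hc, h2] at h1
  rw [hc, h2]
  have h3 : (0 : ℤ) < 2 ^ (h i - 1) := by positivity
  have h4 : 0 < 2 ^ (h i - 1) * c := by nlinarith
  nlinarith

/-- If `t1 i i = 4` then the height is one. -/
theorem Base.height_one (H : Base n h t1 tz T l1 lz) {i : I} (hi : h i ≠ 0)
    (h4 : t1 i i = 4) : h i = 1 := by
  obtain ⟨c, hc⟩ := H.val1' i hi
  rw [h4] at hc
  by_contra hne
  have h2 : 2 ≤ h i := by omega
  have h3 : (2 : ℤ) ^ (h i + 1) = 8 * 2 ^ (h i - 2) := by
    rw [show h i + 1 = 3 + (h i - 2) by omega, pow_add]; norm_num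
  rw [h3, mul_assoc] at hc
  generalize (2 : ℤ) ^ (h i - 2) * c = w at hc
  omega

theorem odd_sq_mod {r : ℤ} (hr : Odd r) : ∃ c, r ^ 2 = 8 * c + 1 := by
  have h := Int.sq_mod_four_eq_one_of_odd hr
  obtain ⟨k, hk⟩ := hr
  rcases Int.even_or_odd k with ⟨l, hl⟩ | ⟨l, hl⟩
  · exact ⟨2 * l ^ 2 + l, by rw [hk, hl]; ring⟩
  · exact ⟨2 * l ^ 2 + 3 * l + 1, by rw [hk, hl]; ring⟩

theorem one_le_sq_of_odd {r : ℤ} (hr : Odd r) : 1 ≤ r ^ 2 := by
  have h : r ≠ 0 := by rintro rfl; exact absurd hr (by decide)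
  have : 0 < r ^ 2 := by positivity
  linarith

/-! ### The quaternion group of order 8 -/

/-- Case `n = 3`. -/
theorem Base.main3 (H : Base 3 h t1 tz T l1 lz) (hT : ∀ i, 0 ≤ T i i)
    (hT0 : ∀ i, T i i = 0 → ∀ j, T i j = 0) :
    (∀ i, h i = 0 ∨ h i = 1) ∧ ∃ y : ℕ, Fintype.card I = 4 + y ∧ y ≤ lz := by
  have hpos : ∀ i, h i ≠ 0 → t1 i i = 4 ∧ tz i i = 4 ∧ T i i = 0 := by
    intro i hi
    have a1 := H.four_le_t1 hi
    have a2 := H.four_le_tz hi
    have a3 := H.add i i hi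
    have a4 := hT i
    rw [if_pos rfl] at a3
    norm_num at a3
    omega
  have hoff : ∀ i j, h i ≠ 0 → h j ≠ 0 → i ≠ j → t1 i j = 0 := by
    intro i j hi hj hij
    have b1 : ∑ k, t1 i k ^ 2 = 32 := by
      have b2 := H.mul1 i i
      rw [(hpos i hi).1] at b2
      norm_num at b2
      rw [← b2]
      exact Finset.sum_congr rfl fun k _ => by rw [H.symm1 k i]; ring
    -- split
    have b3 : ∑ k, t1 i k ^ 2 = ∑ k with h k = 0, t1 i k ^ 2 +
        ∑ k with ¬ h k = 0, t1 i k ^ 2 := (Finset.sum_filter_add_sum_filter_not _ _ _).symm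
    have b4 : (16 : ℤ) ≤ ∑ k with h k = 0, t1 i k ^ 2 := by
      have b5 : ∑ k with h k = 0, (4 : ℤ) ≤ ∑ k with h k = 0, t1 i k ^ 2 := by
        refine Finset.sum_le_sum fun k hk => ?_
        obtain ⟨r, hr, hk'⟩ := H.val1 i k (Finset.mem_filter.1 hk).2
        have b6 := one_le_sq_of_odd hr
        rw [hk', H.height_one hi (hpos i hi).1]
        nlinarith
      rw [Finset.sum_const, H.card0] at b5
      norm_num at b5
      exact b5
    have him : i ∈ Finset.univ.filter fun k => ¬ h k = 0 := by simp [hi]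
    have hjm : j ∈ (Finset.univ.filter fun k => ¬ h k = 0).erase i := by simp [hj, Ne.symm hij]
    rw [← Finset.add_sum_erase _ _ him, ← Finset.add_sum_erase _ _ hjm, (hpos i hi).1] at b3
    have b7 : 0 ≤ ∑ x ∈ ((Finset.univ.filter fun k => ¬ h k = 0).erase i).erase j, t1 i x ^ 2 :=
      Finset.sum_nonneg fun _ _ => sq_nonneg _
    have b8 := sq_nonneg (t1 i j)
    have b9 : t1 i j ^ 2 = 0 := by nlinarith
    exact pow_eq_zero_iff two_ne_zero |>.1 b9
  have hoffz : ∀ i j, h i ≠ 0 → h j ≠ 0 → i ≠ j → tz i j = 0 := by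
    intro i j hi hj hij
    have a3 := H.add i j hi
    rw [hoff i j hi hj hij, hT0 i (hpos i hi).2.2 j, if_neg hij] at a3
    linarith
  refine ⟨fun i => ?_, (Finset.univ.filter fun i => ¬ h i = 0).card, ?_, ?_⟩
  · by_cases hi : h i = 0
    · exact Or.inl hi
    · exact Or.inr (H.height_one hi (hpos i hi).1)
  · rw [← H.card0, ← Finset.card_univ]
    exact (Finset.card_filter_add_card_filter_not _).symm
  · have c1 := bessel tz (2 ^ 3) (by norm_num) H.symmz H.mulz
      (Finset.univ.filter fun i => ¬ h i = 0)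
      (fun i hi j hj hij => hoffz i j (Finset.mem_filter.1 hi).2 (Finset.mem_filter.1 hj).2 hij)
      (fun i _ => H.posz i)
    rw [H.trz] at c1
    have c2 : ((Finset.univ.filter fun i => ¬ h i = 0).card : ℤ) ≤ lz := by linarith
    exact_mod_cast c2

/-! ### Order at least 16 -/

/-- The hypotheses for `n ≥ 4`. -/
structure Tame (n : ℕ) (h : I → ℕ) (t1 tz T : I → I → ℤ) (l1 lz : ℕ) : Prop
    extends Base n h t1 tz T l1 lz where
  hn : 4 ≤ n
  T_odd : ∀ i, h i = 0 → 2 ^ (n - 2) - 1 ≤ T i i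
  T_even : ∀ i, h i ≠ 0 → T i i = 0 ∨ 2 ^ (n - 1) - 4 ≤ T i i
  T_zero : ∀ i, T i i = 0 → ∀ j, T i j = 0
  T_tr : ∑ i, T i i = (2 ^ (n - 2) - 1) * 2 ^ (n - 1)
  star : ∀ i, h i ≠ 0 → T i i = 0 → ∀ j, (2 : ℤ) ^ (n - 2) ∣ t1 i j

/-- Conclusion for `n ≥ 4`. -/
theorem Tame.main (H : Tame n h t1 tz T l1 lz) {a : ℕ}
    (hcount : Fintype.card I = l1 + lz + (2 ^ (n - 2) - 1) + a) (hlz : 2 ≤ lz + a) :
    (∀ i, h i = 0 ∨ h i = 1 ∨ h i = n - 2) ∧
    (Finset.univ.filter fun i => h i = 1).card = 2 ^ (n - 2) - 1 ∧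
    ∃ y : ℕ, Fintype.card I = 2 ^ (n - 2) + 3 + y ∧ y + 1 ≤ lz := by
  have hn := H.hn
  set m : ℤ := 2 ^ (n - 2) with hm
  have hm4 : 4 ≤ m := by
    rw [hm, show n - 2 = 2 + (n - 4) by omega, pow_add]
    have : (0 : ℤ) < 2 ^ (n - 4) := by positivity
    nlinarith
  have hmev : ∃ c, m = 4 * c := ⟨2 ^ (n - 4), by
    rw [hm, show n - 2 = 2 + (n - 4) by omega, pow_add]; norm_num⟩
  have hq : (2 : ℤ) ^ n = 4 * m := by
    rw [hm, show (4 : ℤ) = 2 ^ 2 by norm_num, ← pow_add]; congr 1; omega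
  have hq' : (2 : ℤ) ^ (n - 1) = 2 * m := by
    rw [hm, ← pow_succ']; congr 1; omega
  have B := H.toBase
  have hTe := H.T_even
  rw [hq'] at hTe
  -- the dichotomy
  have hdich : ∀ i, h i ≠ 0 → T i i = 0 ∨ (T i i = 2 * m - 4 ∧ t1 i i = 4 ∧ tz i i = 4) := by
    intro i hi
    have a1 := B.four_le_t1 hi
    have a2 := B.four_le_tz hi
    have a3 := B.add i i hi
    rw [if_pos rfl, hq] at a3
    rcases hTe i hi with h0 | h0
    · exact Or.inl h0
    · right; omega
  -- the set `Y`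
  have hY : ∀ i, h i ≠ 0 → T i i = 0 → h i = n - 2 ∧
      (∀ j, h j ≠ 0 → i ≠ j → t1 i j = 0 ∧ tz i j = 0) ∧
      (∀ j, h j = 0 → t1 i j ^ 2 = m ^ 2) := by
    intro i hi hTi
    have a3 := B.add i i hi
    rw [if_pos rfl, hq, hTi] at a3
    have a4 := B.pos1 i
    have a5 := B.posz i
    choose r hr using H.star i hi hTi
    have b2 : ∑ k, t1 i k ^ 2 = 4 * m * t1 i i := by
      have b2 := B.mul1 i i
      rw [hq] at b2
      rw [← b2]
      exact Finset.sum_congr rfl fun k _ => by rw [B.symm1 k i]; ring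
    have b3 : ∑ k, r k ^ 2 = 4 * r i := by
      have b4 : ∑ k, t1 i k ^ 2 = m ^ 2 * ∑ k, r k ^ 2 := by
        rw [Finset.mul_sum]
        exact Finset.sum_congr rfl fun k _ => by rw [hr k]; ring
      rw [b4, hr i] at b2
      have b5 : m ^ 2 * (∑ k, r k ^ 2) = m ^ 2 * (4 * r i) := by rw [b2]; ring
      exact mul_left_cancel₀ (by positivity) b5
    have hrne : ∀ k, h k = 0 → 1 ≤ r k ^ 2 := by
      intro k hk
      obtain ⟨s, hs, hs'⟩ := B.val1 i k hk
      have c1 : r k ≠ 0 := by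
        intro h0
        rw [hr k, h0, mul_zero] at hs'
        have c2 : (2 : ℤ) ^ h i ≠ 0 := by positivity
        have c3 : s = 0 := by
          rcases mul_eq_zero.1 hs'.symm with h | h
          · exact absurd h c2
          · exact h
        rw [c3] at hs
        exact absurd hs (by decide)
      have : 0 < r k ^ 2 := by positivity
      linarith
    have b6 : ∑ k, r k ^ 2 = ∑ k with h k = 0, r k ^ 2 + ∑ k with ¬ h k = 0, r k ^ 2 :=
      (Finset.sum_filter_add_sum_filter_not _ _ _).symm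
    have him : i ∈ Finset.univ.filter fun k => ¬ h k = 0 := by simp [hi]
    have b7 : (4 : ℤ) ≤ ∑ k with h k = 0, r k ^ 2 := by
      have b8 : ∑ k with h k = 0, (1 : ℤ) ≤ ∑ k with h k = 0, r k ^ 2 :=
        Finset.sum_le_sum fun k hk => hrne k (Finset.mem_filter.1 hk).2
      rw [Finset.sum_const, B.card0] at b8
      norm_num at b8
      exact b8
    rw [← Finset.add_sum_erase _ _ him] at b6
    have b9 : 0 ≤ ∑ x ∈ (Finset.univ.filter fun k => ¬ h k = 0).erase i, r x ^ 2 :=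
      Finset.sum_nonneg fun _ _ => sq_nonneg _
    have b10 := sq_nonneg (r i - 2)
    have e1 : (r i - 2) ^ 2 = 0 := by nlinarith
    have e2 : ∑ x ∈ (Finset.univ.filter fun k => ¬ h k = 0).erase i, r x ^ 2 = 0 := by nlinarith
    have e3 : ∑ k with h k = 0, r k ^ 2 = 4 := by nlinarith
    have e4 : r i = 2 := by
      have := (pow_eq_zero_iff two_ne_zero).1 e1
      linarith
    -- the values on height zero
    have e5 : ∀ k, h k = 0 → r k ^ 2 = 1 := by
      intro k hk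
      have hkm : k ∈ Finset.univ.filter fun k => h k = 0 := by simp [hk]
      by_contra hne
      have f1 : 1 < r k ^ 2 := lt_of_le_of_ne (hrne k hk) (Ne.symm hne)
      have f2 : ∑ k with h k = 0, (1 : ℤ) < ∑ k with h k = 0, r k ^ 2 :=
        Finset.sum_lt_sum (fun k hk => hrne k (Finset.mem_filter.1 hk).2) ⟨k, hkm, f1⟩
      rw [Finset.sum_const, B.card0, e3] at f2
      norm_num at f2
    refine ⟨?_, fun j hj hij => ?_, fun j hj => ?_⟩
    · -- the height
      obtain ⟨k, hk⟩ : ∃ k, h k = 0 := by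
        have : (Finset.univ.filter fun k => h k = 0).Nonempty := by
          rw [← Finset.card_pos, B.card0]; norm_num
        obtain ⟨k, hk⟩ := this
        exact ⟨k, (Finset.mem_filter.1 hk).2⟩
      obtain ⟨s, hs, hs'⟩ := B.val1 i k hk
      have f1 := e5 k hk
      have f2 : r k = 1 ∨ r k = -1 := by
        have g1 : (r k - 1) * (r k + 1) = 0 := by linarith
        rcases mul_eq_zero.1 g1 with g2 | g2
        · left; linarith
        · right; linarith
      have f3 : t1 i k = m ∨ t1 i k = -m := by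
        rw [hr k]
        rcases f2 with h | h
        · left; rw [h, mul_one]
        · right; rw [h, mul_neg, mul_one]
      have f4 : (2 : ℤ) ^ h i * s = 2 ^ (n - 2) ∨ (2 : ℤ) ^ h i * (-s) = 2 ^ (n - 2) := by
        rcases f3 with h | h
        · left; rw [← hs', h]
        · right; rw [mul_neg, ← hs', h, neg_neg]
      have f5 : ∀ s' : ℤ, Odd s' → (2 : ℤ) ^ h i * s' = 2 ^ (n - 2) → h i = n - 2 := by
        intro s' hs1 hs2
        by_contra hne
        rcases lt_or_gt_of_ne hne with hlt | hgt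
        · have g1 : (2 : ℤ) ^ (n - 2) = 2 ^ h i * 2 ^ (n - 2 - h i) := by
            rw [← pow_add]; congr 1; omega
          rw [g1] at hs2
          have g2 : s' = 2 ^ (n - 2 - h i) := mul_left_cancel₀ (by positivity) hs2
          have g3 : Even s' := by
            rw [g2]
            exact (even_two).pow_of_ne_zero (by omega)
          exact (Int.not_even_iff_odd.2 hs1) g3
        · have g1 : (2 : ℤ) ^ h i = 2 ^ (n - 2) * 2 ^ (h i - (n - 2)) := by
            rw [← pow_add]; congr 1; omega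
          rw [g1, mul_assoc] at hs2
          have g2 : (2 : ℤ) ^ (h i - (n - 2)) * s' = 1 := by
            have g3 : (2 : ℤ) ^ (n - 2) * (2 ^ (h i - (n - 2)) * s') = 2 ^ (n - 2) * 1 := by
              rw [hs2, mul_one]
            exact mul_left_cancel₀ (by positivity) g3
          have g4 : Even ((2 : ℤ) ^ (h i - (n - 2)) * s') :=
            ((even_two).pow_of_ne_zero (by omega)).mul_right _
          rw [g2] at g4
          exact absurd g4 (by decide)
      rcases f4 with h | h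
      · exact f5 s hs h
      · exact f5 (-s) hs.neg h
    · have hjm : j ∈ (Finset.univ.filter fun k => ¬ h k = 0).erase i := by simp [hj, Ne.symm hij]
      have f1 := (Finset.sum_eq_zero_iff_of_nonneg fun x _ => sq_nonneg (r x)).1 e2 j hjm
      have f2 : r j = 0 := (pow_eq_zero_iff two_ne_zero).1 f1
      have f3 : t1 i j = 0 := by rw [hr j, f2, mul_zero]
      refine ⟨f3, ?_⟩
      have f4 := B.add i j hi
      rw [f3, H.T_zero i hTi j, if_neg hij] at f4
      linarith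
    · rw [hr j]
      have := e5 j hj
      rw [mul_pow, this, mul_one]
  -- the three parts
  set Z : Finset I := Finset.univ.filter fun i => h i = 0 with hZ
  set S : Finset I := Finset.univ.filter fun i => h i ≠ 0 ∧ T i i ≠ 0 with hS
  set Y : Finset I := Finset.univ.filter fun i => h i ≠ 0 ∧ T i i = 0 with hYdef
  have hsum : ∀ f : I → ℤ, ∑ i, f i = ∑ i ∈ Z, f i + ∑ i ∈ S, f i + ∑ i ∈ Y, f i := by
    intro f
    rw [← Finset.sum_filter_add_sum_filter_not Finset.univ (fun i => h i = 0) f, add_assoc]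
    congr 1
    rw [← Finset.sum_filter_add_sum_filter_not (Finset.univ.filter fun i => ¬ h i = 0)
      (fun i => T i i ≠ 0) f, Finset.filter_filter, Finset.filter_filter]
    congr 1
    refine Finset.sum_congr ?_ fun _ _ => rfl
    ext i
    simp only [hYdef, Finset.mem_filter, Finset.mem_univ, true_and, ne_eq, not_not]
  have hcard : (Fintype.card I : ℤ) = 4 + S.card + Y.card := by
    have h1 := hsum fun _ => 1
    simp only [Finset.sum_const, nsmul_eq_mul, mul_one, Finset.card_univ] at h1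
    rw [h1, B.card0]
    norm_num
  have hSi : ∀ i ∈ S, T i i = 2 * m - 4 ∧ t1 i i = 4 ∧ tz i i = 4 ∧ h i = 1 := by
    intro i hi
    rw [hS, Finset.mem_filter] at hi
    rcases hdich i hi.2.1 with h0 | h0
    · exact absurd h0 hi.2.2
    · exact ⟨h0.1, h0.2.1, h0.2.2, B.height_one hi.2.1 h0.2.1⟩
  have hYi : ∀ i ∈ Y, h i ≠ 0 ∧ T i i = 0 := by
    intro i hi
    rw [hYdef, Finset.mem_filter] at hi
    exact hi.2
  -- upper bound for `S`
  have hSle : (S.card : ℤ) ≤ m - 1 := by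
    have h1 := H.T_tr
    rw [hq', hsum] at h1
    have h2 : (4 : ℤ) * (m - 1) ≤ ∑ i ∈ Z, T i i := by
      have h3 : ∑ i ∈ Z, (m - 1) ≤ ∑ i ∈ Z, T i i :=
        Finset.sum_le_sum fun i hi => H.T_odd i (Finset.mem_filter.1 hi).2
      rw [Finset.sum_const, B.card0] at h3
      simpa using h3
    have h4 : ∑ i ∈ S, T i i = S.card * (2 * m - 4) := by
      rw [Finset.sum_congr rfl fun i hi => (hSi i hi).1, Finset.sum_const, nsmul_eq_mul]
    have h5 : ∑ i ∈ Y, T i i = 0 := Finset.sum_eq_zero fun i hi => (hYi i hi).2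
    rw [h4, h5] at h1
    have h6 : (S.card : ℤ) * (2 * m - 4) ≤ (m - 1) * (2 * m - 4) := by nlinarith
    exact le_of_mul_le_mul_right h6 (by linarith)
  -- parity
  have hpar : Odd (S.card : ℤ) := by
    obtain ⟨x, hx⟩ : ∃ k, h k = 0 := by
      have : (Finset.univ.filter fun k => h k = 0).Nonempty := by
        rw [← Finset.card_pos, B.card0]; norm_num
      obtain ⟨k, hk⟩ := this
      exact ⟨k, (Finset.mem_filter.1 hk).2⟩
    have b2 : ∑ k, t1 x k ^ 2 = 4 * m * t1 x x := by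
      have b2 := B.mul1 x x
      rw [hq] at b2
      rw [← b2]
      exact Finset.sum_congr rfl fun k _ => by rw [B.symm1 k x]; ring
    rw [hsum] at b2
    have c1 : ∀ i ∈ Z, ∃ c, t1 x i ^ 2 = 8 * c + 1 := by
      intro i hi
      obtain ⟨r, hr, hr'⟩ := B.val1 x i (Finset.mem_filter.1 hi).2
      rw [hx, pow_zero, one_mul] at hr'
      rw [hr']
      exact odd_sq_mod hr
    have c2 : ∀ i ∈ S, ∃ c, t1 x i ^ 2 = 8 * c + 4 := by
      intro i hi
      obtain ⟨r, hr, hr'⟩ := B.val1 i x hx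
      rw [(hSi i hi).2.2.2, pow_one, B.symm1] at hr'
      obtain ⟨c, hc⟩ := odd_sq_mod hr
      exact ⟨4 * c, by rw [hr']; nlinarith⟩
    have c3 : ∀ i ∈ Y, ∃ c, t1 x i ^ 2 = 8 * c := by
      intro i hi
      have d1 := (hY i (hYi i hi).1 (hYi i hi).2).2.2 x hx
      obtain ⟨c, hc⟩ := hmev
      exact ⟨2 * c ^ 2, by rw [B.symm1, d1, hc]; ring⟩
    have key : ∀ (U : Finset I) (e : ℤ), (∀ i ∈ U, ∃ c, t1 x i ^ 2 = 8 * c + e) →
        ∃ c, ∑ i ∈ U, t1 x i ^ 2 = 8 * c + U.card * e := by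
      intro U e hU
      choose! c hc using hU
      refine ⟨∑ i ∈ U, c i, ?_⟩
      rw [Finset.sum_congr rfl hc, Finset.sum_add_distrib, Finset.sum_const, nsmul_eq_mul,
        Finset.mul_sum]
    obtain ⟨c4, hc4⟩ := key Z 1 c1
    obtain ⟨c5, hc5⟩ := key S 4 c2
    obtain ⟨c6, hc6⟩ := key Y 0 (fun i hi => by
      obtain ⟨c, hc⟩ := c3 i hi
      exact ⟨c, by rw [hc]; ring⟩)
    rw [hc4, hc5, hc6, B.card0] at b2
    obtain ⟨c, hc⟩ := hmev
    rw [hc] at b2
    rw [← Int.not_even_iff_odd]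
    rintro ⟨l, hl⟩
    rw [hl] at b2
    push_cast at b2
    have h16 : 4 * (4 * c) * t1 x x = 8 * (2 * c * t1 x x) := by ring
    omega
  -- rank
  obtain ⟨θ, hθ⟩ : S.Nonempty := by
    rw [← Finset.card_pos]
    obtain ⟨k, hk⟩ := hpar
    omega
  have hθY : θ ∉ Y := by
    intro h0
    have := (hYi θ h0).2
    rw [hS, Finset.mem_filter] at hθ
    exact hθ.2.2 this
  have hθ1 : h θ ≠ 0 := by rw [hS, Finset.mem_filter] at hθ; exact hθ.2.1
  have hoff1 : ∀ i ∈ insert θ Y, ∀ j ∈ insert θ Y, i ≠ j → t1 i j = 0 ∧ tz i j = 0 := by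
    intro i hi j hj hij
    rw [Finset.mem_insert] at hi hj
    rcases hi with rfl | hi
    · rcases hj with rfl | hj
      · exact absurd rfl hij
      · have := (hY j (hYi j hj).1 (hYi j hj).2).2.1 i hθ1 (Ne.symm hij)
        rwa [B.symm1, B.symmz] at this
    · rcases hj with rfl | hj
      · exact (hY i (hYi i hi).1 (hYi i hi).2).2.1 j hθ1 hij
      · exact (hY i (hYi i hi).1 (hYi i hi).2).2.1 j (hYi j hj).1 hij
  have hr1 : (Y.card : ℤ) + 1 ≤ l1 := by
    have c1 := bessel t1 (2 ^ n) (by positivity) B.symm1 B.mul1 (insert θ Y)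
      (fun i hi j hj hij => (hoff1 i hi j hj hij).1) (fun i _ => B.pos1 i)
    rw [B.tr1, Finset.card_insert_of_notMem hθY] at c1
    have c2 := le_of_mul_le_mul_left c1 (by positivity)
    exact_mod_cast c2
  have hrz : (Y.card : ℤ) + 1 ≤ lz := by
    have c1 := bessel tz (2 ^ n) (by positivity) B.symmz B.mulz (insert θ Y)
      (fun i hi j hj hij => (hoff1 i hi j hj hij).2) (fun i _ => B.posz i)
    rw [B.trz, Finset.card_insert_of_notMem hθY] at c1
    have c2 := le_of_mul_le_mul_left c1 (by positivity)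
    exact_mod_cast c2
  -- the count
  have hm1 : ((2 ^ (n - 2) - 1 : ℕ) : ℤ) = m - 1 := by
    rw [Nat.cast_sub Nat.one_le_two_pow]
    push_cast
    rfl
  have hcount' : (Fintype.card I : ℤ) = l1 + lz + (m - 1) + a := by
    rw [hcount, ← hm1]
    push_cast
    ring
  have hlz' : (2 : ℤ) ≤ lz + a := by exact_mod_cast hlz
  have hN : (S.card : ℤ) = m - 1 := by
    obtain ⟨k, hk⟩ := hpar
    obtain ⟨c, hc⟩ := hmev
    omega
  refine ⟨fun i => ?_, ?_, Y.card, ?_, by exact_mod_cast hrz⟩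
  · by_cases hi : h i = 0
    · exact Or.inl hi
    · by_cases hTi : T i i = 0
      · exact Or.inr (Or.inr (hY i hi hTi).1)
      · exact Or.inr (Or.inl (hSi i (by rw [hS, Finset.mem_filter]; exact ⟨Finset.mem_univ _, hi, hTi⟩)).2.2.2)
  · have h1 : (Finset.univ.filter fun i => h i = 1) = S := by
      ext i
      rw [Finset.mem_filter]
      constructor
      · rintro ⟨-, hi⟩
        rw [hS, Finset.mem_filter]
        refine ⟨Finset.mem_univ _, by omega, fun hTi => ?_⟩
        have := (hY i (by omega) hTi).1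
        omega
      · intro hi
        exact ⟨Finset.mem_univ _, (hSi i hi).2.2.2⟩
    rw [h1]
    have h2 : (S.card : ℤ) = ((2 ^ (n - 2) - 1 : ℕ) : ℤ) := by rw [hN, hm1]
    exact_mod_cast h2
  · have h2 : (Fintype.card I : ℤ) = ((2 ^ (n - 2) + 3 + Y.card : ℕ) : ℤ) := by
      rw [hcard, hN]
      push_cast
      rw [← hm]
      ring
    exact_mod_cast h2

end Cfsg.Agent.H619.TameNum
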