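import Mathlib
import Cfsg.Agent.H619.TamePar
import Cfsg.Agent.H619.TameNum
import Cfsg.Agent.H658.MajorVal

/-!
# The integer matrices of `1` and of a central involution

* `exists_t1`: `2 ^ d * rg` as an integer matrix, with the `2`-adic valuations;
* `exists_tz`: `2 ^ d * Cn z` for a major subsection of an involution `z`.
-/

set_option autoImplicit false
set_option linter.unusedSectionVars false

open Cfsg
open scoped ComplexConjugate

namespace Cfsg.Agent.H619.Tame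

open Cfsg.Agent.Blocks.Blau Cfsg.Agent.Blocks.Local Cfsg.Agent.Characters
open Cfsg.Agent.H613.RegGram Cfsg.Agent.H613.Contrib Cfsg.Agent.H613.ContribVal
open Cfsg.Agent.H613.SubSys Cfsg.Agent.H613.SubFus Cfsg.Agent.H613.TwoCol
open Cfsg.Agent.H639 Cfsg.Agent.H649 Cfsg.Agent.H617.TwoAvg

theorem pos_of_mul {I : Type*} [Fintype I] {t : I → I → ℤ} {q : ℤ} (hq : 0 < q)
    (hs : ∀ i j, t i j = t j i) (hm : ∀ i j, ∑ k, t i k * t k j = q * t i j) {i k : I}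
    (h : t i k ≠ 0) : 0 < t i i := by
  have h1 := hm i i
  have h2 : 0 < ∑ k, t i k * t k i := by
    refine Finset.sum_pos' (fun k _ => ?_) ⟨k, Finset.mem_univ _, ?_⟩
    · rw [hs k i]; exact mul_self_nonneg _
    · rw [hs k i]; exact mul_self_pos.2 h
  rw [h1] at h2
  exact pos_of_mul_pos_right h2 hq.le

theorem exists_int_sum {ι : Type*} (s : Finset ι) (f : ι → ℂ)
    (h : ∀ i ∈ s, ∃ n : ℤ, f i = n) : ∃ n : ℤ, ∑ i ∈ s, f i = n := by
  classical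
  choose! n hn using h
  refine ⟨∑ i ∈ s, n i, ?_⟩
  push_cast
  exact Finset.sum_congr rfl hn

section one

variable {G : Type*} [Group G] [Fintype G] {M : Ideal AlgInt} {B : Set (IrrCharacter G)}
  [Fintype B]

/-- A matrix with integral multiple, real, idempotent. -/
theorem matrix_facts {c : B → B → ℂ} {t : B → B → ℤ} {q : ℤ} (hq : 0 < q) {l : ℕ}
    (ht : ∀ χ ψ, (q : ℂ) * c χ ψ = t χ ψ) (hc : ∀ χ ψ, conj (c χ ψ) = c ψ χ)
    (hm : ∀ χ ψ, ∑ ζ, c χ ζ * c ζ ψ = c χ ψ) (hl : ∑ χ, c χ χ = l) :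
    (∀ χ ψ, t χ ψ = t ψ χ) ∧ (∀ χ ψ, ∑ ζ, t χ ζ * t ζ ψ = q * t χ ψ) ∧
      ∑ χ, t χ χ = q * l := by
  have hq0 : (q : ℂ) ≠ 0 := by exact_mod_cast hq.ne'
  refine ⟨fun χ ψ => ?_, fun χ ψ => ?_, ?_⟩
  · have h1 : ((t χ ψ : ℤ) : ℂ) = ((t ψ χ : ℤ) : ℂ) := by
      rw [← ht ψ χ, ← hc χ ψ]
      have h2 := congrArg (starRingEnd ℂ) (ht χ ψ)
      rw [map_mul, map_intCast, map_intCast] at h2
      exact h2.symm
    exact_mod_cast h1
  · have h1 : ((∑ ζ, t χ ζ * t ζ ψ : ℤ) : ℂ) = ((q * t χ ψ : ℤ) : ℂ) := by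
      push_cast
      rw [← ht χ ψ, ← hm χ ψ, Finset.mul_sum, Finset.mul_sum]
      refine Finset.sum_congr rfl fun ζ _ => ?_
      rw [← ht, ← ht]
      ring
    exact_mod_cast h1
  · have h1 : ((∑ χ, t χ χ : ℤ) : ℂ) = ((q * l : ℤ) : ℂ) := by
      push_cast
      rw [← hl, Finset.mul_sum]
      exact Finset.sum_congr rfl fun ζ _ => (ht _ _).symm
    exact_mod_cast h1

theorem exists_t1 (hM : IsPModular 2 M) (hB : IsPBlock M B) :
    ∃ t : B → B → ℤ, (∀ χ ψ : B, (2 : ℂ) ^ blockDefect 2 B *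
        rg 2 ((χ : IrrCharacter G) : G → ℂ) ((ψ : IrrCharacter G) : G → ℂ) = t χ ψ) ∧
      (∀ χ ψ, t χ ψ = t ψ χ) ∧
      (∀ χ ψ, ∑ ζ, t χ ζ * t ζ ψ = 2 ^ blockDefect 2 B * t χ ψ) ∧
      ∑ χ, t χ χ = 2 ^ blockDefect 2 B * (blockRank 2 B : ℤ) ∧ (∀ χ, 0 < t χ χ) ∧
      (∀ χ ψ : B, blockHeight 2 B ((ψ : IrrCharacter G) : G → ℂ) = 0 → ∃ r, Odd r ∧
        t χ ψ = 2 ^ blockHeight 2 B ((χ : IrrCharacter G) : G → ℂ) * r) ∧
      (∀ χ : B, blockHeight 2 B ((χ : IrrCharacter G) : G → ℂ) ≠ 0 →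
        2 ^ (blockHeight 2 B ((χ : IrrCharacter G) : G → ℂ) + 1) ∣ t χ χ) := by
  classical
  have : Fact (Nat.Prime 2) := ⟨Nat.prime_two⟩
  have := isPrime_of_isPModular hM
  have hex : ∀ χ ψ : B, ∃ k : ℤ, (2 : ℂ) ^ blockDefect 2 B *
        rg 2 ((χ : IrrCharacter G) : G → ℂ) ((ψ : IrrCharacter G) : G → ℂ) = k := by
    intro χ ψ
    have h := exists_int_rg hM χ.2 (ψ : IrrCharacter G)
    push_cast at h
    exact h
  choose t ht using hex
  have hq : (0 : ℤ) < 2 ^ blockDefect 2 B := by positivity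
  obtain ⟨hs, hm, htr⟩ := matrix_facts (c := fun χ ψ : B =>
      rg 2 ((χ : IrrCharacter G) : G → ℂ) ((ψ : IrrCharacter G) : G → ℂ)) (t := t)
      (l := blockRank 2 B) hq
    (fun χ ψ => by push_cast; exact ht χ ψ) (fun χ ψ => conj_rg 2 _ _)
    (fun χ ψ => sum_rg_mul_rg hM hB χ.2) (sum_rg_self hM hB)
  have hval : ∀ χ ψ : B, blockHeight 2 B ((ψ : IrrCharacter G) : G → ℂ) = 0 → ∃ r, Odd r ∧
        t χ ψ = 2 ^ blockHeight 2 B ((χ : IrrCharacter G) : G → ℂ) * r := by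
    intro χ ψ h0
    obtain ⟨n, hn, h1, h2⟩ := H648.HeightForm.exists_int_height hM hB ψ.2 h0 χ.2
    have h3 : n = t χ ψ := by
      have h4 : (n : ℂ) = ((t χ ψ : ℤ) : ℂ) := by
        rw [hs χ ψ, ← ht, ← hn, pRegularPart_eq_regPart, rg_eq_classInner]
        push_cast
        rfl
      exact_mod_cast h4
    rw [h3] at h1 h2
    obtain ⟨r, hr⟩ := h1
    push_cast at hr
    refine ⟨r, ?_, hr⟩
    rw [← Int.not_even_iff_odd]
    rintro ⟨s, hs'⟩
    apply h2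
    refine ⟨s, ?_⟩
    rw [hr, hs', pow_succ]
    push_cast
    ring
  obtain ⟨χ₀, hχ₀, h0⟩ := H648.HeightForm.exists_height_zero (p := 2) hB
  refine ⟨t, ht, hs, hm, htr, fun χ => ?_, hval, fun χ hχ => ?_⟩
  · refine pos_of_mul hq hs hm (k := ⟨χ₀, hχ₀⟩) ?_
    obtain ⟨r, hr, h1⟩ := hval χ ⟨χ₀, hχ₀⟩ h0
    rw [h1]
    refine mul_ne_zero (pow_ne_zero _ two_ne_zero) ?_
    rintro rfl
    exact (Int.not_even_iff_odd.2 hr) Even.zero
  · -- the congruence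
    obtain ⟨u, hu, -, -, he⟩ := H648.HeightForm.scaled_eq (p := 2) hM χ.2
      (rg 2 ((χ : IrrCharacter G) : G → ℂ) ((χ : IrrCharacter G) : G → ℂ))
    have hsame : SameBlock M ((χ : IrrCharacter G) : G → ℂ) (χ₀ : G → ℂ) :=
      Cfsg.Agent.H658.sameBlock_of_mem hM hB χ.2 hχ₀
    have hcon := H648.HeightForm.form_congr (p := 2) hsame (χ : IrrCharacter G)
    rw [pRegularPart_eq_regPart, pRegularPart_eq_regPart, ← rg_eq_classInner,
      ← rg_eq_classInner] at hcon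
    obtain ⟨v, hv, hv', hv0, hve⟩ := H648.HeightForm.scaled_eq (p := 2) hM hχ₀
      (rg 2 (χ₀ : G → ℂ) ((χ : IrrCharacter G) : G → ℂ))
    rw [h0, pow_zero, Nat.cast_one, one_mul] at hve
    have h1 : (Nat.card G : ℂ) / (χ₀ : G → ℂ) 1 *
        rg 2 (χ₀ : G → ℂ) ((χ : IrrCharacter G) : G → ℂ) =
        v⁻¹ * (t χ ⟨χ₀, hχ₀⟩ : ℂ) := by
      rw [hs χ ⟨χ₀, hχ₀⟩, ← ht]
      push_cast at hve
      rw [hve, inv_mul_cancel_left₀ hv0]
    have h2 : MemLocalIdeal M ((t χ ⟨χ₀, hχ₀⟩ : ℤ) : ℂ) := by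
      rw [memLocalIdeal_intCast_iff hM]
      obtain ⟨r, hr, h3⟩ := hval χ ⟨χ₀, hχ₀⟩ h0
      rw [h3]
      push_cast
      exact Dvd.dvd.mul_right (dvd_pow_self 2 hχ) r
    rw [h1] at hcon
    have h3 := (memLocalIdeal_iff_of_sub hcon).2 (memLocalIdeal_mul_left hv' h2)
    have h4 := memLocalIdeal_mul_left hu h3
    have h5 : ((2 ^ blockHeight 2 B ((χ : IrrCharacter G) : G → ℂ) : ℕ) : ℂ) *
        (u * ((Nat.card G : ℂ) / ((χ : IrrCharacter G) : G → ℂ) 1 *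
          rg 2 ((χ : IrrCharacter G) : G → ℂ) ((χ : IrrCharacter G) : G → ℂ))) = t χ χ := by
      rw [← ht χ χ]
      push_cast at he ⊢
      exact he.symm
    obtain ⟨k, hk⟩ := H646.RegInner.exists_int_of_memLocalRing hM h5
      (memLocalRing_of_memLocalIdeal h4)
    rw [hk] at h4 h5
    rw [memLocalIdeal_intCast_iff hM] at h4
    obtain ⟨s, rfl⟩ := h4
    refine ⟨s, ?_⟩
    have h6 : ((t χ χ : ℤ) : ℂ) =
        ((2 ^ (blockHeight 2 B ((χ : IrrCharacter G) : G → ℂ) + 1) * s : ℤ) : ℂ) := by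
      rw [← h5, pow_succ]
      push_cast
      ring
    exact_mod_cast h6

/-- The contributions of a subsection of an involution are integral. -/
theorem exists_int_Cn (hM : IsPModular 2 M) {z : G} (hz : z * z = 1) {b : BrauerPairIdx G}
    (hb : IsSubsec 2 M B z b) (χ ψ : IrrCharacter G) :
    ∃ k : ℤ, (2 : ℂ) ^ blockDefect 2 b.2 * Cn 2 z b (χ : G → ℂ) (ψ : G → ℂ) = k := by
  classical
  have : Fact (Nat.Prime 2) := ⟨Nat.prime_two⟩
  have := Fintype.ofFinite (Subgroup.centralizer (b.1 : Set G))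
  have := Core.finite_irr (G := Subgroup.centralizer (b.1 : Set G))
  have := Fintype.ofFinite (IrrCharacter (Subgroup.centralizer (b.1 : Set G)))
  have := Fintype.ofFinite b.2
  rw [Cn_eq]
  obtain ⟨n, e, hE⟩ := exists_exp (hb.centralizer_eq) (q := 2) (by rw [pow_two, hz])
  have h1 := contr_eq_sum hM hE hb.ind.1 χ ψ (k := 1) (by rw [pow_one]; exact hb.centralizer_eq)
  rw [pow_one] at h1
  rw [h1, Finset.mul_sum]
  refine exists_int_sum _ _ fun ξ _ => ?_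
  rw [Finset.mul_sum]
  refine exists_int_sum _ _ fun η _ => ?_
  obtain ⟨k, hk⟩ := exists_int_rg hM ξ.2
    (η : IrrCharacter (Subgroup.centralizer (b.1 : Set G)))
  push_cast at hk
  have he : ∀ ξ : IrrCharacter (Subgroup.centralizer (b.1 : Set G)), ∃ s : ℤ, e ξ = s := by
    intro ξ
    have h2 := hE.root ξ
    rcases sq_eq_one_iff.1 h2 with h3 | h3
    · exact ⟨1, by rw [h3, Int.cast_one]⟩
    · exact ⟨-1, by rw [h3]; push_cast; rfl⟩
  obtain ⟨s, hs⟩ := he ξ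
  obtain ⟨s', hs'⟩ := he η
  refine ⟨n χ ξ * n ψ η * (s * s') * k, ?_⟩
  rw [hs, hs', map_intCast, pow_one]
  push_cast
  rw [← hk]
  ring

theorem exists_tz (hM : IsPModular 2 M) {z : G} (hz : z * z = 1) {b : BrauerPairIdx G}
    (hb : IsSubsec 2 M B z b) (hd : blockDefect 2 b.2 = blockDefect 2 B) :
    ∃ t : B → B → ℤ, (∀ χ ψ : B, (2 : ℂ) ^ blockDefect 2 B *
        Cn 2 z b ((χ : IrrCharacter G) : G → ℂ) ((ψ : IrrCharacter G) : G → ℂ) = t χ ψ) ∧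
      (∀ χ ψ, t χ ψ = t ψ χ) ∧
      (∀ χ ψ, ∑ ζ, t χ ζ * t ζ ψ = 2 ^ blockDefect 2 B * t χ ψ) ∧
      ∑ χ, t χ χ = 2 ^ blockDefect 2 B * (blockRank 2 b.2 : ℤ) ∧ (∀ χ, 0 < t χ χ) ∧
      (∀ χ : B, blockHeight 2 B ((χ : IrrCharacter G) : G → ℂ) ≠ 0 →
        2 ^ (blockHeight 2 B ((χ : IrrCharacter G) : G → ℂ) + 1) ∣ t χ χ) := by
  classical
  have : Fact (Nat.Prime 2) := ⟨Nat.prime_two⟩
  have := isPrime_of_isPModular hM
  have := Fintype.ofFinite (Subgroup.centralizer (b.1 : Set G))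
  have := Core.finite_irr (G := Subgroup.centralizer (b.1 : Set G))
  have := Fintype.ofFinite b.2
  have hex : ∀ χ ψ : B, ∃ k : ℤ, (2 : ℂ) ^ blockDefect 2 B *
        Cn 2 z b ((χ : IrrCharacter G) : G → ℂ) ((ψ : IrrCharacter G) : G → ℂ) = k := by
    intro χ ψ
    have h := exists_int_Cn hM hz hb (χ : IrrCharacter G) (ψ : IrrCharacter G)
    rwa [hd] at h
  choose t ht using hex
  have hq : (0 : ℤ) < 2 ^ blockDefect 2 B := by positivity
  obtain ⟨hs, hm, htr⟩ := matrix_facts (c := fun χ ψ : B =>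
      Cn 2 z b ((χ : IrrCharacter G) : G → ℂ) ((ψ : IrrCharacter G) : G → ℂ)) (t := t)
      (l := blockRank 2 b.2) hq
    (fun χ ψ => by push_cast; exact ht χ ψ) (fun χ ψ => conj_Cn 2 z b _ _)
    (fun χ ψ => by
      have h := sum_contr_mul_contr hM hb.pelt hb.centralizer_eq hb.ind
        (χ := ((χ : IrrCharacter G) : G → ℂ)) (χ' := ((ψ : IrrCharacter G) : G → ℂ))
        (isClassFunction_coe (χ : IrrCharacter G))
      simp only [Cn_eq]
      exact h) (hb.sum_Cn_self hM)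
  refine ⟨t, ht, hs, hm, htr, fun χ => ?_, fun χ hχ => ?_⟩
  · refine pos_of_mul hq hs hm (k := χ) ?_
    have h1 := Cfsg.Agent.H658.contr_self_ne_zero hM hb.pelt hb.centralizer_eq hb.ind hd χ.2
    rw [← Cn_eq] at h1
    intro h2
    have h3 := ht χ χ
    rw [h2, Int.cast_zero, mul_eq_zero] at h3
    rcases h3 with h3 | h3
    · exact pow_ne_zero _ two_ne_zero h3
    · exact h1 h3
  · obtain ⟨w, hw, h1⟩ := Cfsg.Agent.H658.exists_nonunit_of_height_pos hM hb.pelt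
      hb.centralizer_eq hb.ind hd χ.2 χ.2 hχ
    rw [← Cn_eq] at h1
    push_cast at h1
    rw [ht χ χ] at h1
    have h2 : ((2 ^ blockHeight 2 B ((χ : IrrCharacter G) : G → ℂ) : ℕ) : ℂ) * w = t χ χ := by
      rw [h1]
      push_cast
      rfl
    obtain ⟨k, rfl⟩ := H646.RegInner.exists_int_of_memLocalRing hM h2
      (memLocalRing_of_memLocalIdeal hw)
    rw [memLocalIdeal_intCast_iff hM] at hw
    obtain ⟨s, rfl⟩ := hw
    refine ⟨s, ?_⟩
    have h6 : ((t χ χ : ℤ) : ℂ) =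
        ((2 ^ (blockHeight 2 B ((χ : IrrCharacter G) : G → ℂ) + 1) * s : ℤ) : ℂ) := by
      rw [h1, pow_succ]
      push_cast
      ring
    exact_mod_cast h6

end one

end Cfsg.Agent.H619.Tame
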