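import Mathlib
import Cfsg.Agent.H619.TamePar
import Cfsg.Agent.H619.TameVal

/-!
# Invariance of the contributions, and the classes not meeting `⟨x⟩`

* `Cn_conj`, `Cn_fus`: invariance under conjugation;
* `Cn_oth_eq_zero`: the classes not meeting `⟨x⟩` do not contribute at positive height.
-/

set_option autoImplicit false
set_option linter.unusedSectionVars false

open Cfsg
open scoped ComplexConjugate

namespace Cfsg.Agent.H619.Tame

open Cfsg.Agent.Blocks.Blau Cfsg.Agent.Blocks.Local Cfsg.Agent.Characters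
open Cfsg.Agent.H613.RegGram Cfsg.Agent.H613.Contrib Cfsg.Agent.H613.ContribVal
open Cfsg.Agent.H613.SubSys Cfsg.Agent.H613.SubFus Cfsg.Agent.H613.TwoCol
open Cfsg.Agent.H639 Cfsg.Agent.H649 Cfsg.Agent.H617.TwoAvg

universe u

variable {G : Type u} [Group G] [Finite G] {M : Ideal AlgInt}
  {B : Set (IrrCharacter G)} {a : BrauerPairIdx G} {x : G} {j m : ℕ}

theorem Cn_conj (p : ℕ) (g u : G) (b : BrauerPairIdx G) {χ ψ : G → ℂ}
    (hχ : IsClassFunction G χ) (hψ : IsClassFunction G ψ) :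
    Cn p (g * u * g⁻¹) (conjIdx g b) χ ψ = Cn p u b χ ψ := by
  have := Core.finite_irr (G := Subgroup.centralizer (b.1 : Set G))
  have := Core.finite_irr (G := Subgroup.centralizer ((conjIdx g b).1 : Set G))
  have := Fintype.ofFinite b.2
  have := Fintype.ofFinite (conjIdx g b).2
  rw [Cn_eq_sum, Cn_eq_sum]
  let Φ : b.2 → (conjIdx g b).2 := fun η => ⟨cjI g b η, (cjI_mem g b _).2 η.2⟩
  have hΦ : Function.Bijective Φ := by
    constructor
    · intro η η' h
      have h1 : cjI g b (η : IrrCharacter _) = cjI g b (η' : IrrCharacter _) :=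
        congrArg Subtype.val h
      apply Subtype.ext
      unfold cjI at h1
      have h2 := congrArg (irrMap (cenIso (MulAut.conj g) b.1).symm) h1
      have h3 : ∀ θ : IrrCharacter (Subgroup.centralizer (b.1 : Set G)),
          irrMap (cenIso (MulAut.conj g) b.1).symm (irrMap (cenIso (MulAut.conj g) b.1) θ) = θ :=
        fun θ => irrMap_symm_irrMap _ _
      exact ((h3 η).symm.trans h2).trans (h3 η')
    · rintro ⟨η, hη⟩
      obtain ⟨η', rfl⟩ := exists_cjI g b η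
      exact ⟨⟨η', (cjI_mem g b _).1 hη⟩, rfl⟩
  rw [← Function.Bijective.sum_comp hΦ]
  refine Finset.sum_congr rfl fun η _ => ?_
  change W p (g * u * g⁻¹) (conjIdx g b) χ (cjI g b η) *
    conj (W p (g * u * g⁻¹) (conjIdx g b) ψ (cjI g b η)) = _
  rw [W_conj p g u b hχ, W_conj p g u b hψ]

theorem Cn_fus {χ ψ : G → ℂ} (hχ : IsClassFunction G χ) (hψ : IsClassFunction G ψ) {u v : G}
    (h : Fus 2 M a u v) : Cn 2 u (bel 2 M a u) χ ψ = Cn 2 v (bel 2 M a v) χ ψ := by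
  obtain ⟨g, hg, hb⟩ := h
  rw [← hb, ← hg, Cn_conj 2 g u _ hχ hψ]

theorem ev_one_normSq (c : ℕ → ℤ) :
    ev 1 c 1 * conj (ev 1 c 1) = ((c 0 ^ 2 + c 1 ^ 2 : ℤ) : ℂ) := by
  have h1 : ev 1 c 1 = c 0 + c 1 * w 1 := by
    rw [ev_def, show 2 ^ 1 = 1 + 1 from rfl, Finset.sum_range_succ, Finset.sum_range_one]
    simp
  have h2 := w_pow_half 1
  have h3 : conj (w 1) = (w 1)⁻¹ := by
    have := conj_w_pow 1 1
    rwa [pow_one] at this
  have h4 := w_ne_zero 1
  have h5 : (w 1)⁻¹ = - w 1 := by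
    refine inv_eq_of_mul_eq_one_right ?_
    rw [pow_one, pow_two] at h2
    linear_combination -h2
  rw [h1, map_add, map_mul, map_intCast, map_intCast, h3, h5]
  rw [pow_one, pow_two] at h2
  push_cast
  linear_combination -(c 1 : ℂ) ^ 2 * h2

/-- The classes not meeting `⟨x⟩`: the values at height zero have absolute value one, those at
positive height vanish. -/
theorem oth_values (hM : IsPModular 2 M) (hmax : IsMaximalBrauerPair 2 M B a.1 a.2)
    (hD : IsTm a.1 x j m)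
    (h4 : Nat.card {χ : IrrCharacter G // χ ∈ B ∧ blockHeight 2 B (χ : G → ℂ) = 0} = 4)
    {w : G} (hw : w ∈ a.1) (hwx : ∀ v ∈ Subgroup.zpowers x, ¬ Fus 2 M a w v)
    {χ : IrrCharacter G} (hχ : χ ∈ B) (h0 : blockHeight 2 B (χ : G → ℂ) ≠ 0)
    (ψ : IrrCharacter G) :
    Cn 2 w (bel 2 M a w) (χ : G → ℂ) (ψ : G → ℂ) = 0 := by
  classical
  have : Fact (Nat.Prime 2) := ⟨Nat.prime_two⟩
  have hp : M.IsPrime := isPrime_of_isPModular hM
  have := Core.finite_irr (G := G)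
  have := Fintype.ofFinite (IrrCharacter G)
  have := Fintype.ofFinite B
  have hwx' : w ∉ Subgroup.zpowers x := fun h => hwx w h (Fus.refl w)
  have hw1 : w ≠ 1 := fun h => hwx' (by rw [h]; exact Subgroup.one_mem _)
  have hwz : ¬ Fus 2 M a w (x ^ 2 ^ j) := hwx _ hD.z_mem'
  have hl := rank_bel hM hmax hD hw hw1 hwz
  have hd := defect_w hM hmax hD hw hwx
  obtain ⟨d, c, hcol⟩ := exists_col hM (isSubsec_bel hM hmax hw) hl (j := 1)
    (by rw [show 2 ^ (1 + 1) = 4 from rfl]; exact hD.pow_four hw hwx')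
  have hsum : ∑ χ : B, (c χ 0 ^ 2 + c χ 1 ^ 2) = 4 := by
    have h1 := hcol.sum_sq hM (k := 1) odd_one hl
    rw [hd] at h1
    simp_rw [ev_one_normSq] at h1
    have h2 : ((∑ χ : B, (c χ 0 ^ 2 + c χ 1 ^ 2) : ℤ) : ℂ) = ((4 : ℤ) : ℂ) := by
      push_cast at h1 ⊢
      rw [h1]
      norm_num
    exact_mod_cast h2
  have hodd : ∀ χ : IrrCharacter G, χ ∈ B → blockHeight 2 B (χ : G → ℂ) = 0 →
      1 ≤ c χ 0 ^ 2 + c χ 1 ^ 2 := by
    intro χ hχ h0
    have h1 := hcol.not_memLocalIdeal hM hχ h0 (k := 1) odd_one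
    rw [memLocalIdeal_ev_iff hM, show 2 ^ 1 = 1 + 1 from rfl, Finset.sum_range_succ,
      Finset.sum_range_one] at h1
    by_contra hcon
    have h2 : c χ 0 ^ 2 + c χ 1 ^ 2 = 0 := by
      have := sq_nonneg (c χ 0)
      have := sq_nonneg (c χ 1)
      omega
    have h3 : c χ 0 ^ 2 = 0 := by
      have := sq_nonneg (c χ 0)
      have := sq_nonneg (c χ 1)
      omega
    have h4 : c χ 1 ^ 2 = 0 := by omega
    rw [pow_eq_zero_iff two_ne_zero] at h3 h4
    rw [h3, h4] at h1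
    exact h1 (by norm_num)
  set s : Finset B := Finset.univ.filter fun χ : B =>
    blockHeight 2 B ((χ : IrrCharacter G) : G → ℂ) = 0 with hs
  have hcard : s.card = 4 := by
    rw [← h4, hs, ← Fintype.card_subtype, ← Nat.card_eq_fintype_card]
    exact Nat.card_congr (Equiv.subtypeSubtypeEquivSubtypeInter (fun χ => χ ∈ B)
      (fun χ : IrrCharacter G => blockHeight 2 B (χ : G → ℂ) = 0))
  have hle : (4 : ℤ) ≤ ∑ χ ∈ s, (c χ 0 ^ 2 + c χ 1 ^ 2) := by
    calc (4 : ℤ) = ∑ χ ∈ s, (1 : ℤ) := by rw [Finset.sum_const, hcard]; norm_num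
      _ ≤ _ := Finset.sum_le_sum fun χ hχ => hodd χ χ.2 (Finset.mem_filter.1 hχ).2
  have hsplit := Finset.sum_filter_add_sum_filter_not (Finset.univ : Finset B)
    (fun χ : B => blockHeight 2 B ((χ : IrrCharacter G) : G → ℂ) = 0)
    (fun χ => c χ 0 ^ 2 + c χ 1 ^ 2)
  rw [hsum] at hsplit
  have hmem : (⟨χ, hχ⟩ : B) ∈ Finset.univ.filter (fun χ : B =>
      ¬ blockHeight 2 B ((χ : IrrCharacter G) : G → ℂ) = 0) := by
    rw [Finset.mem_filter]
    exact ⟨Finset.mem_univ _, h0⟩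
  have hsing := Finset.single_le_sum (f := fun χ : B => c χ 0 ^ 2 + c χ 1 ^ 2)
    (fun χ _ => by positivity) hmem
  have h5 : c χ 0 ^ 2 + c χ 1 ^ 2 ≤ 0 := by
    change c χ 0 ^ 2 + c χ 1 ^ 2 ≤ _ at hsing
    linarith
  have h6 : ev 1 (c χ) 1 = 0 := by
    have h7 := ev_one_normSq (c χ)
    have h8 : c χ 0 ^ 2 + c χ 1 ^ 2 = 0 := le_antisymm h5 (by positivity)
    rw [h8, Int.cast_zero, mul_eq_zero, map_eq_zero, or_self] at h7
    exact h7
  have h7 := hcol.Cn_eq χ ψ (k := 1) odd_one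
  rw [pow_one] at h7
  rw [h7, h6, zero_mul, zero_div]

end Cfsg.Agent.H619.Tame
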