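import Mathlib
import Cfsg.Agent.H619.TameOth

/-!
# The integer data of a tame block

`exists_base`: the data `Base (j + 2)`; `card_eq`: `k(B) = l(B) + l(b_z) + (2 ^ j - 1) + #Oth`.
-/

set_option autoImplicit false
set_option linter.unusedSectionVars false

open Cfsg
open scoped ComplexConjugate

namespace Cfsg.Agent.H619.Tame

open Cfsg.Agent.Blocks.Blau Cfsg.Agent.Blocks.Local Cfsg.Agent.Characters
open Cfsg.Agent.H613.RegGram Cfsg.Agent.H613.Contrib Cfsg.Agent.H613.ContribVal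
open Cfsg.Agent.H613.SubSys Cfsg.Agent.H613.SubFus Cfsg.Agent.H613.TwoCol
open Cfsg.Agent.H639 Cfsg.Agent.H649 Cfsg.Agent.H617.TwoAvg
open Cfsg.Agent.H619.TameNum

universe u

variable {G : Type u} [Group G] [Finite G] {M : Ideal AlgInt}
  {B : Set (IrrCharacter G)} {a : BrauerPairIdx G} {x : G} {j m : ℕ}

/-- The number of classes not meeting `⟨x⟩`. -/
noncomputable def cOth (M : Ideal AlgInt) (a : BrauerPairIdx G) (x : G) : ℕ :=
  Nat.card {i : Cl M a // Oth x i}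

theorem rank_fus {u v : G} (h : Fus 2 M a u v) :
    blockRank 2 (bel 2 M a u).2 = blockRank 2 (bel 2 M a v).2 := by
  obtain ⟨g, hg, hb⟩ := h
  rw [← hb, H613.SubDef.blockRank_conjIdx]

theorem rank_idx (hM : IsPModular 2 M) (hmax : IsMaximalBrauerPair 2 M B a.1 a.2)
    (hD : IsTm a.1 x j m) {k : ℕ} (hk : k ∈ idx j) :
    blockRank 2 (bel 2 M a (x ^ k)).2 = 1 := by
  have h1 := (mem_idx_iff hD (Finset.mem_range.1 (Finset.mem_filter.1 hk).1)).1 hk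
  exact rank_bel hM hmax hD (a.1.pow_mem hD.mem _) (pow_ne_one_of_mem_idx hD hk)
    (not_fus_z hD h1)

theorem rank_oth (hM : IsPModular 2 M) (hmax : IsMaximalBrauerPair 2 M B a.1 a.2)
    (hD : IsTm a.1 x j m) {i : Cl M a} (hi : Oth x i) :
    blockRank 2 (bel 2 M a (rep i)).2 = 1 :=
  rank_bel hM hmax hD (rep_mem i) (rep_ne i) (hi _ hD.z_mem')

theorem card_eq (hM : IsPModular 2 M) (hmax : IsMaximalBrauerPair 2 M B a.1 a.2)
    (hD : IsTm a.1 x j m) :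
    Nat.card B = blockRank 2 B + blockRank 2 (bel 2 M a (x ^ 2 ^ j)).2 + (2 ^ j - 1) +
      cOth M a x := by
  classical
  have : Fact (Nat.Prime 2) := ⟨Nat.prime_two⟩
  have h1 := (isSys_rep hM hmax).card_eq hM hmax.1.2.1
  have h2 := sum_cl hM hmax hD (fun u => (blockRank 2 (bel 2 M a u).2 : ℂ))
    (fun u v _ _ h => by rw [rank_fus h])
  have h3 : ∑ k ∈ idx j, (blockRank 2 (bel 2 M a (x ^ k)).2 : ℂ) = ((2 ^ (j + 1) - 2 : ℕ) : ℂ) := by
    rw [Finset.sum_congr rfl fun k hk => by rw [rank_idx hM hmax hD hk], Finset.sum_const,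
      card_idx]
    simp
  have h4 : ∑ i : Cl M a with Oth x i, (blockRank 2 (bel 2 M a (rep i)).2 : ℂ) = cOth M a x := by
    rw [Finset.sum_congr rfl fun i hi => by rw [rank_oth hM hmax hD (Finset.mem_filter.1 hi).2],
      Finset.sum_const, cOth, Nat.card_eq_fintype_card, Fintype.card_subtype]
    simp
  change 2 * ∑ i : Cl M a, (blockRank 2 (bel 2 M a (rep i)).2 : ℂ) =
    2 * (blockRank 2 (bel 2 M a (x ^ 2 ^ j)).2 : ℂ) +
      ∑ k ∈ idx j, (blockRank 2 (bel 2 M a (x ^ k)).2 : ℂ) +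
      2 * ∑ i : Cl M a with Oth x i, (blockRank 2 (bel 2 M a (rep i)).2 : ℂ) at h2
  rw [h3, h4] at h2
  have h5 : 2 * ∑ i : Cl M a, blockRank 2 (bel 2 M a (rep i)).2 =
      2 * blockRank 2 (bel 2 M a (x ^ 2 ^ j)).2 + (2 ^ (j + 1) - 2) + 2 * cOth M a x := by
    exact_mod_cast h2
  have h6 : 2 ^ (j + 1) - 2 = 2 * (2 ^ j - 1) := by
    rw [pow_succ]
    have : 1 ≤ 2 ^ j := Nat.one_le_two_pow
    omega
  rw [h1]
  omega

theorem exists_base [Fintype G] [Fintype B] (hM : IsPModular 2 M)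
    (hmax : IsMaximalBrauerPair 2 M B a.1 a.2) (hD : IsTm a.1 x j m) [DecidableEq B] :
    ∃ t1 tz T : B → B → ℤ,
      Base (j + 2) (fun χ : B => blockHeight 2 B ((χ : IrrCharacter G) : G → ℂ)) t1 tz T
        (blockRank 2 B) (blockRank 2 (bel 2 M a (x ^ 2 ^ j)).2) ∧
      (∀ χ ψ : B, (2 : ℂ) ^ (j + 2) *
        rg 2 ((χ : IrrCharacter G) : G → ℂ) ((ψ : IrrCharacter G) : G → ℂ) = t1 χ ψ) ∧
      (∀ χ, 0 ≤ T χ χ) ∧ (∀ χ, T χ χ = 0 → ∀ ψ, T χ ψ = 0) ∧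
      (∀ χ : B, blockHeight 2 B ((χ : IrrCharacter G) : G → ℂ) = 0 → 2 ^ j - 1 ≤ T χ χ) ∧
      (∀ χ : B, blockHeight 2 B ((χ : IrrCharacter G) : G → ℂ) ≠ 0 →
        T χ χ = 0 ∨ 2 ^ (j + 1) - 4 ≤ T χ χ) ∧
      ∑ χ, T χ χ = (2 ^ j - 1) * 2 ^ (j + 1) ∧
      (∀ χ : B, T χ χ = 0 → ∀ v ∈ Subgroup.zpowers x, v * v ≠ 1 → ∀ ψ : IrrCharacter G,
        Cn 2 v (bel 2 M a v) ((χ : IrrCharacter G) : G → ℂ) (ψ : G → ℂ) = 0) := by
  classical
  have : Fact (Nat.Prime 2) := ⟨Nat.prime_two⟩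
  have hj := hD.pos
  have hB := hmax.1.2.1
  have hdB := defect_B hM hmax hD
  have hdz := defect_z hM hmax hD
  obtain ⟨t1, ht1, hs1, hm1, htr1, hp1, hv1, hv1'⟩ := exists_t1 hM hB
  obtain ⟨tz, htz, hsz, hmz, htrz, hpz, hvz⟩ := exists_tz hM hD.z_sq
    (isSubsec_bel hM hmax hD.z_mem) (by rw [hdB, hdz])
  obtain ⟨n, hn⟩ := exists_T hM hmax hD
  obtain ⟨h4, hodd, heven⟩ := card_and_parity hM hmax hD hn
  rw [hdB] at ht1 hm1 htr1 htz hmz htrz
  have hsum : ∀ χ ψ : IrrCharacter G, ∑ k ∈ idx j,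
      Cn 2 (x ^ k) (bel 2 M a (x ^ k)) (χ : G → ℂ) (ψ : G → ℂ) =
      2 * (TT j (n χ) (n ψ) : ℂ) / 2 ^ (j + 1) := by
    intro χ ψ
    rw [← sum_idx_Fx, Finset.sum_div]
    exact Finset.sum_congr rfl fun k hk => hn k hk χ ψ
  have hvan : ∀ χ : IrrCharacter G, TT j (n χ) (n χ) = 0 → ∀ k ∈ idx j, Fx j (n χ) k = 0 := by
    intro χ h k hk
    have h1 := sum_idx_Fx j (n χ) (n χ)
    rw [h, Int.cast_zero, mul_zero] at h1
    have h2 : ((∑ k ∈ idx j, ‖Fx j (n χ) k‖ ^ 2 : ℝ) : ℂ) = 0 := by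
      rw [← h1]
      push_cast
      refine Finset.sum_congr rfl fun k _ => ?_
      rw [Complex.mul_conj, Complex.normSq_eq_norm_sq]
      push_cast
      rfl
    have h3 : ∑ k ∈ idx j, ‖Fx j (n χ) k‖ ^ 2 = 0 := by exact_mod_cast h2
    rw [Finset.sum_eq_zero_iff_of_nonneg (fun _ _ => by positivity)] at h3
    have h4 := h3 k hk
    rwa [pow_eq_zero_iff two_ne_zero, norm_eq_zero] at h4
  refine ⟨t1, tz, fun χ ψ => TT j (n χ) (n ψ),
    ⟨hs1, hsz, hm1, hmz, htr1, htrz, hp1, hpz, hv1, hv1', hvz, ?_, ?_⟩, ht1,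
    fun χ => TT_self_nonneg j _, fun χ h ψ => TT_zero h _,
    fun χ h => TT_odd hj _ (hodd χ χ.2 h), fun χ h => TT_even hj _ (heven χ χ.2 h), ?_, ?_⟩
  · -- the sum
    intro χ ψ hχ
    have h1 := (isSys_rep hM hmax).rg_add_sum hM hB χ.2 ψ.2
    have h2 := sum_cl hM hmax hD (fun u => Cn 2 u (bel 2 M a u) ((χ : IrrCharacter G) : G → ℂ)
      ((ψ : IrrCharacter G) : G → ℂ)) (fun u v _ _ h => Cn_fus (isClassFunction_coe _)
        (isClassFunction_coe _) h)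
    have h3 : ∑ i : Cl M a with Oth x i, Cn 2 (rep i) (bel 2 M a (rep i))
        ((χ : IrrCharacter G) : G → ℂ) ((ψ : IrrCharacter G) : G → ℂ) = 0 :=
      Finset.sum_eq_zero fun i hi => oth_values hM hmax hD h4 (rep_mem i)
        (Finset.mem_filter.1 hi).2 χ.2 hχ _
    change 2 * ∑ i : Cl M a, Cn 2 (rep i) (bel 2 M a (rep i)) ((χ : IrrCharacter G) : G → ℂ)
      ((ψ : IrrCharacter G) : G → ℂ) = 2 * Cn 2 (x ^ 2 ^ j) (bel 2 M a (x ^ 2 ^ j))
        ((χ : IrrCharacter G) : G → ℂ) ((ψ : IrrCharacter G) : G → ℂ) +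
      ∑ k ∈ idx j, Cn 2 (x ^ k) (bel 2 M a (x ^ k)) ((χ : IrrCharacter G) : G → ℂ)
        ((ψ : IrrCharacter G) : G → ℂ) +
      2 * ∑ i : Cl M a with Oth x i, Cn 2 (rep i) (bel 2 M a (rep i))
        ((χ : IrrCharacter G) : G → ℂ) ((ψ : IrrCharacter G) : G → ℂ) at h2
    rw [h3, hsum, mul_zero, add_zero] at h2
    have h5 : ((t1 χ ψ + tz χ ψ + 2 * TT j (n χ) (n ψ) : ℤ) : ℂ) =
        ((if χ = ψ then 2 ^ (j + 2) else 0 : ℤ) : ℂ) := by
      have hq : (2 : ℂ) ^ (j + 1) ≠ 0 := pow_ne_zero _ two_ne_zero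
      push_cast
      rw [← ht1, ← htz]
      have h6 : (2 : ℂ) * TT j (n χ) (n ψ) = 2 ^ (j + 1) * (2 * (TT j (n χ) (n ψ) : ℂ) /
          2 ^ (j + 1)) := by field_simp
      have h7 : (2 : ℂ) ^ (j + 2) = 2 ^ (j + 1) * 2 := pow_succ _ _
      rw [h6, h7]
      have h8 : (2 : ℂ) ^ (j + 1) * 2 *
          (∑ i : Cl M a, Cn 2 (rep i) (bel 2 M a (rep i)) ((χ : IrrCharacter G) : G → ℂ)
            ((ψ : IrrCharacter G) : G → ℂ)) = 2 ^ (j + 1) * 2 *
          Cn 2 (x ^ 2 ^ j) (bel 2 M a (x ^ 2 ^ j)) ((χ : IrrCharacter G) : G → ℂ)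
            ((ψ : IrrCharacter G) : G → ℂ) + 2 ^ (j + 1) * (2 * (TT j (n χ) (n ψ) : ℂ) /
          2 ^ (j + 1)) := by
        rw [mul_assoc, h2]
        ring
      have h9 := congrArg (fun c : ℂ => (2 : ℂ) ^ (j + 1) * 2 * c) h1
      simp only [mul_add] at h9
      rw [h8] at h9
      rw [add_assoc, h9]
      by_cases hc : χ = ψ
      · rw [if_pos (congrArg Subtype.val hc), if_pos hc, mul_one]
      · rw [if_neg (fun h => hc (Subtype.ext h)), if_neg hc, mul_zero]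
    exact_mod_cast h5
  · -- four characters of height zero
    rw [← h4, ← Fintype.card_subtype, ← Nat.card_eq_fintype_card]
    exact Nat.card_congr (Equiv.subtypeSubtypeEquivSubtypeInter (fun χ => χ ∈ B)
      (fun χ : IrrCharacter G => blockHeight 2 B (χ : G → ℂ) = 0))
  · -- the trace
    have h1 : ∑ χ : B, ∑ k ∈ idx j, Cn 2 (x ^ k) (bel 2 M a (x ^ k))
        ((χ : IrrCharacter G) : G → ℂ) ((χ : IrrCharacter G) : G → ℂ) =
        ((2 ^ (j + 1) - 2 : ℕ) : ℂ) := by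
      rw [Finset.sum_comm, Finset.sum_congr rfl fun k hk => by
        rw [(isSubsec_bel hM hmax (a.1.pow_mem hD.mem k)).sum_Cn_self hM,
          rank_idx hM hmax hD hk], Finset.sum_const, card_idx]
      simp
    simp_rw [hsum] at h1
    rw [← Finset.sum_div, ← Finset.mul_sum, div_eq_iff (pow_ne_zero _ two_ne_zero)] at h1
    have h2 : 2 ^ (j + 1) - 2 = 2 * (2 ^ j - 1) := by
      rw [pow_succ]
      have : 1 ≤ 2 ^ j := Nat.one_le_two_pow
      omega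
    rw [h2] at h1
    have h3 : ((2 ^ j - 1 : ℕ) : ℂ) = 2 ^ j - 1 := by
      rw [Nat.cast_sub Nat.one_le_two_pow]
      push_cast
      ring
    have h4 : ((∑ χ : B, TT j (n χ) (n χ) : ℤ) : ℂ) = (((2 ^ j - 1) * 2 ^ (j + 1) : ℤ) : ℂ) := by
      rw [Nat.cast_mul, h3] at h1
      push_cast at h1 ⊢
      linear_combination h1 / 2
    exact_mod_cast h4
  · -- vanishing
    intro χ hχ v hv hv2 ψ
    obtain ⟨k, hk, rfl⟩ := hD.exists_pow hv
    have hk' := (mem_idx_iff hD hk).2 hv2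
    rw [hn k hk', hvan χ hχ k hk', zero_mul, zero_div]

end Cfsg.Agent.H619.Tame
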