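import Mathlib
import Cfsg.Agent.H619.TameGrp2
import Cfsg.Agent.H617.TwoAvg
import Cfsg.Agent.Characters.ArtinInduction
import Cfsg.Agent.Characters.Brauer
import Cfsg.Agent.OddOrderCharacters.InducedNormal

/-!
# A stable generalized character of a tame 2-group

`exists_eta`: a character `η` of `P` with `η 1 = 3`, `η z = -1`, equal to `1` at the elements of
order four of `⟨x⟩` and at the elements of order four outside of `⟨x⟩`, and to `-1` at the
involutions outside of `⟨x⟩`.
-/

set_option autoImplicit false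
set_option linter.unusedSectionVars false

open Cfsg
open scoped ComplexConjugate

namespace Cfsg.Agent.H619.Tame

open Cfsg.Agent.Characters Cfsg.Agent.H617.TwoAvg

universe u

variable {G : Type u} [Group G] {P : Subgroup G} {x : G} {j m : ℕ}

theorem exists_lin (hD : IsTm P x j m) : ∃ L : G → ℂ, L 1 = 1 ∧ L (x ^ 2 ^ j) = -1 ∧
    ∀ u ∈ Subgroup.zpowers x, ∀ v ∈ Subgroup.zpowers x, L (u * v) = L u * L v := by
  classical
  obtain ⟨f, hf⟩ := ArtinInduction.exists_hom_gen (A := Subgroup.zpowers x)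
    (a := ⟨x, Subgroup.mem_zpowers x⟩) (by
      rintro ⟨y, hy⟩
      obtain ⟨k, hk⟩ := Subgroup.mem_zpowers_iff.1 hy
      rw [Subgroup.mem_zpowers_iff]
      exact ⟨k, Subtype.ext hk⟩) (z := w j) (n := 2 ^ (j + 1)) (by positivity)
      (by rw [Subgroup.orderOf_mk, hD.ord]) (w_pow_card j)
  refine ⟨fun g => if h : g ∈ Subgroup.zpowers x then ((f ⟨g, h⟩ : ℂˣ) : ℂ) else 0, ?_, ?_, ?_⟩
  · have h1 : (1 : G) ∈ Subgroup.zpowers x := Subgroup.one_mem _
    simp only [dif_pos h1]
    have h2 : (⟨1, h1⟩ : Subgroup.zpowers x) = 1 := rfl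
    rw [h2, map_one, Units.val_one]
  · have h1 := hD.z_mem'
    simp only [dif_pos h1]
    have h2 : (⟨x ^ 2 ^ j, h1⟩ : Subgroup.zpowers x) = ⟨x, Subgroup.mem_zpowers x⟩ ^ 2 ^ j :=
      Subtype.ext (by rw [Subgroup.coe_pow])
    rw [h2, hf, w_pow_half]
  · intro u hu v hv
    simp only [dif_pos hu, dif_pos hv, dif_pos (Subgroup.mul_mem _ hu hv)]
    rw [← Units.val_mul, ← map_mul]
    rfl

theorem IsTm.sq_mem (hD : IsTm P x j m) {y : G} (hy : y ∈ P) (hy' : y ∉ Subgroup.zpowers x) :
    y * y ∈ Subgroup.zpowers x := hD.mul_mem hy hy' hy hy'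

theorem comm_zpowers {x u v : G} (hu : u ∈ Subgroup.zpowers x) (hv : v ∈ Subgroup.zpowers x) :
    u * v = v * u := by
  obtain ⟨k, rfl⟩ := Subgroup.mem_zpowers_iff.1 hu
  obtain ⟨l, rfl⟩ := Subgroup.mem_zpowers_iff.1 hv
  rw [← zpow_add, ← zpow_add, add_comm]

open Classical in
/-- The induced character. -/
theorem isCharacter_ind (hD : IsTm P x j m) {L : G → ℂ} (h1 : L 1 = 1)
    (hmul : ∀ u ∈ Subgroup.zpowers x, ∀ v ∈ Subgroup.zpowers x, L (u * v) = L u * L v) :
    IsCharacter P (fun g => if (g : G) ∈ Subgroup.zpowers x then L g + L ((g : G) ^ m) else 0) := by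
  have := hD.finite
  have := Fintype.ofFinite P
  let H : Subgroup P := (Subgroup.zpowers x).subgroupOf P
  have := Fintype.ofFinite H
  let μ : H →* ℂ :=
    { toFun := fun h => L ((h : P) : G)
      map_one' := h1
      map_mul' := fun a b => hmul _ a.2 _ b.2 }
  have hc := Brauer.isCharacter_indFun H (Brauer.isCharacter_of_monoidHom μ)
  convert hc using 1
  funext g
  rw [OddOrderCharacters.InducedNormal.indFun_def]
  have hcardH : Nat.card H = 2 ^ (j + 1) := by
    rw [Nat.card_congr (Subgroup.subgroupOfEquivOfLe hD.zpowers_le).toEquiv, Nat.card_zpowers,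
      hD.ord]
  have hmemH : ∀ y : P, y ∈ H ↔ (y : G) ∈ Subgroup.zpowers x := fun y =>
    Subgroup.mem_subgroupOf
  have hnm : ∀ t : P, ((t : G)⁻¹ * (g : G) * (t : G) ∈ Subgroup.zpowers x) ↔
      (g : G) ∈ Subgroup.zpowers x := by
    intro t
    have key : ∀ {s k : G}, s ∈ P → k ∈ Subgroup.zpowers x → s * k * s⁻¹ ∈ Subgroup.zpowers x :=
      fun {s k} hs hk => (Subgroup.zpowers_le.2 hk) (hD.conj_mem_zpowers hs hk)
    constructor
    · intro h
      have h2 := key t.2 h
      have h3 : (t : G) * ((t : G)⁻¹ * (g : G) * (t : G)) * (t : G)⁻¹ = g := by group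
      rwa [h3] at h2
    · intro h
      have h2 := key (P.inv_mem t.2) h
      rwa [inv_inv] at h2
  by_cases hg : (g : G) ∈ Subgroup.zpowers x
  · rw [if_pos hg]
    have hterm : ∀ t : P, extendByZero H (fun h => μ h) (t⁻¹ * g * t) =
        if t ∈ H then L g else L ((g : G) ^ m) := by
      intro t
      have hmem : t⁻¹ * g * t ∈ H := (hmemH _).2 ((hnm t).2 hg)
      rw [Brauer.extendByZero_mem H _ hmem]
      change L ((t : G)⁻¹ * (g : G) * (t : G)) = _
      split_ifs with ht
      · have ht' := (hmemH t).1 ht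
        rw [mul_assoc, comm_zpowers hg ht', inv_mul_cancel_left]
      · have ht' : (t : G)⁻¹ ∉ Subgroup.zpowers x := fun h =>
          ht ((hmemH t).2 (by simpa using Subgroup.inv_mem _ h))
        have h3 := hD.conj_mem (P.inv_mem t.2) ht' hg
        rw [inv_inv] at h3
        rw [h3]
    rw [Finset.sum_congr rfl fun t _ => hterm t, Finset.sum_ite, Finset.sum_const,
      Finset.sum_const, nsmul_eq_mul, nsmul_eq_mul]
    have hc1 : (Finset.univ.filter fun t : P => t ∈ H).card = 2 ^ (j + 1) := by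
      rw [← hcardH, Nat.card_eq_fintype_card, ← Fintype.card_subtype]
    have hc2 : (Finset.univ.filter fun t : P => ¬ t ∈ H).card = 2 ^ (j + 1) := by
      have h5 := Finset.card_filter_add_card_filter_not (s := (Finset.univ : Finset P))
        (fun t => t ∈ H)
      rw [hc1, Finset.card_univ, ← Nat.card_eq_fintype_card, hD.card, pow_succ 2 (j + 1)] at h5
      omega
    rw [hc1, hc2, hcardH]
    push_cast
    field_simp
  · rw [if_neg hg]
    symm
    rw [Finset.sum_eq_zero, mul_zero]
    intro t _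
    refine Brauer.extendByZero_notMem H _ fun h => hg ((hnm t).1 ((hmemH _).1 h))

open Classical in
/-- The linear character. -/
theorem isCharacter_sign (hD : IsTm P x j m) {L : G → ℂ} (h1 : L 1 = 1)
    (hmul : ∀ u ∈ Subgroup.zpowers x, ∀ v ∈ Subgroup.zpowers x, L (u * v) = L u * L v) :
    IsCharacter P (fun g => if (g : G) ∈ Subgroup.zpowers x then L ((g : G) ^ (m + 1))
      else - L ((g : G) * g)) := by
  have := hD.finite
  have := Fintype.ofFinite P
  have hpm : ∀ {u : G} (k : ℕ), u ∈ Subgroup.zpowers x → u ^ k ∈ Subgroup.zpowers x :=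
    fun k hu => Subgroup.pow_mem _ hu k
  let μ : P →* ℂ :=
    { toFun := fun g => if (g : G) ∈ Subgroup.zpowers x then L ((g : G) ^ (m + 1))
        else - L ((g : G) * g)
      map_one' := by
        rw [OneMemClass.coe_one, if_pos (Subgroup.one_mem _), one_pow, h1]
      map_mul' := by
        rintro ⟨u, hu⟩ ⟨v, hv⟩
        change (if u * v ∈ Subgroup.zpowers x then L ((u * v) ^ (m + 1)) else
          - L (u * v * (u * v))) =
          (if u ∈ Subgroup.zpowers x then L (u ^ (m + 1)) else - L (u * u)) *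
          (if v ∈ Subgroup.zpowers x then L (v ^ (m + 1)) else - L (v * v))
        by_cases hux : u ∈ Subgroup.zpowers x
        · by_cases hvx : v ∈ Subgroup.zpowers x
          · rw [if_pos hux, if_pos hvx, if_pos (Subgroup.mul_mem _ hux hvx),
              (show Commute u v from comm_zpowers hux hvx).mul_pow,
              hmul _ (hpm _ hux) _ (hpm _ hvx)]
          · have huv : u * v ∉ Subgroup.zpowers x := fun h =>
              hvx ((Subgroup.mul_mem_cancel_left _ hux).1 h)
            rw [if_pos hux, if_neg hvx, if_neg huv]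
            have h2 := hD.conj_mem hv hvx hux
            have h3 : u * v * (u * v) = u ^ (m + 1) * (v * v) := by
              rw [pow_succ', ← h2]
              group
            rw [h3, hmul _ (hpm _ hux) _ (hD.sq_mem hv hvx)]
            ring
        · by_cases hvx : v ∈ Subgroup.zpowers x
          · have huv : u * v ∉ Subgroup.zpowers x := fun h =>
              hux ((Subgroup.mul_mem_cancel_right _ hvx).1 h)
            rw [if_neg hux, if_pos hvx, if_neg huv]
            have h2 := hD.conj_mem hu hux hvx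
            have h3 : u * v * (u * v) = v ^ (m + 1) * (u * u) := by
              have h4 : u * u * v = v * (u * u) := comm_zpowers (hD.sq_mem hu hux) hvx
              calc u * v * (u * v) = (u * v * u⁻¹) * (u * u * v) := by group
                _ = v ^ m * (v * (u * u)) := by rw [h2, h4]
                _ = v ^ (m + 1) * (u * u) := by rw [pow_succ]; group
            rw [h3, hmul _ (hpm _ hvx) _ (hD.sq_mem hu hux)]
            ring
          · have huv : u * v ∈ Subgroup.zpowers x := hD.mul_mem hu hux hv hvx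
            rw [if_neg hux, if_neg hvx, if_pos huv]
            have h2 := hD.conj_mem hu hux huv
            have h3 : (u * v) ^ (m + 1) = (u * u) * (v * v) := by
              rw [pow_succ, ← h2]
              group
            rw [h3, hmul _ (hD.sq_mem hu hux) _ (hD.sq_mem hv hvx)]
            ring }
  exact Brauer.isCharacter_of_monoidHom μ

theorem exists_eta (hD : IsTm P x j m) : ∃ η : G → ℂ, IsCharacter P (fun g => η g) ∧
    η 1 = 3 ∧ η (x ^ 2 ^ j) = -1 ∧
    (∀ u ∈ Subgroup.zpowers x, η (u ^ m) = η u) ∧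
    (∀ u ∈ Subgroup.zpowers x, u * u ≠ 1 → u ^ 4 = 1 → η u = 1) ∧
    (∀ v ∈ P, v ∉ Subgroup.zpowers x → v * v = 1 → η v = -1) ∧
    (∀ v ∈ P, v ∉ Subgroup.zpowers x → v * v ≠ 1 → η v = 1) := by
  classical
  have := hD.finite
  have := Fintype.ofFinite P
  obtain ⟨L, h1, hz, hmul⟩ := exists_lin hD
  have hpm : ∀ {u : G} (k : ℕ), u ∈ Subgroup.zpowers x → u ^ k ∈ Subgroup.zpowers x :=
    fun k hu => Subgroup.pow_mem _ hu k
  have hpow : ∀ u ∈ Subgroup.zpowers x, ∀ k : ℕ, L (u ^ k) = L u ^ k := by
    intro u hu k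
    induction k with
    | zero => rw [pow_zero, pow_zero, h1]
    | succ k ih => rw [pow_succ, hmul _ (hpm k hu) _ hu, ih, pow_succ]
  have hchar := Core.isCharacter_add (isCharacter_ind hD h1 hmul) (isCharacter_sign hD h1 hmul)
  have hmz : (-1 : ℂ) ^ m = -1 := hD.odd_m.neg_one_pow
  refine ⟨fun g => (if g ∈ Subgroup.zpowers x then L g + L (g ^ m) else 0) +
    (if g ∈ Subgroup.zpowers x then L (g ^ (m + 1)) else - L (g * g)), hchar, ?_, ?_, ?_, ?_,
      ?_, ?_⟩
  · simp only [if_pos (Subgroup.one_mem (Subgroup.zpowers x)), one_pow, h1]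
    norm_num
  · simp only [if_pos hD.z_mem']
    rw [hpow _ hD.z_mem', hpow _ hD.z_mem', hz, pow_succ, hmz]
    norm_num
  · intro u hu
    obtain ⟨y, hy, hyx⟩ := hD.exists_notMem
    have h2 := Core.isCharacter_isClassFunction hchar ⟨u, hD.zpowers_le hu⟩ ⟨y, hy⟩
    have h3 : (⟨y, hy⟩ * ⟨u, hD.zpowers_le hu⟩ * ⟨y, hy⟩⁻¹ : P) =
        ⟨u ^ m, P.pow_mem (hD.zpowers_le hu) m⟩ := Subtype.ext (hD.conj_mem hy hyx hu)
    rw [h3] at h2
    exact h2
  · intro u hu hu2 hu4
    simp only [if_pos hu]
    have h2 : u * u = x ^ 2 ^ j := by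
      rcases hD.eq_of_sq (Subgroup.mul_mem _ hu hu) (by
        rw [← hu4]; simp only [pow_succ, pow_zero, one_mul, mul_assoc]) with h3 | h3
      · exact absurd h3 hu2
      · exact h3
    have h3 : L u * L u = -1 := by rw [← hmul _ hu _ hu, h2, hz]
    have h4 : u ^ m = u⁻¹ := hD.pow_m_of_four hu4
    have h5 : u ^ (m + 1) = 1 := by rw [pow_succ, h4, inv_mul_cancel]
    have h6 : L u * L (u ^ m) = 1 := by
      rw [← hmul _ hu _ (hpm m hu), h4, mul_inv_cancel, h1]
    rw [h5, h1]
    have h7 : L (u ^ m) = - L u := by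
      have h8 : L u * (L (u ^ m) + L u) = 0 := by rw [mul_add, h6, h3]; ring
      rcases mul_eq_zero.1 h8 with h9 | h9
      · rw [h9, zero_mul] at h3
        norm_num at h3
      · linear_combination h9
    rw [h7]
    ring
  · intro v hv hvx hv2
    simp only [if_neg hvx]
    rw [hv2, h1, zero_add]
  · intro v hv hvx hv2
    simp only [if_neg hvx]
    rw [(hD.sq v hv hvx).resolve_left hv2, hz, zero_add, neg_neg]

end Cfsg.Agent.H619.Tame
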