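import Mathlib
import Cfsg.Agent.H619.TameBase
import Cfsg.Agent.H619.TameEta

/-!
# The star construction and the columns of characters of positive height

`four_mul_rg`: if all contributions at `χ` outside of `z` vanish then `4 * rg χ ψ` is an integer.
-/

set_option autoImplicit false
set_option linter.unusedSectionVars false

open Cfsg
open scoped ComplexConjugate

namespace Cfsg.Agent.H619.Tame

open Cfsg.Agent.Blocks.Blau Cfsg.Agent.Blocks.Local Cfsg.Agent.Characters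
open Cfsg.Agent.H613.RegGram Cfsg.Agent.H613.Contrib Cfsg.Agent.H613.ContribVal
open Cfsg.Agent.H613.SubSys Cfsg.Agent.H613.SubFus Cfsg.Agent.H613.TwoCol
open Cfsg.Agent.H639 Cfsg.Agent.H649 Cfsg.Agent.H651 Cfsg.Agent.H617.TwoAvg

universe u

variable {G : Type u} [Group G] [Finite G] {M : Ideal AlgInt}
  {B : Set (IrrCharacter G)} {a : BrauerPairIdx G} {x : G} {j m : ℕ}

theorem isStable_of_fus (hM : IsPModular 2 M) (ha : IsBrauerPair 2 M a.1 a.2) {η : G → ℂ}
    (h : ∀ u v, u ∈ a.1 → v ∈ a.1 → Fus 2 M a u v → η v = η u) : IsStable 2 M a η := by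
  have : Fact (Nat.Prime 2) := ⟨Nat.prime_two⟩
  intro u g b hu hb1 hb hgb
  have h1 : b = bel 2 M a u := eq_bel hM ha hb1 hb
  rw [h1] at hgb
  refine h u (g * u * g⁻¹) hu ?_ (Fus.of_le hM ha hgb)
  have h2 := hgb.le
  apply h2
  rw [conjIdx_fst, bel_fst, MonoidHom.map_zpowers]
  exact Subgroup.mem_zpowers _

/-- The character of `exists_eta` is stable. -/
theorem isStable_eta (hM : IsPModular 2 M) (hmax : IsMaximalBrauerPair 2 M B a.1 a.2)
    (hD : IsTm a.1 x j m) {η : G → ℂ} (hz : η (x ^ 2 ^ j) = -1)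
    (h1 : ∀ u ∈ Subgroup.zpowers x, η (u ^ m) = η u)
    (h2 : ∀ u ∈ Subgroup.zpowers x, u * u ≠ 1 → u ^ 4 = 1 → η u = 1)
    (h3 : ∀ v ∈ a.1, v ∉ Subgroup.zpowers x → v * v = 1 → η v = -1)
    (h4 : ∀ v ∈ a.1, v ∉ Subgroup.zpowers x → v * v ≠ 1 → η v = 1) : IsStable 2 M a η := by
  refine isStable_of_fus hM hmax.1.1 ?_
  have hsq : ∀ {u v : G}, Fus 2 M a u v → (u * u = 1 ↔ v * v = 1) := by
    intro u v h
    have h5 := h.orderOf_eq
    rw [← pow_two, ← pow_two, ← orderOf_dvd_iff_pow_eq_one, ← orderOf_dvd_iff_pow_eq_one, h5]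
  have hfo : ∀ {u v : G}, Fus 2 M a u v → v ^ 4 = 1 → u ^ 4 = 1 := by
    intro u v h h6
    rw [← orderOf_dvd_iff_pow_eq_one, h.orderOf_eq, orderOf_dvd_iff_pow_eq_one]
    exact h6
  -- the mixed case
  have mixed : ∀ u v, u ∈ a.1 → v ∈ a.1 → u ∈ Subgroup.zpowers x → v ∉ Subgroup.zpowers x →
      Fus 2 M a u v → η v = η u := by
    intro u v hu hv hux hvx h
    by_cases hv2 : v * v = 1
    · have hu2 := (hsq h).2 hv2
      rcases hD.eq_of_sq hux hu2 with h5 | h5
      · exfalso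
        apply hvx
        have h6 := h.orderOf_eq
        rw [h5, orderOf_one] at h6
        rw [orderOf_eq_one_iff.1 h6.symm]
        exact Subgroup.one_mem _
      · rw [h3 v hv hvx hv2, h5, hz]
    · rw [h4 v hv hvx hv2, h2 u hux (fun h5 => hv2 ((hsq h).1 h5))
        (hfo h (hD.pow_four hv hvx))]
  intro u v hu hv h
  by_cases hux : u ∈ Subgroup.zpowers x
  · by_cases hvx : v ∈ Subgroup.zpowers x
    · rcases fus_zpowers hM hmax hD hux hvx h with h5 | h5
      · rw [h5]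
      · rw [h5, h1 u hux]
    · exact mixed u v hu hv hux hvx h
  · by_cases hvx : v ∈ Subgroup.zpowers x
    · exact (mixed v u hv hu hvx hux h.symm).symm
    · by_cases hv2 : v * v = 1
      · rw [h3 v hv hvx hv2, h3 u hu hux ((hsq h).2 hv2)]
      · rw [h4 v hv hvx hv2, h4 u hu hux (fun h5 => hv2 ((hsq h).1 h5))]

theorem exists_int_classInner [Fintype G] {f : G → ℂ} (hf : IsGeneralizedCharacter G f)
    (ψ : IrrCharacter G) : ∃ k : ℤ, classInner f (ψ : G → ℂ) = k := by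
  have := Core.finite_irr (G := G)
  have := Fintype.ofFinite (IrrCharacter G)
  obtain ⟨n, hn⟩ := Core.isGeneralizedCharacter_iff.1 hf
  refine ⟨n ψ, ?_⟩
  rw [hn]
  exact Core.classInner_sum_zsmul_irr n ψ

theorem four_mul_rg [Fintype G] (hM : IsPModular 2 M) (hmax : IsMaximalBrauerPair 2 M B a.1 a.2)
    (hD : IsTm a.1 x j m) {χ ψ : IrrCharacter G} (hχ : χ ∈ B) (hψ : ψ ∈ B)
    (hx : ∀ v ∈ Subgroup.zpowers x, v * v ≠ 1 →
      Cn 2 v (bel 2 M a v) (χ : G → ℂ) (ψ : G → ℂ) = 0)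
    (ho : ∀ v ∈ a.1, (∀ u ∈ Subgroup.zpowers x, ¬ Fus 2 M a v u) →
      Cn 2 v (bel 2 M a v) (χ : G → ℂ) (ψ : G → ℂ) = 0) :
    ∃ k : ℤ, 4 * rg 2 (χ : G → ℂ) (ψ : G → ℂ) = k := by
  classical
  have : Fact (Nat.Prime 2) := ⟨Nat.prime_two⟩
  have := Core.finite_irr (G := G)
  have := Fintype.ofFinite B
  obtain ⟨η, hη, e1, ez, h1, h2, h3, h4⟩ := exists_eta hD
  have hst := isStable_eta hM hmax hD ez h1 h2 h3 h4
  have hgen := star_isGeneralizedCharacter hM hmax
    (Brauer.isGeneralizedCharacter_of_isCharacter hη) hst (Core.isIrr_isCharacter χ.2)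
  obtain ⟨k, hk⟩ := exists_int_classInner hgen ψ
  have hsys := isSys_rep hM hmax
  rw [classInner_star_sys hM hmax rep_mem hsys hst hχ hψ, e1] at hk
  have hsum : ∑ i : Cl M a, η (rep i) * Cn 2 (rep i) (bel 2 M a (rep i)) (χ : G → ℂ)
      (ψ : G → ℂ) = - ∑ i : Cl M a, Cn 2 (rep i) (bel 2 M a (rep i)) (χ : G → ℂ)
      (ψ : G → ℂ) := by
    rw [← Finset.sum_neg_distrib]
    refine Finset.sum_congr rfl fun i _ => ?_
    by_cases hi : ∀ u ∈ Subgroup.zpowers x, ¬ Fus 2 M a (rep i) u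
    · rw [ho _ (rep_mem i) hi, mul_zero, neg_zero]
    · push Not at hi
      obtain ⟨v, hv, hf⟩ := hi
      by_cases hv2 : v * v = 1
      · rcases hD.eq_of_sq hv hv2 with h5 | h5
        · exfalso
          have h6 := hf.orderOf_eq
          rw [h5, orderOf_one] at h6
          exact rep_ne i (orderOf_eq_one_iff.1 h6)
        · have h6 : η (rep i) = -1 := by
            rw [← ez, ← h5]
            obtain ⟨g, hg, hb⟩ := hf
            have h7 := hst (rep i) g (bel 2 M a (rep i)) (rep_mem i) (bel_fst _)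
              (bel_le hM hmax.1.1 (rep_mem i))
              (by rw [hb]; exact bel_le hM hmax.1.1 (hD.zpowers_le hv))
            rw [hg] at h7
            exact h7.symm
          rw [h6, neg_one_mul]
      · rw [Cn_fus (isClassFunction_coe χ) (isClassFunction_coe ψ) hf, hx v hv hv2, mul_zero,
          neg_zero]
  have hone := hsys.rg_add_sum hM hmax.1.2.1 hχ hψ
  have h5 : ∑ i : Cl M a, Cn 2 (rep i) (bel 2 M a (rep i)) (χ : G → ℂ) (ψ : G → ℂ) =
      (if χ = ψ then 1 else 0) - rg 2 (χ : G → ℂ) (ψ : G → ℂ) := by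
    rw [← hone]; ring
  rw [hsum, h5] at hk
  refine ⟨k + (if χ = ψ then 1 else 0), ?_⟩
  push_cast
  rw [← hk]
  ring

end Cfsg.Agent.H619.Tame
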