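import Mathlib
import Cfsg.Agent.H619.TameStarVal

/-!
# Heights in tame blocks

* `card_height_zero`: four characters of height zero;
* `main_ge`: the case `2 ≤ j`;
* `main_one`: the case `j = 1`.
-/

set_option autoImplicit false
set_option linter.unusedSectionVars false

open Cfsg
open scoped ComplexConjugate

namespace Cfsg.Agent.H619.Tame

open Cfsg.Agent.Blocks.Blau Cfsg.Agent.Blocks.Local Cfsg.Agent.Characters
open Cfsg.Agent.H613.RegGram Cfsg.Agent.H613.Contrib Cfsg.Agent.H613.ContribVal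
open Cfsg.Agent.H613.SubSys Cfsg.Agent.H613.SubFus Cfsg.Agent.H613.TwoCol
open Cfsg.Agent.H639 Cfsg.Agent.H649 Cfsg.Agent.H651 Cfsg.Agent.H617.TwoAvg
open Cfsg.Agent.H619.TameNum

universe u

variable {G : Type u} [Group G] [Finite G] {M : Ideal AlgInt}
  {B : Set (IrrCharacter G)} {a : BrauerPairIdx G} {x : G} {j m : ℕ}

theorem card_height_zero (hM : IsPModular 2 M) (hmax : IsMaximalBrauerPair 2 M B a.1 a.2)
    (hD : IsTm a.1 x j m) :
    Nat.card {χ : IrrCharacter G // χ ∈ B ∧ blockHeight 2 B (χ : G → ℂ) = 0} = 4 := by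
  obtain ⟨n, hn⟩ := exists_T hM hmax hD
  exact (card_and_parity hM hmax hD hn).1

theorem card_height_eq [Fintype B] (k : ℕ) [DecidableEq ℕ] :
    Nat.card {χ : IrrCharacter G // χ ∈ B ∧ blockHeight 2 B (χ : G → ℂ) = k} =
      (Finset.univ.filter fun χ : B =>
        blockHeight 2 B ((χ : IrrCharacter G) : G → ℂ) = k).card := by
  rw [← Fintype.card_subtype, ← Nat.card_eq_fintype_card]
  exact Nat.card_congr (Equiv.subtypeSubtypeEquivSubtypeInter (fun χ => χ ∈ B)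
    (fun χ : IrrCharacter G => blockHeight 2 B (χ : G → ℂ) = k)).symm

/-- The case `2 ≤ j`. -/
theorem main_ge (hM : IsPModular 2 M) (hmax : IsMaximalBrauerPair 2 M B a.1 a.2)
    (hD : IsTm a.1 x j m) (hj : 2 ≤ j)
    (hlz : 2 ≤ blockRank 2 (bel 2 M a (x ^ 2 ^ j)).2 + cOth M a x) :
    (∀ χ ∈ B, blockHeight 2 B (χ : G → ℂ) = 0 ∨ blockHeight 2 B (χ : G → ℂ) = 1 ∨
      blockHeight 2 B (χ : G → ℂ) = j) ∧
    Nat.card {χ : IrrCharacter G // χ ∈ B ∧ blockHeight 2 B (χ : G → ℂ) = 1} = 2 ^ j - 1 ∧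
    ∃ y : ℕ, Nat.card B = 2 ^ j + 3 + y ∧
      y + 1 ≤ blockRank 2 (bel 2 M a (x ^ 2 ^ j)).2 := by
  classical
  have : Fact (Nat.Prime 2) := ⟨Nat.prime_two⟩
  have := Fintype.ofFinite G
  have := Core.finite_irr (G := G)
  have := Fintype.ofFinite B
  obtain ⟨t1, tz, T, hbase, ht1, hT0, hTz, hTodd, hTeven, hTtr, hvan⟩ := exists_base hM hmax hD
  have h4 := card_height_zero hM hmax hD
  have hstar : ∀ χ : B, blockHeight 2 B ((χ : IrrCharacter G) : G → ℂ) ≠ 0 → T χ χ = 0 →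
      ∀ ψ, (2 : ℤ) ^ j ∣ t1 χ ψ := by
    intro χ hχ hT ψ
    obtain ⟨k, hk⟩ := four_mul_rg hM hmax hD χ.2 ψ.2 (fun v hv hv2 => hvan χ hT v hv hv2 _)
      (fun v hv hvx => oth_values hM hmax hD h4 hv hvx χ.2 hχ _)
    refine ⟨k, ?_⟩
    have h5 : ((t1 χ ψ : ℤ) : ℂ) = ((2 ^ j * k : ℤ) : ℂ) := by
      rw [← ht1, pow_add]
      push_cast
      rw [← hk]
      ring
    exact_mod_cast h5
  have hcount := card_eq hM hmax hD
  rw [Nat.card_eq_fintype_card] at hcount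
  have hTame : Tame (j + 2) (fun χ : B => blockHeight 2 B ((χ : IrrCharacter G) : G → ℂ)) t1 tz T
      (blockRank 2 B) (blockRank 2 (bel 2 M a (x ^ 2 ^ j)).2) :=
    { hbase with
      hn := by omega
      T_odd := by
        rw [Nat.add_sub_cancel]
        exact hTodd
      T_even := by
        rw [show j + 2 - 1 = j + 1 from rfl]
        exact hTeven
      T_zero := hTz
      T_tr := by
        rw [Nat.add_sub_cancel, show j + 2 - 1 = j + 1 from rfl]
        exact hTtr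
      star := by
        rw [Nat.add_sub_cancel]
        exact hstar }
  obtain ⟨c1, c2, y, c3, c4⟩ := hTame.main (a := cOth M a x) (by
    rw [Nat.add_sub_cancel]
    exact hcount) hlz
  rw [Nat.add_sub_cancel] at c1 c2 c3
  refine ⟨fun χ hχ => c1 ⟨χ, hχ⟩, ?_, y, ?_, c4⟩
  · rw [card_height_eq]
    exact c2
  · rw [Nat.card_eq_fintype_card]
    exact c3

/-- The case `j = 1`. -/
theorem main_one (hM : IsPModular 2 M) (hmax : IsMaximalBrauerPair 2 M B a.1 a.2)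
    (hD : IsTm a.1 x 1 m) :
    (∀ χ ∈ B, blockHeight 2 B (χ : G → ℂ) = 0 ∨ blockHeight 2 B (χ : G → ℂ) = 1) ∧
    ∃ y : ℕ, Nat.card B = 4 + y ∧
      y ≤ blockRank 2 (bel 2 M a (x ^ 2 ^ 1)).2 := by
  classical
  have : Fact (Nat.Prime 2) := ⟨Nat.prime_two⟩
  have := Fintype.ofFinite G
  have := Core.finite_irr (G := G)
  have := Fintype.ofFinite B
  obtain ⟨t1, tz, T, hbase, ht1, hT0, hTz, hTodd, hTeven, hTtr, hvan⟩ := exists_base hM hmax hD
  obtain ⟨c1, y, c2, c3⟩ := Base.main3 hbase hT0 hTz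
  refine ⟨fun χ hχ => c1 ⟨χ, hχ⟩, y, ?_, c3⟩
  rw [Nat.card_eq_fintype_card]
  exact c2

end Cfsg.Agent.H619.Tame
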