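import Mathlib
import Cfsg.Agent.H619.TameGrp2
import Cfsg.Agent.H642.TameCenter

/-!
# The quotient of a tame group by the central involution
-/

set_option autoImplicit false
set_option linter.unusedSectionVars false

open Cfsg

namespace Cfsg.Agent.H619.Tame

universe u

variable {G : Type u} [Group G] {P : Subgroup G} {x : G} {j m : ℕ}

theorem IsTm.mem_zZ (hD : IsTm P x j m) {Z : Subgroup G} (hZ : Z = Subgroup.zpowers (x ^ 2 ^ j))
    {g : G} : g ∈ Z ↔ g = 1 ∨ g = x ^ 2 ^ j := by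
  rw [hZ]
  constructor
  · intro hg
    have h1 : g ∈ Subgroup.zpowers x := (Subgroup.zpowers_le.2 hD.z_mem') hg
    refine hD.eq_of_sq h1 ?_
    obtain ⟨k, rfl⟩ := Subgroup.mem_zpowers_iff.1 hg
    rw [← zpow_add, ← two_mul, zpow_mul, zpow_two, hD.z_sq, one_zpow]
  · rintro (rfl | rfl)
    · exact Subgroup.one_mem _
    · exact Subgroup.mem_zpowers _

theorem IsTm.card_map (hD : IsTm P x j m) {Z : Subgroup G} [Z.Normal]
    (hZ : Z = Subgroup.zpowers (x ^ 2 ^ j)) :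
    Nat.card (P.map (QuotientGroup.mk' Z)) = 2 ^ (j + 1) := by
  have hZP : Z ≤ P := by rw [hZ, Subgroup.zpowers_le]; exact hD.z_mem
  let f : P →* G ⧸ Z := (QuotientGroup.mk' Z).comp P.subtype
  have h1 : f.range = P.map (QuotientGroup.mk' Z) := by
    rw [MonoidHom.range_comp, Subgroup.range_subtype]
  have h2 : f.ker = Z.subgroupOf P := by
    ext g
    rw [MonoidHom.mem_ker, Subgroup.mem_subgroupOf]
    exact QuotientGroup.eq_one_iff (g : G)
  have h3 := Subgroup.card_mul_index f.ker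
  have h4 : Nat.card Z = 2 := by rw [hZ, Nat.card_zpowers, hD.orderOf_z]
  rw [Subgroup.index_ker, h1, h2, Nat.card_congr (Subgroup.subgroupOfEquivOfLe hZP).toEquiv, hD.card,
    h4, pow_succ' 2 (j + 1)] at h3
  exact Nat.eq_of_mul_eq_mul_left (by norm_num) h3

theorem IsTm.mk_pow_m (hD : IsTm P x j m) {Z : Subgroup G} [Z.Normal]
    (hZ : Z = Subgroup.zpowers (x ^ 2 ^ j)) :
    (QuotientGroup.mk' Z x) ^ m = (QuotientGroup.mk' Z x)⁻¹ := by
  have h0 : (QuotientGroup.mk' Z x) ^ 2 ^ j = 1 := by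
    rw [← map_pow]
    exact (QuotientGroup.eq_one_iff _).2 (by rw [hZ]; exact Subgroup.mem_zpowers _)
  rw [eq_inv_iff_mul_eq_one, ← pow_succ]
  rcases hD.hm with h1 | ⟨-, h1⟩
  · have h2 : m + 1 = 2 ^ j * 2 := by
      rw [h1, ← pow_succ]
      exact Nat.sub_add_cancel Nat.one_le_two_pow
    rw [h2, pow_mul, h0, one_pow]
  · have h2 : m + 1 = 2 ^ j := by
      rw [h1]
      exact Nat.sub_add_cancel Nat.one_le_two_pow
    rw [h2, h0]

theorem IsTm.mk_sq (hD : IsTm P x j m) {Z : Subgroup G} [Z.Normal]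
    (hZ : Z = Subgroup.zpowers (x ^ 2 ^ j)) {y : G} (hy : y ∈ P)
    (hyx : y ∉ Subgroup.zpowers x) :
    QuotientGroup.mk' Z y * QuotientGroup.mk' Z y = 1 := by
  rw [← map_mul]
  exact (QuotientGroup.eq_one_iff _).2 ((hD.mem_zZ hZ).2 (hD.sq y hy hyx))

theorem map_dihedral [Finite G] (hD : IsTm P x j m) (hj : 2 ≤ j) {Z : Subgroup G} [Z.Normal]
    (hZ : Z = Subgroup.zpowers (x ^ 2 ^ j)) :
    Nonempty (↥(P.map (QuotientGroup.mk' Z)) ≃* DihedralGroup (2 ^ j)) := by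
  obtain ⟨y, hy, hyx⟩ := hD.exists_notMem
  let x' : ↥(P.map (QuotientGroup.mk' Z)) := ⟨QuotientGroup.mk' Z x,
    Subgroup.mem_map_of_mem _ hD.mem⟩
  let y' : ↥(P.map (QuotientGroup.mk' Z)) := ⟨QuotientGroup.mk' Z y,
    Subgroup.mem_map_of_mem _ hy⟩
  have h2j : 2 < 2 ^ j := by
    calc 2 < 2 ^ 2 := by norm_num
      _ ≤ 2 ^ j := Nat.pow_le_pow_right (by norm_num) hj
  refine H642.TameCenter.nonempty_dihedral (x := x') (y := y') h2j ?_ ?_ ?_ ?_
  · obtain ⟨i, rfl⟩ : ∃ i, j = i + 1 := ⟨j - 1, by omega⟩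
    refine orderOf_eq_prime_pow ?_ ?_
    · intro h
      have h1 : QuotientGroup.mk' Z (x ^ 2 ^ i) = 1 := by
        have h2 := congrArg Subtype.val h
        rw [map_pow]
        exact h2
      have h3 := (hD.mem_zZ hZ).1 ((QuotientGroup.eq_one_iff _).1 h1)
      have h4 : (x ^ 2 ^ i) * (x ^ 2 ^ i) = x ^ 2 ^ (i + 1) := by
        rw [← pow_add, ← two_mul, ← pow_succ']
      rcases h3 with h3 | h3
      · rw [h3, one_mul] at h4
        exact hD.z_ne h4.symm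
      · rw [h3] at h4
        have h5 := hD.z_sq
        rw [h4] at h5
        exact hD.z_ne h5
    · apply Subtype.ext
      have h1 : QuotientGroup.mk' Z (x ^ 2 ^ (i + 1)) = 1 :=
        (QuotientGroup.eq_one_iff _).2 ((hD.mem_zZ hZ).2 (Or.inr rfl))
      rw [map_pow] at h1
      exact h1
  · exact Subtype.ext (hD.mk_sq hZ hy hyx)
  · apply Subtype.ext
    change QuotientGroup.mk' Z y * QuotientGroup.mk' Z x * (QuotientGroup.mk' Z y)⁻¹ =
      (QuotientGroup.mk' Z x)⁻¹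
    rw [← map_inv, ← map_mul, ← map_mul, hD.conj y hy hyx, map_pow, hD.mk_pow_m hZ]
  · rw [hD.card_map hZ, pow_succ']

theorem map_klein [Finite G] (hD : IsTm P x 1 m) {Z : Subgroup G} [Z.Normal]
    (hZ : Z = Subgroup.zpowers (x ^ 2 ^ 1)) : IsKleinFour ↥(P.map (QuotientGroup.mk' Z)) := by
  have hcard := hD.card_map hZ
  have hsq : ∀ g : ↥(P.map (QuotientGroup.mk' Z)), g ^ 2 = 1 := by
    rintro ⟨_, y, hy, rfl⟩
    apply Subtype.ext
    rw [Subgroup.coe_pow, OneMemClass.coe_one, pow_two]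
    by_cases hyx : y ∈ Subgroup.zpowers x
    · obtain ⟨k, rfl⟩ := Subgroup.mem_zpowers_iff.1 hyx
      change QuotientGroup.mk' Z (x ^ k) * QuotientGroup.mk' Z (x ^ k) = 1
      rw [← map_mul]
      refine (QuotientGroup.eq_one_iff _).2 ?_
      rw [← zpow_add, ← two_mul, zpow_mul, hZ, pow_one]
      exact Subgroup.zpow_mem _ (by
        rw [show (2 : ℤ) = ((2 : ℕ) : ℤ) from rfl, zpow_natCast]
        exact Subgroup.mem_zpowers _) k
    · exact hD.mk_sq hZ hy hyx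
  refine ⟨by rw [hcard]; norm_num, ?_⟩
  have h1 : Monoid.exponent ↥(P.map (QuotientGroup.mk' Z)) ∣ 2 :=
    Monoid.exponent_dvd_of_forall_pow_eq_one hsq
  rcases (Nat.dvd_prime Nat.prime_two).1 h1 with h2 | h2
  · exfalso
    rw [Monoid.exp_eq_one_iff] at h2
    have h3 := Nat.card_unique (α := ↥(P.map (QuotientGroup.mk' Z)))
    rw [hcard] at h3
    norm_num at h3
  · exact h2

/-- `w z` is conjugate to `w`. -/
theorem IsTm.conj_quarter (hD : IsTm P x j m) {y : G} (hy : y ∈ P)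
    (hyx : y ∉ Subgroup.zpowers x) :
    x ^ 2 ^ (j - 1) * y * (x ^ 2 ^ (j - 1))⁻¹ = y * x ^ 2 ^ j := by
  have hj := hD.pos
  set v : G := x ^ 2 ^ (j - 1) with hv
  have hvx : v ∈ Subgroup.zpowers x := Subgroup.npow_mem_zpowers x _
  have hv2 : v * v = x ^ 2 ^ j := by
    rw [hv, ← pow_add, ← two_mul, ← pow_succ', Nat.sub_add_cancel hj]
  have hv4 : v ^ 4 = 1 := by
    rw [show (4 : ℕ) = 2 + 2 from rfl, pow_add, pow_two, hv2, hD.z_sq]
  have h1 := hD.conj_mem hy hyx hvx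
  rw [hD.pow_m_of_four hv4] at h1
  have h2 : y * v⁻¹ * y⁻¹ = v := by
    rw [show y * v⁻¹ * y⁻¹ = (y * v * y⁻¹)⁻¹ by group, h1, inv_inv]
  calc v * y * v⁻¹ = v * (y * v⁻¹ * y⁻¹) * y := by group
    _ = x ^ 2 ^ j * y := by rw [h2, hv2]
    _ = y * x ^ 2 ^ j := (hD.z_comm hy).symm

theorem IsTm.quarter_sq (hD : IsTm P x j m) :
    x ^ 2 ^ (j - 1) * x ^ 2 ^ (j - 1) = x ^ 2 ^ j := by
  rw [← pow_add, ← two_mul, ← pow_succ', Nat.sub_add_cancel hD.pos]

/-- The elements of `⟨x⟩` with square `z`. -/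
theorem IsTm.eq_quarter (hD : IsTm P x j m) {u : G} (hu : u ∈ Subgroup.zpowers x)
    (hu2 : u * u = x ^ 2 ^ j) :
    u = x ^ 2 ^ (j - 1) ∨ u = (x ^ 2 ^ (j - 1)) ^ m := by
  have hj := hD.pos
  set v : G := x ^ 2 ^ (j - 1) with hv
  have hvx : v ∈ Subgroup.zpowers x := Subgroup.npow_mem_zpowers x _
  have hv2 : v * v = x ^ 2 ^ j := hD.quarter_sq
  have hv4 : v ^ 4 = 1 := by
    rw [show (4 : ℕ) = 2 + 2 from rfl, pow_add, pow_two, hv2, hD.z_sq]
  have hcomm : v * u = u * v := by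
    obtain ⟨k, hk⟩ := Subgroup.mem_zpowers_iff.1 hu
    obtain ⟨l, hl⟩ := Subgroup.mem_zpowers_iff.1 hvx
    rw [← hk, ← hl, ← zpow_add, ← zpow_add, add_comm]
  rw [hD.pow_m_of_four hv4]
  have h1 : (u * v) * (u * v) = 1 := by
    calc (u * v) * (u * v) = u * (v * u) * v := by group
      _ = (u * u) * (v * v) := by rw [hcomm]; group
      _ = 1 := by rw [hu2, hv2, hD.z_sq]
  rcases hD.eq_of_sq (Subgroup.mul_mem _ hu hvx) h1 with h2 | h2
  · right; exact eq_inv_of_mul_eq_one_left h2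
  · left
    rw [← hv2] at h2
    exact mul_right_cancel h2

/-- `u ^ m = u z` characterizes the elements of order four. -/
theorem IsTm.sq_of_pow_m (hD : IsTm P x j m) {u : G} (hu : u ∈ Subgroup.zpowers x)
    (h : u * x ^ 2 ^ j = u ^ m) : u * u = x ^ 2 ^ j := by
  obtain ⟨c, hc, hm⟩ := hD.exists_m
  have h1 : (u * u) ^ c = x ^ 2 ^ j := by
    rw [hm, pow_succ', pow_mul, pow_two] at h
    exact (mul_left_cancel h).symm
  have h2 : (u * u) * (u * u) = 1 := by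
    have h3 : ((u * u) * (u * u)) ^ c = 1 := by
      rw [(Commute.refl (u * u)).mul_pow, h1, hD.z_sq]
    have h4 : ((u * u) * (u * u)) ^ 2 ^ (j + 2) = 1 := by
      refine hD.pow_card (hD.zpowers_le ?_)
      exact Subgroup.mul_mem _ (Subgroup.mul_mem _ hu hu) (Subgroup.mul_mem _ hu hu)
    have h5 : Nat.Coprime c (2 ^ (j + 2)) := Nat.Coprime.pow_right _ (Nat.coprime_two_right.2 hc)
    have h6 := orderOf_dvd_of_pow_eq_one h3
    have h7 := orderOf_dvd_of_pow_eq_one h4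
    exact orderOf_eq_one_iff.1 (Nat.eq_one_of_dvd_coprimes h5 h6 h7)
  rcases hD.eq_of_sq (Subgroup.mul_mem _ hu hu) h2 with h3 | h3
  · exfalso
    rw [h3, one_pow] at h1
    exact hD.z_ne h1.symm
  · exact h3

end Cfsg.Agent.H619.Tame
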