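import Mathlib
import Cfsg.Agent.H619.TameCore
import Cfsg.Agent.H619.TameQuot
import Cfsg.Agent.H642.KerCount
import Cfsg.Agent.H645.Watanabe

/-!
# The rank of a tame block with central involution

`central_rank`: if `z = x ^ 2 ^ j` is central then `l(B) + #Oth = 3`.
-/

set_option autoImplicit false
set_option linter.unusedSectionVars false

open Cfsg
open scoped ComplexConjugate

namespace Cfsg.Agent.H619.Tame

open Cfsg.Agent.Blocks.Blau Cfsg.Agent.Blocks.Local Cfsg.Agent.Characters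
open Cfsg.Agent.H613.RegGram Cfsg.Agent.H613.Contrib Cfsg.Agent.H613.ContribVal
open Cfsg.Agent.H613.SubSys Cfsg.Agent.H613.SubFus Cfsg.Agent.H613.TwoCol
open Cfsg.Agent.H639 Cfsg.Agent.H649 Cfsg.Agent.H651 Cfsg.Agent.H617.TwoAvg

universe u

variable {G : Type u} [Group G] [Finite G] {M : Ideal AlgInt}
  {B : Set (IrrCharacter G)} {a : BrauerPairIdx G} {x : G} {j m : ℕ}

/-- The only element fused to a central element. -/
theorem Fus.eq_of_central {u z : G} (hcen : ∀ g : G, z * g = g * z) (h : Fus 2 M a u z) :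
    u = z := by
  obtain ⟨g, hg, -⟩ := h
  have h1 : u = g⁻¹ * z * g := by rw [← hg]; group
  rw [h1, mul_assoc, hcen g, inv_mul_cancel_left]

theorem fus_sq {u v : G} (h : Fus 2 M a u v) : u * u = 1 ↔ v * v = 1 := by
  have h5 := h.orderOf_eq
  rw [← pow_two, ← pow_two, ← orderOf_dvd_iff_pow_eq_one, ← orderOf_dvd_iff_pow_eq_one, h5]

theorem fus_four {u v : G} (h : Fus 2 M a u v) : u ^ 4 = 1 ↔ v ^ 4 = 1 := by
  rw [← orderOf_dvd_iff_pow_eq_one, ← orderOf_dvd_iff_pow_eq_one, h.orderOf_eq]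

/-- An element of order four of `⟨x⟩` has square `z`. -/
theorem IsTm.sq_eq_z (hD : IsTm a.1 x j m) {u : G} (hu : u ∈ Subgroup.zpowers x)
    (hu2 : u * u ≠ 1) (hu4 : u ^ 4 = 1) : u * u = x ^ 2 ^ j := by
  rcases hD.eq_of_sq (Subgroup.mul_mem _ hu hu) (by
    rw [← hu4]; simp only [pow_succ, pow_zero, one_mul, mul_assoc]) with h3 | h3
  · exact absurd h3 hu2
  · exact h3

theorem fus_mul_z (hM : IsPModular 2 M) (hmax : IsMaximalBrauerPair 2 M B a.1 a.2)
    (hD : IsTm a.1 x j m) (hcen : ∀ g : G, x ^ 2 ^ j * g = g * x ^ 2 ^ j) (i : Cl M a) :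
    Fus 2 M a (rep i) (rep i * x ^ 2 ^ j) ↔
      (Oth x i ∨ Fus 2 M a (rep i) (x ^ 2 ^ (j - 1))) := by
  have : Fact (Nat.Prime 2) := ⟨Nat.prime_two⟩
  have hvx : x ^ 2 ^ (j - 1) ∈ Subgroup.zpowers x := Subgroup.npow_mem_zpowers x _
  have hv2 := hD.quarter_sq
  have hv4 : (x ^ 2 ^ (j - 1)) ^ 4 = 1 := by
    rw [show (4 : ℕ) = 2 + 2 from rfl, pow_add, pow_two, hv2, hD.z_sq]
  have hquart : ∀ u ∈ Subgroup.zpowers x, u * u = x ^ 2 ^ j →
      Fus 2 M a u (x ^ 2 ^ (j - 1)) := by
    intro u hu hu2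
    rcases hD.eq_quarter hu hu2 with h | h
    · rw [h]; exact Fus.refl _
    · rw [h]; exact (fus_pow_m hM hmax hD hvx).symm
  by_cases hix : rep i ∈ Subgroup.zpowers x
  · have hnoth : ¬ Oth x i := fun h => h _ hix (Fus.refl _)
    constructor
    · intro h
      right
      refine hquart _ hix ?_
      rcases fus_zpowers hM hmax hD hix (Subgroup.mul_mem _ hix hD.z_mem') h with h1 | h1
      · exact absurd (mul_eq_left.1 h1) hD.z_ne
      · exact hD.sq_of_pow_m hix h1
    · rintro (h | h)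
      · exact absurd h hnoth
      · have h1 : rep i ^ 4 = 1 := (fus_four h).2 hv4
        have h2 : rep i * rep i ≠ 1 := fun h3 => hD.z_ne (by rw [← hv2]; exact (fus_sq h).1 h3)
        have h3 : rep i * rep i = x ^ 2 ^ j := hD.sq_eq_z hix h2 h1
        have h4 : rep i * x ^ 2 ^ j = rep i ^ m := by
          rw [hD.pow_m_of_four h1, ← h3, eq_inv_iff_mul_eq_one, ← h1]
          simp only [pow_succ, pow_zero, one_mul, mul_assoc]
        rw [h4]
        exact fus_pow_m hM hmax hD hix
  · constructor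
    · intro _
      by_cases ho : Oth x i
      · exact Or.inl ho
      · right
        unfold Oth at ho
        push Not at ho
        obtain ⟨u, hu, hf⟩ := ho
        have hu4 : u ^ 4 = 1 := (fus_four hf).1 (hD.pow_four (rep_mem i) hix)
        have hu2 : u * u ≠ 1 := by
          intro h2
          rcases hD.eq_of_sq hu h2 with h3 | h3
          · have h4 := hf.orderOf_eq
            rw [h3, orderOf_one] at h4
            exact rep_ne i (orderOf_eq_one_iff.1 h4)
          · rw [h3] at hf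
            apply hix
            rw [Fus.eq_of_central hcen hf]
            exact hD.z_mem'
        exact hf.trans (hquart u hu (hD.sq_eq_z hu hu2 hu4))
    · intro _
      have h1 := Fus.of_mem hM hmax.1.1 (x := x ^ 2 ^ (j - 1)) (hD.zpowers_le hvx) (rep_mem i)
      rwa [hD.conj_quarter (rep_mem i) hix] at h1

theorem card_fus_mul_z (hM : IsPModular 2 M) (hmax : IsMaximalBrauerPair 2 M B a.1 a.2)
    (hD : IsTm a.1 x j m) (hcen : ∀ g : G, x ^ 2 ^ j * g = g * x ^ 2 ^ j) :
    Nat.card {i : Cl M a // Fus 2 M a (rep i) (rep i * x ^ 2 ^ j)} = cOth M a x + 1 := by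
  classical
  have hvx : x ^ 2 ^ (j - 1) ∈ Subgroup.zpowers x := Subgroup.npow_mem_zpowers x _
  have hv1 : x ^ 2 ^ (j - 1) ≠ 1 := by
    intro h
    have h1 := hD.quarter_sq
    rw [h, one_mul] at h1
    exact hD.z_ne h1.symm
  set i₀ : Cl M a := mkCl M a (x ^ 2 ^ (j - 1)) (hD.zpowers_le hvx) hv1 with hi₀
  have h1 : ∀ i : Cl M a, Fus 2 M a (rep i) (rep i * x ^ 2 ^ j) ↔ (Oth x i ∨ i = i₀) := by
    intro i
    rw [fus_mul_z hM hmax hD hcen i, hi₀, eq_mkCl_iff]
  have h2 : ¬ Oth x i₀ := fun h => h _ hvx (fus_rep_mk _ _)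
  rw [Nat.card_eq_fintype_card, Fintype.card_subtype, cOth, Nat.card_eq_fintype_card,
    Fintype.card_subtype]
  have h3 : (Finset.univ.filter fun i : Cl M a => Fus 2 M a (rep i) (rep i * x ^ 2 ^ j)) =
      insert i₀ (Finset.univ.filter fun i : Cl M a => Oth x i) := by
    ext i
    rw [Finset.mem_filter, Finset.mem_insert, Finset.mem_filter, h1]
    simp only [Finset.mem_univ, true_and]
    tauto
  rw [h3, Finset.card_insert_of_notMem]
  rw [Finset.mem_filter]
  exact fun h => h2 h.2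

/-- The rank of a tame block with central involution. -/
theorem central_rank (hM : IsPModular 2 M) (hmax : IsMaximalBrauerPair 2 M B a.1 a.2)
    (hD : IsTm a.1 x j m) (hcen : ∀ g : G, x ^ 2 ^ j * g = g * x ^ 2 ^ j) :
    blockRank 2 B + cOth M a x = 3 := by
  classical
  have : Fact (Nat.Prime 2) := ⟨Nat.prime_two⟩
  have hp : M.IsPrime := isPrime_of_isPModular hM
  have := Fintype.ofFinite G
  have hj := hD.pos
  -- the rank of `b_z`
  have htop : Subgroup.centralizer ((Subgroup.zpowers (x ^ 2 ^ j) : Subgroup G) : Set G) = ⊤ := by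
    rw [eq_top_iff]
    intro g _
    rw [H613.SubSys.centralizer_zpowers, Subgroup.mem_centralizer_singleton_iff]
    exact (hcen g).symm
  have hrank : blockRank 2 (bel 2 M a (x ^ 2 ^ j)).2 = blockRank 2 B :=
    H645.Watanabe.rank_of_bot hM htop (isBrauerPairOf_bel hM hmax hD.z_mem)
  -- the number of characters with `z` in the kernel
  let Z : Subgroup G := Subgroup.zpowers (x ^ 2 ^ j)
  have hZn : Z.Normal := by
    refine ⟨fun n hn g => ?_⟩
    have h1 : g * n = n * g := by
      obtain ⟨k, rfl⟩ := Subgroup.mem_zpowers_iff.1 hn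
      exact ((show Commute g (x ^ 2 ^ j) from (hcen g).symm).zpow_right k).eq
    rw [h1, mul_inv_cancel_right]
    exact hn
  have hker : Nat.card {χ : IrrCharacter G // χ ∈ B ∧ (χ : G → ℂ) (x ^ 2 ^ j) =
      (χ : G → ℂ) 1} = 2 ^ (j - 1) + 3 := by
    rcases Nat.lt_or_ge 1 j with h1 | h1
    · have h2 := H642.KerCount.card_ker_dihedral hM hmax hD.z_ne hD.z_sq hcen (Z := Z) rfl
        (n := j + 2) (by omega) (by
          rw [Nat.add_sub_cancel]
          exact map_dihedral hD h1 rfl)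
      rw [h2]
      congr 1
    · have h2 : j = 1 := le_antisymm h1 hj
      subst h2
      rw [H642.KerCount.card_ker_four hM hmax hD.z_ne hD.z_sq hcen (Z := Z) rfl (map_klein hD rfl)]
      norm_num
  have htwo := H642.KerCount.two_mul_card_ker hM hmax hD.z_mem hD.z_ne hD.z_sq hcen
    (rep (M := M) (a := a)) rep_mem rep_ne (fun i i' h => eq_of_fus_rep h)
    (fun v hv hv1 => ⟨mkCl M a v hv hv1, fus_rep_mk hv hv1⟩) (by
      intro i hi
      refine rank_bel hM hmax hD (rep_mem i) (rep_ne i) ?_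
      intro h
      have h1 := Fus.eq_of_central hcen h
      rw [h1, hD.z_sq] at hi
      have h2 := hi.orderOf_eq
      rw [orderOf_one] at h2
      exact hD.z_ne (orderOf_eq_one_iff.1 h2))
  rw [hker, card_fus_mul_z hM hmax hD hcen, card_eq hM hmax hD, hrank] at htwo
  obtain ⟨i, rfl⟩ : ∃ i, j = i + 1 := ⟨j - 1, by omega⟩
  rw [Nat.add_sub_cancel, pow_succ] at htwo
  have h1 : 1 ≤ 2 ^ i := Nat.one_le_two_pow
  omega

end Cfsg.Agent.H619.Tame
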