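import Mathlib
import Cfsg.Agent.H619.TameCen
import Cfsg.Agent.H613.LocMono
import Cfsg.Agent.H645.Watanabe

/-!
# The rank of `b_z`

* `exists_local`: the pair of `C_G(z)` corresponding to `a`;
* `fus_local`: fusion of elements with square `z`;
* `four_classes`: the classes of elements of order four not meeting `⟨x⟩`;
* `rank_z`: `l(b_z) + #Oth(C_G(z)) = 3`.
-/

set_option autoImplicit false
set_option linter.unusedSectionVars false

open Cfsg
open scoped ComplexConjugate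

namespace Cfsg.Agent.H619.Tame

open Cfsg.Agent.Blocks.Blau Cfsg.Agent.Blocks.Local Cfsg.Agent.Characters
open Cfsg.Agent.H613.RegGram Cfsg.Agent.H613.Contrib Cfsg.Agent.H613.ContribVal
open Cfsg.Agent.H613.SubSys Cfsg.Agent.H613.SubFus Cfsg.Agent.H613.TwoCol
open Cfsg.Agent.H639 Cfsg.Agent.H651 Cfsg.Agent.H617.TwoAvg

universe u

variable {G : Type u} [Group G] [Finite G] {M : Ideal AlgInt}
  {B : Set (IrrCharacter G)} {a : BrauerPairIdx G} {x : G} {j m : ℕ}

/-- The data of the centralizer of `z`. -/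
structure IsLoc (M : Ideal AlgInt) (B : Set (IrrCharacter G)) (a : BrauerPairIdx G) (x : G)
    (j m : ℕ) (a' : BrauerPairIdx (Subgroup.centralizer
      ((Subgroup.zpowers (x ^ 2 ^ j) : Subgroup G) : Set G)))
    (x' : Subgroup.centralizer ((Subgroup.zpowers (x ^ 2 ^ j) : Subgroup G) : Set G)) : Prop where
  coe : (x' : G) = x
  max : IsMaximalBrauerPair 2 M (bel 2 M a (x ^ 2 ^ j)).2 a'.1 a'.2
  loc : H649.locIdx (Subgroup.zpowers (x ^ 2 ^ j)) a' = a
  fst : a'.1 = a.1.subgroupOf (Subgroup.centralizer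
      ((Subgroup.zpowers (x ^ 2 ^ j) : Subgroup G) : Set G))
  tm : IsTm a'.1 x' j m

theorem IsTm.le_centralizer_z (hD : IsTm a.1 x j m) : a.1 ≤ Subgroup.centralizer
    ((Subgroup.zpowers (x ^ 2 ^ j) : Subgroup G) : Set G) := by
  intro y hy
  rw [H613.SubSys.centralizer_zpowers, Subgroup.mem_centralizer_singleton_iff]
  exact hD.z_comm hy

theorem exists_local (hM : IsPModular 2 M) (hmax : IsMaximalBrauerPair 2 M B a.1 a.2)
    (hD : IsTm a.1 x j m) : ∃ a' x', IsLoc M B a x j m a' x' := by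
  have : Fact (Nat.Prime 2) := ⟨Nat.prime_two⟩
  have hPC := hD.le_centralizer_z
  obtain ⟨a', h1, h2, h3⟩ := H613.LocMono.exists_loc_max hM hmax
    (Q := Subgroup.zpowers (x ^ 2 ^ j)) (f := (bel 2 M a (x ^ 2 ^ j)).2)
    (isBrauerPairOf_bel hM hmax hD.z_mem) (bel_le hM hmax.1.1 hD.z_mem) hPC
  refine ⟨a', ⟨x, hPC hD.mem⟩, rfl, h2, h3, h1, ?_⟩
  have hmem : ∀ y : Subgroup.centralizer ((Subgroup.zpowers (x ^ 2 ^ j) : Subgroup G) : Set G),
      y ∈ a'.1 ↔ (y : G) ∈ a.1 := by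
    intro y
    rw [h1, Subgroup.mem_subgroupOf]
  have hzp : ∀ y : Subgroup.centralizer ((Subgroup.zpowers (x ^ 2 ^ j) : Subgroup G) : Set G),
      y ∈ Subgroup.zpowers (⟨x, hPC hD.mem⟩ : Subgroup.centralizer
        ((Subgroup.zpowers (x ^ 2 ^ j) : Subgroup G) : Set G)) ↔
      (y : G) ∈ Subgroup.zpowers x := by
    intro y
    rw [Subgroup.mem_zpowers_iff, Subgroup.mem_zpowers_iff]
    constructor
    · rintro ⟨k, hk⟩
      exact ⟨k, by rw [← hk, Subgroup.coe_zpow]⟩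
    · rintro ⟨k, hk⟩
      exact ⟨k, Subtype.ext (by rw [Subgroup.coe_zpow]; exact hk)⟩
  refine ⟨hD.pos, (hmem _).2 hD.mem, ?_, ?_, hD.hm, ?_, ?_⟩
  · rw [Subgroup.orderOf_mk]; exact hD.ord
  · rw [h1, Nat.card_congr (Subgroup.subgroupOfEquivOfLe hPC).toEquiv, hD.card]
  · intro y hy hyx
    rcases hD.sq y ((hmem y).1 hy) (fun h => hyx ((hzp y).2 h)) with h4 | h4
    · left; exact Subtype.ext h4
    · right; exact Subtype.ext h4
  · intro y hy hyx
    exact Subtype.ext (hD.conj y ((hmem y).1 hy) (fun h => hyx ((hzp y).2 h)))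

variable {a' : BrauerPairIdx (Subgroup.centralizer
      ((Subgroup.zpowers (x ^ 2 ^ j) : Subgroup G) : Set G))}
    {x' : Subgroup.centralizer ((Subgroup.zpowers (x ^ 2 ^ j) : Subgroup G) : Set G)}

theorem IsLoc.mem_iff (h : IsLoc M B a x j m a' x') (y : Subgroup.centralizer
    ((Subgroup.zpowers (x ^ 2 ^ j) : Subgroup G) : Set G)) : y ∈ a'.1 ↔ (y : G) ∈ a.1 := by
  rw [h.fst, Subgroup.mem_subgroupOf]

theorem IsLoc.mem_zpowers_iff (h : IsLoc M B a x j m a' x') (y : Subgroup.centralizer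
    ((Subgroup.zpowers (x ^ 2 ^ j) : Subgroup G) : Set G)) :
    y ∈ Subgroup.zpowers x' ↔ (y : G) ∈ Subgroup.zpowers x := by
  rw [Subgroup.mem_zpowers_iff, Subgroup.mem_zpowers_iff]
  constructor
  · rintro ⟨k, hk⟩
    exact ⟨k, by rw [← hk, Subgroup.coe_zpow, h.coe]⟩
  · rintro ⟨k, hk⟩
    exact ⟨k, Subtype.ext (by rw [Subgroup.coe_zpow, h.coe]; exact hk)⟩

/-- Fusion of elements with square `z`. -/
theorem IsLoc.fus_iff (hM : IsPModular 2 M) (hmax : IsMaximalBrauerPair 2 M B a.1 a.2)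
    (hD : IsTm a.1 x j m) (h : IsLoc M B a x j m a' x')
    {u v : Subgroup.centralizer ((Subgroup.zpowers (x ^ 2 ^ j) : Subgroup G) : Set G)}
    (hu : u ∈ a'.1) (hv : v ∈ a'.1) (huz : (u : G) * u = x ^ 2 ^ j)
    (hvz : (v : G) * v = x ^ 2 ^ j) :
    Fus 2 M a' u v ↔ Fus 2 M a (u : G) (v : G) := by
  have : Fact (Nat.Prime 2) := ⟨Nat.prime_two⟩
  have hp : M.IsPrime := isPrime_of_isPModular hM
  have hQ : IsPGroup 2 (Subgroup.zpowers (x ^ 2 ^ j) : Subgroup G) := by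
    refine IsPGroup.of_card (n := 1) ?_
    rw [Nat.card_zpowers, hD.orderOf_z, pow_one]
  have hle : ∀ w : G, w * w = x ^ 2 ^ j → Subgroup.zpowers (x ^ 2 ^ j) ≤ Subgroup.zpowers w := by
    intro w hw
    rw [Subgroup.zpowers_le, ← hw]
    exact Subgroup.mul_mem _ (Subgroup.mem_zpowers w) (Subgroup.mem_zpowers w)
  have hbu := H613.LocMono.locIdx_bel hM hmax.1.1 hQ h.max.1.1 h.loc hu (hle _ huz)
  have hbv := H613.LocMono.locIdx_bel hM hmax.1.1 hQ h.max.1.1 h.loc hv (hle _ hvz)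
  constructor
  · rintro ⟨g, hg, hb⟩
    refine ⟨g, ?_, ?_⟩
    · rw [← hg]; rfl
    · rw [← hbu, H649.conjIdx_locIdx, hb, hbv]
  · rintro ⟨g, hg, hb⟩
    have hgz : g * x ^ 2 ^ j * g⁻¹ = x ^ 2 ^ j := by
      rw [← huz, show g * ((u : G) * u) * g⁻¹ = (g * u * g⁻¹) * (g * u * g⁻¹) by group, hg, hvz,
        huz]
    have hgC : g ∈ Subgroup.centralizer
        ((Subgroup.zpowers (x ^ 2 ^ j) : Subgroup G) : Set G) := by
      rw [H613.SubSys.centralizer_zpowers, Subgroup.mem_centralizer_singleton_iff]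
      exact mul_inv_eq_iff_eq_mul.1 hgz
    have hg' : (⟨g, hgC⟩ : Subgroup.centralizer
        ((Subgroup.zpowers (x ^ 2 ^ j) : Subgroup G) : Set G)) * u * ⟨g, hgC⟩⁻¹ = v :=
      Subtype.ext hg
    refine ⟨⟨g, hgC⟩, hg', ?_⟩
    refine H645.Watanabe.conjIdx_of_locIdx ?_ ?_ ?_
    · rw [← H649.conjIdx_locIdx, hbu, hbv]
      exact hb
    · rw [H649.conjIdx_fst, bel_fst, MonoidHom.map_zpowers]
      change _ ≤ (Subgroup.zpowers ((⟨g, hgC⟩ : Subgroup.centralizer
        ((Subgroup.zpowers (x ^ 2 ^ j) : Subgroup G) : Set G)) * u * ⟨g, hgC⟩⁻¹)).map _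
      rw [hg', MonoidHom.map_zpowers]
      exact hle _ hvz
    · rw [bel_fst, MonoidHom.map_zpowers]
      exact hle _ hvz

/-- The number of classes of elements of order four not meeting `⟨x⟩`. -/
noncomputable def cFour (M : Ideal AlgInt) (a : BrauerPairIdx G) (x : G) : ℕ :=
  Nat.card {i : Cl M a // Oth x i ∧ rep i * rep i ≠ 1}

/-- The number of classes of involutions not meeting `⟨x⟩`. -/
noncomputable def cTwo (M : Ideal AlgInt) (a : BrauerPairIdx G) (x : G) : ℕ :=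
  Nat.card {i : Cl M a // Oth x i ∧ rep i * rep i = 1}

theorem cOth_eq (M : Ideal AlgInt) (a : BrauerPairIdx G) (x : G) :
    cOth M a x = cTwo M a x + cFour M a x := by
  classical
  rw [cOth, cTwo, cFour, Nat.card_eq_fintype_card, Nat.card_eq_fintype_card,
    Nat.card_eq_fintype_card, Fintype.card_subtype, Fintype.card_subtype, Fintype.card_subtype,
    ← Finset.card_filter_add_card_filter_not (s := Finset.univ.filter fun i : Cl M a => Oth x i)
      (fun i => rep i * rep i = 1), Finset.filter_filter, Finset.filter_filter]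

theorem Oth.notMem {i : Cl M a} (h : Oth x i) : rep i ∉ Subgroup.zpowers x :=
  fun h1 => h _ h1 (Fus.refl _)

theorem Oth.sq_eq (hD : IsTm a.1 x j m) {i : Cl M a} (h : Oth x i) (h2 : rep i * rep i ≠ 1) :
    rep i * rep i = x ^ 2 ^ j :=
  (hD.sq _ (rep_mem i) h.notMem).resolve_left h2

theorem oth_of_fus {i i' : Cl M a} (h : Oth x i) (hf : Fus 2 M a (rep i) (rep i')) :
    Oth x i' := fun v hv h1 => h v hv (hf.trans h1)

/-- The classes of elements of order four. -/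
theorem cFour_local (hM : IsPModular 2 M) (hmax : IsMaximalBrauerPair 2 M B a.1 a.2)
    (hD : IsTm a.1 x j m) (h : IsLoc M B a x j m a' x') :
    cFour M a' x' = cFour M a x := by
  classical
  have hz' : ((x' ^ 2 ^ j : Subgroup.centralizer
      ((Subgroup.zpowers (x ^ 2 ^ j) : Subgroup G) : Set G)) : G) = x ^ 2 ^ j := by
    rw [Subgroup.coe_pow, h.coe]
  have hne : ∀ i' : Cl M a', ((rep i' : Subgroup.centralizer
      ((Subgroup.zpowers (x ^ 2 ^ j) : Subgroup G) : Set G)) : G) ≠ 1 :=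
    fun i' h1 => rep_ne i' (Subtype.ext h1)
  have hmem : ∀ i' : Cl M a', ((rep i' : Subgroup.centralizer
      ((Subgroup.zpowers (x ^ 2 ^ j) : Subgroup G) : Set G)) : G) ∈ a.1 :=
    fun i' => (h.mem_iff _).1 (rep_mem i')
  have hsq' : ∀ i' : Cl M a', Oth x' i' → rep i' * rep i' ≠ 1 →
      ((rep i' : Subgroup.centralizer
      ((Subgroup.zpowers (x ^ 2 ^ j) : Subgroup G) : Set G)) : G) * ((rep i' :
      Subgroup.centralizer ((Subgroup.zpowers (x ^ 2 ^ j) : Subgroup G) : Set G)) : G) =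
        x ^ 2 ^ j := by
    intro i' h1 h2
    exact (congrArg Subtype.val (Oth.sq_eq h.tm h1 h2)).trans hz'
  -- fusion into `⟨x⟩`
  have hoth : ∀ w : Subgroup.centralizer
      ((Subgroup.zpowers (x ^ 2 ^ j) : Subgroup G) : Set G), w ∈ a'.1 → (w : G) * w = x ^ 2 ^ j →
      ((∀ v ∈ Subgroup.zpowers x', ¬ Fus 2 M a' w v) ↔
        ∀ v ∈ Subgroup.zpowers x, ¬ Fus 2 M a (w : G) v) := by
    intro w hw hw2
    have hw4 : (w : G) ^ 4 = 1 := by
      rw [show (4 : ℕ) = 2 + 2 from rfl, pow_add, pow_two, hw2, hD.z_sq]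
    constructor
    · intro h1 v hv hf
      have hv2 : v * v = x ^ 2 ^ j := by
        refine hD.sq_eq_z hv ?_ ((fus_four hf).1 hw4)
        rw [Ne, ← fus_sq hf, hw2]
        exact hD.z_ne
      have hvC := hD.le_centralizer_z (hD.zpowers_le hv)
      refine h1 ⟨v, hvC⟩ ((h.mem_zpowers_iff _).2 hv) ?_
      exact (h.fus_iff hM hmax hD hw ((h.mem_iff _).2 (hD.zpowers_le hv)) hw2 hv2).2 hf
    · intro h1 v hv hf
      have hv2' : v * v = x' ^ 2 ^ j := by
        refine h.tm.sq_eq_z hv ?_ ((fus_four hf).1 (Subtype.ext hw4))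
        rw [Ne, ← fus_sq hf]
        intro h2
        have h3 := congrArg Subtype.val h2
        exact hD.z_ne (hw2.symm.trans h3)
      have hv2 : (v : G) * v = x ^ 2 ^ j := (congrArg Subtype.val hv2').trans hz'
      exact h1 v ((h.mem_zpowers_iff _).1 hv) ((h.fus_iff hM hmax hD hw
        (h.tm.zpowers_le hv) hw2 hv2).1 hf)
  rw [cFour, cFour]
  refine Nat.card_congr (Equiv.ofBijective (fun i' : {i' : Cl M a' // Oth x' i' ∧
    rep i' * rep i' ≠ 1} => (⟨mkCl M a ((rep (i' : Cl M a') : Subgroup.centralizer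
      ((Subgroup.zpowers (x ^ 2 ^ j) : Subgroup G) : Set G)) : G) (hmem _) (hne _), ?_, ?_⟩ :
      {i : Cl M a // Oth x i ∧ rep i * rep i ≠ 1})) ⟨?_, ?_⟩)
  · intro v hv hf
    have h1 := (hoth _ (rep_mem (i' : Cl M a')) (hsq' _ i'.2.1 i'.2.2)).1 i'.2.1 v hv
    exact h1 ((fus_rep_mk _ _).symm.trans hf)
  · rw [Ne, fus_sq (fus_rep_mk _ _), hsq' _ i'.2.1 i'.2.2]
    exact hD.z_ne
  · intro i' i'' h1
    have h2 := congrArg Subtype.val h1
    apply Subtype.ext
    apply eq_of_fus_rep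
    refine (h.fus_iff hM hmax hD (rep_mem _) (rep_mem _) (hsq' _ i'.2.1 i'.2.2)
      (hsq' _ i''.2.1 i''.2.2)).2 ?_
    exact (mkCl_eq_iff (hmem _) (hne _) (hmem _) (hne _)).1 h2
  · rintro ⟨i, hi1, hi2⟩
    have hw2 := hi1.sq_eq hD hi2
    have hwC := hD.le_centralizer_z (rep_mem i)
    have hwa : (⟨rep i, hwC⟩ : Subgroup.centralizer
      ((Subgroup.zpowers (x ^ 2 ^ j) : Subgroup G) : Set G)) ∈ a'.1 :=
      (h.mem_iff _).2 (rep_mem i)
    have hw1 : (⟨rep i, hwC⟩ : Subgroup.centralizer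
      ((Subgroup.zpowers (x ^ 2 ^ j) : Subgroup G) : Set G)) ≠ 1 := by
      intro h1
      exact rep_ne i (congrArg Subtype.val h1)
    have hf := fus_rep_mk (M := M) (a := a') hwa hw1
    have ho : Oth x' (mkCl M a' _ hwa hw1) := by
      intro v hv hf'
      exact (hoth _ hwa hw2).2 hi1 v hv (hf.symm.trans hf')
    have h2 : rep (mkCl M a' _ hwa hw1) * rep (mkCl M a' _ hwa hw1) ≠ 1 := by
      rw [Ne, fus_sq hf]
      intro h1
      exact hi2 (congrArg Subtype.val h1)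
    refine ⟨⟨mkCl M a' _ hwa hw1, ho, h2⟩, ?_⟩
    apply Subtype.ext
    symm
    refine (eq_mkCl_iff (hmem _) (hne _)).2 ?_
    exact ((h.fus_iff hM hmax hD (rep_mem _) hwa (hsq' _ ho h2) hw2).1 hf).symm

/-- The rank of `b_z`. -/
theorem rank_z (hM : IsPModular 2 M) (hmax : IsMaximalBrauerPair 2 M B a.1 a.2)
    (hD : IsTm a.1 x j m) (h : IsLoc M B a x j m a' x') :
    blockRank 2 (bel 2 M a (x ^ 2 ^ j)).2 + cTwo M a' x' + cFour M a x = 3 := by
  have h1 : blockRank 2 (bel 2 M a (x ^ 2 ^ j)).2 + cOth M a' x' = 3 :=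
    central_rank (G := Subgroup.centralizer
      ((Subgroup.zpowers (x ^ 2 ^ j) : Subgroup G) : Set G)) hM h.max h.tm (by
    intro g
    apply Subtype.ext
    have h2 := Subgroup.mem_centralizer_iff.1 g.2 (x ^ 2 ^ j) (Subgroup.mem_zpowers _)
    rw [Subgroup.coe_mul, Subgroup.coe_mul, Subgroup.coe_pow, h.coe]
    exact h2)
  rw [cOth_eq, cFour_local hM hmax hD h, ← add_assoc] at h1
  exact h1

end Cfsg.Agent.H619.Tame
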