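import Mathlib
import Cfsg.Agent.H619.TameLz
import Cfsg.Agent.H613.RankPos

/-!
# Blocks with quaternion and semidihedral defect groups

`main_quat`, `main_semi`: the theorems of Olsson for a maximal pair `a` with `IsTm a.1 x j m`.
-/

set_option autoImplicit false
set_option linter.unusedSectionVars false

open Cfsg
open scoped ComplexConjugate

namespace Cfsg.Agent.H619.Tame

open Cfsg.Agent.Blocks.Blau Cfsg.Agent.Blocks.Local Cfsg.Agent.Characters
open Cfsg.Agent.H613.RegGram Cfsg.Agent.H613.Contrib Cfsg.Agent.H613.ContribVal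
open Cfsg.Agent.H613.SubSys Cfsg.Agent.H613.SubFus Cfsg.Agent.H613.TwoCol
open Cfsg.Agent.H639 Cfsg.Agent.H651 Cfsg.Agent.H617.TwoAvg

universe u

variable {G : Type u} [Group G] [Finite G] {M : Ideal AlgInt}
  {B : Set (IrrCharacter G)} {a : BrauerPairIdx G} {x : G} {j m : ℕ}

theorem cTwo_eq_zero (hq : ∀ y ∈ a.1, y ∉ Subgroup.zpowers x → y * y ≠ 1) :
    cTwo M a x = 0 := by
  rw [cTwo]
  have : IsEmpty {i : Cl M a // Oth x i ∧ rep i * rep i = 1} := by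
    refine ⟨fun i => ?_⟩
    exact hq _ (rep_mem (i : Cl M a)) i.2.1.notMem i.2.2
  exact Nat.card_of_isEmpty

/-- Quaternion defect groups. -/
theorem main_quat (hM : IsPModular 2 M) (hmax : IsMaximalBrauerPair 2 M B a.1 a.2)
    (hD : IsTm a.1 x j m) (hq : ∀ y ∈ a.1, y ∉ Subgroup.zpowers x → y * y ≠ 1) :
    1 ≤ blockRank 2 B ∧ blockRank 2 B ≤ 3 ∧ Nat.card B = blockRank 2 B + 2 ^ j + 2 ∧
    Nat.card {χ : IrrCharacter G // χ ∈ B ∧ blockHeight 2 B (χ : G → ℂ) = 0} = 4 ∧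
    (∀ χ ∈ B, blockHeight 2 B (χ : G → ℂ) = 0 ∨ blockHeight 2 B (χ : G → ℂ) = 1 ∨
      blockHeight 2 B (χ : G → ℂ) = j) ∧
    (2 ≤ j → Nat.card {χ : IrrCharacter G // χ ∈ B ∧ blockHeight 2 B (χ : G → ℂ) = 1} =
      2 ^ j - 1) := by
  have : Fact (Nat.Prime 2) := ⟨Nat.prime_two⟩
  have hp : M.IsPrime := isPrime_of_isPModular hM
  have hpos : 1 ≤ blockRank 2 B :=
    H613.RankPos.one_le_blockRank (isPBlock_nonempty hM hmax.1.2.1)
  obtain ⟨a', x', hloc⟩ := exists_local hM hmax hD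
  have hz := rank_z hM hmax hD hloc
  have h0' : cTwo M a' x' = 0 := by
    refine cTwo_eq_zero fun y hy hyx h => ?_
    refine hq (y : G) ((hloc.mem_iff y).1 hy) (fun h1 => hyx ((hloc.mem_zpowers_iff y).2 h1)) ?_
    exact congrArg Subtype.val h
  have h0 : cTwo M a x = 0 := cTwo_eq_zero hq
  have hc : cOth M a x = cFour M a x := by rw [cOth_eq, h0, zero_add]
  have hcard := card_eq hM hmax hD
  have h4 := card_height_zero hM hmax hD
  have h2j : 1 ≤ 2 ^ j := Nat.one_le_two_pow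
  rw [h0', add_zero] at hz
  rw [hc] at hcard
  rcases Nat.lt_or_ge 1 j with hj | hj
  · obtain ⟨c1, c2, y, c3, c4⟩ := main_ge hM hmax hD hj (by rw [hc]; omega)
    exact ⟨hpos, by omega, by omega, h4, c1, fun _ => c2⟩
  · have h2 : j = 1 := le_antisymm hj hD.pos
    subst h2
    obtain ⟨c1, y, c3, c4⟩ := main_one hM hmax hD
    refine ⟨hpos, by omega, by omega, h4, fun χ hχ => ?_, fun h => absurd h (by norm_num)⟩
    rcases c1 χ hχ with h | h
    · exact Or.inl h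
    · exact Or.inr (Or.inl h)

/-- The noncentral involutions of a semidihedral group are conjugate. -/
theorem exists_conj_invol {P : Subgroup G} (hD : IsTm P x j m) (hj : 2 ≤ j)
    (hm : m = 2 ^ j - 1) {w w' : G} (hw : w ∈ P) (hwx : w ∉ Subgroup.zpowers x)
    (hw2 : w * w = 1) (hw' : w' ∈ P) (hwx' : w' ∉ Subgroup.zpowers x) (hw2' : w' * w' = 1) :
    ∃ d ∈ P, d * w * d⁻¹ = w' := by
  have hwi : w⁻¹ = w := inv_eq_of_mul_eq_one_left hw2
  have hu : w' * w ∈ Subgroup.zpowers x := hD.mul_mem hw' hwx' hw hwx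
  obtain ⟨k, -, hk⟩ := hD.exists_pow hu
  have hw'' : w' = x ^ k * w := by
    rw [hk, mul_assoc, hw2, mul_one]
  have hm1 : m + 1 = 2 ^ j := by
    rw [hm]
    exact Nat.sub_add_cancel Nat.one_le_two_pow
  have hconj : ∀ l : ℕ, w * x ^ l * w⁻¹ = x ^ (m * l) := by
    intro l
    rw [hD.conj_mem hw hwx (Subgroup.npow_mem_zpowers x l), ← pow_mul, mul_comm]
  have h1 : x ^ (k * 2 ^ j) = 1 := by
    rw [← hm1]
    have h2 : w' * w' = x ^ k * (w * x ^ k * w⁻¹) * (w * w) := by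
      rw [hw'']; group
    rw [hw2', hw2, hconj, mul_one, ← pow_add] at h2
    rw [h2]
    congr 1
    ring
  have h2 : 2 ∣ k := by
    have h3 := orderOf_dvd_of_pow_eq_one h1
    rw [hD.ord, pow_succ', Nat.mul_dvd_mul_iff_right (by positivity)] at h3
    exact h3
  obtain ⟨k', rfl⟩ := h2
  obtain ⟨i, rfl⟩ : ∃ i, j = i + 2 := ⟨j - 2, by omega⟩
  set q : ℕ := 2 ^ i with hq
  have e1 : 2 ^ (i + 2) = 4 * q := by rw [pow_add]; ring
  have e2 : x ^ (8 * q) = 1 := by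
    have h3 := hD.pow_eq_one
    have e3 : 2 ^ (i + 2 + 1) = 8 * q := by rw [pow_succ, e1]; ring
    rwa [e3] at h3
  rw [e1] at hm1
  refine ⟨x ^ (k' * (2 * q + 1)), P.pow_mem hD.mem _, ?_⟩
  have h3 : x ^ (k' * (2 * q + 1)) = x ^ (2 * k') * x ^ (m * (k' * (2 * q + 1))) := by
    rw [← pow_add]
    have h4 : 2 * k' + m * (k' * (2 * q + 1)) = k' * (2 * q + 1) + 8 * q * (q * k') := by
      have h5 : m * (k' * (2 * q + 1)) + k' * (2 * q + 1) = 4 * q * (k' * (2 * q + 1)) := by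
        rw [← hm1]; ring
      nlinarith
    rw [h4, pow_add x (k' * (2 * q + 1)), pow_mul x (8 * q), e2, one_pow, mul_one]
  have h4 : x ^ (k' * (2 * q + 1)) * w * (x ^ (k' * (2 * q + 1)))⁻¹ =
      x ^ (k' * (2 * q + 1)) * (w * x ^ (k' * (2 * q + 1)) * w⁻¹)⁻¹ * w := by group
  rw [h4, hconj, hw'']
  nth_rewrite 1 [h3]
  rw [mul_inv_cancel_right]

theorem cTwo_le_one (hM : IsPModular 2 M) (hmax : IsMaximalBrauerPair 2 M B a.1 a.2)
    (hD : IsTm a.1 x j m) (hj : 2 ≤ j) (hm : m = 2 ^ j - 1) : cTwo M a x ≤ 1 := by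
  have : Fact (Nat.Prime 2) := ⟨Nat.prime_two⟩
  rw [cTwo, Finite.card_le_one_iff_subsingleton]
  refine ⟨fun i i' => ?_⟩
  apply Subtype.ext
  apply eq_of_fus_rep
  obtain ⟨d, hd, h⟩ := exists_conj_invol hD hj hm (rep_mem (i : Cl M a)) i.2.1.notMem i.2.2
    (rep_mem (i' : Cl M a)) i'.2.1.notMem i'.2.2
  rw [← h]
  exact Fus.of_mem hM hmax.1.1 hd (rep_mem _)

theorem cTwo_eq_one (hM : IsPModular 2 M) (hmax : IsMaximalBrauerPair 2 M B a.1 a.2)
    (hD : IsTm a.1 x j m) (hj : 2 ≤ j) (hm : m = 2 ^ j - 1)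
    (hcen : ∀ g : G, x ^ 2 ^ j * g = g * x ^ 2 ^ j)
    (hex : ∃ y ∈ a.1, y ∉ Subgroup.zpowers x ∧ y * y = 1) : cTwo M a x = 1 := by
  refine le_antisymm (cTwo_le_one hM hmax hD hj hm) ?_
  obtain ⟨y, hy, hyx, hy2⟩ := hex
  have hy1 : y ≠ 1 := fun h => hyx (by rw [h]; exact Subgroup.one_mem _)
  have hf := fus_rep_mk (M := M) (a := a) hy hy1
  have : Nonempty {i : Cl M a // Oth x i ∧ rep i * rep i = 1} := by
    refine ⟨⟨mkCl M a y hy hy1, ?_, ?_⟩⟩
    · intro v hv h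
      have h1 : Fus 2 M a y v := hf.symm.trans h
      rcases hD.eq_of_sq hv ((fus_sq h1).1 hy2) with h2 | h2
      · have h3 := h1.orderOf_eq
        rw [h2, orderOf_one] at h3
        exact hy1 (orderOf_eq_one_iff.1 h3)
      · rw [h2] at h1
        apply hyx
        rw [Fus.eq_of_central hcen h1]
        exact hD.z_mem'
    · exact (fus_sq hf).2 hy2
  rw [cTwo]
  exact Nat.one_le_iff_ne_zero.2 Nat.card_pos.ne'

/-- Semidihedral defect groups. -/
theorem main_semi (hM : IsPModular 2 M) (hmax : IsMaximalBrauerPair 2 M B a.1 a.2)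
    (hD : IsTm a.1 x j m) (hj : 2 ≤ j) (hm : m = 2 ^ j - 1)
    (hex : ∃ y ∈ a.1, y ∉ Subgroup.zpowers x ∧ y * y = 1) :
    (Nat.card B = 2 ^ j + 3 ∨ Nat.card B = 2 ^ j + 4) ∧ 1 ≤ blockRank 2 B ∧
    blockRank 2 B ≤ 3 ∧ (blockRank 2 B = 3 → Nat.card B = 2 ^ j + 4) ∧
    (blockRank 2 B = 1 → Nat.card B = 2 ^ j + 3) ∧
    Nat.card {χ : IrrCharacter G // χ ∈ B ∧ blockHeight 2 B (χ : G → ℂ) = 0} = 4 ∧
    Nat.card {χ : IrrCharacter G // χ ∈ B ∧ blockHeight 2 B (χ : G → ℂ) = 1} = 2 ^ j - 1 ∧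
    (∀ χ ∈ B, blockHeight 2 B (χ : G → ℂ) = 0 ∨ blockHeight 2 B (χ : G → ℂ) = 1 ∨
      blockHeight 2 B (χ : G → ℂ) = j) := by
  have : Fact (Nat.Prime 2) := ⟨Nat.prime_two⟩
  have hp : M.IsPrime := isPrime_of_isPModular hM
  have hpos : 1 ≤ blockRank 2 B :=
    H613.RankPos.one_le_blockRank (isPBlock_nonempty hM hmax.1.2.1)
  obtain ⟨a', x', hloc⟩ := exists_local hM hmax hD
  have hz := rank_z hM hmax hD hloc
  have h1' : cTwo M a' x' = 1 := by
    refine cTwo_eq_one hM hloc.max hloc.tm hj hm ?_ ?_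
    · intro g
      apply Subtype.ext
      have h2 := Subgroup.mem_centralizer_iff.1 g.2 (x ^ 2 ^ j) (Subgroup.mem_zpowers _)
      rw [Subgroup.coe_mul, Subgroup.coe_mul, Subgroup.coe_pow, hloc.coe]
      exact h2
    · obtain ⟨y, hy, hyx, hy2⟩ := hex
      refine ⟨⟨y, hD.le_centralizer_z hy⟩, (hloc.mem_iff _).2 hy,
        fun h => hyx ((hloc.mem_zpowers_iff _).1 h), Subtype.ext hy2⟩
  have h1 : cTwo M a x ≤ 1 := cTwo_le_one hM hmax hD hj hm
  have hc := cOth_eq M a x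
  have hcard := card_eq hM hmax hD
  have h4 := card_height_zero hM hmax hD
  have h2j : 1 ≤ 2 ^ j := Nat.one_le_two_pow
  rw [h1'] at hz
  obtain ⟨c1, c2, y, c3, c4⟩ := main_ge hM hmax hD hj (by omega)
  refine ⟨by omega, hpos, by omega, fun h => by omega, fun h => by omega, h4, c2, c1⟩

end Cfsg.Agent.H619.Tame
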