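import Mathlib
import Cfsg.Prelude.Def_CaseTheorems
import Cfsg.Agent.H619.TameGrp2

/-!
# Quaternion and semidihedral subgroups

`exists_isTm_quat`, `exists_isTm_semi`: the data `IsTm`.
-/

set_option autoImplicit false
set_option linter.unusedSectionVars false

open Cfsg

namespace Cfsg.Agent.H619.Tame

universe u

variable {G : Type u} [Group G] {P : Subgroup G} {x : G} {j m : ℕ}

theorem isTm_of (hj : 1 ≤ j) (hx : x ∈ P) (hord : orderOf x = 2 ^ (j + 1))
    (hcard : Nat.card P = 2 ^ (j + 2)) (hm : m = 2 ^ (j + 1) - 1 ∨ (2 ≤ j ∧ m = 2 ^ j - 1))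
    {y₀ : G} (hy₀ : y₀ ∈ P) (hy₀x : y₀ ∉ Subgroup.zpowers x) (hconj : y₀ * x * y₀⁻¹ = x ^ m)
    (hsq : y₀ * y₀ = 1 ∨ y₀ * y₀ = x ^ 2 ^ j) : IsTm P x j m := by
  have hxP : Subgroup.zpowers x ≤ P := by rwa [Subgroup.zpowers_le]
  have hidx : ((Subgroup.zpowers x).subgroupOf P).index = 2 := by
    have h1 := Subgroup.card_mul_index ((Subgroup.zpowers x).subgroupOf P)
    rw [Nat.card_congr (Subgroup.subgroupOfEquivOfLe hxP).toEquiv, Nat.card_zpowers,
      hord, hcard, pow_succ 2 (j + 1)] at h1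
    exact Nat.eq_of_mul_eq_mul_left (by positivity) h1
  have hz2 : x ^ 2 ^ j * x ^ 2 ^ j = 1 := by
    rw [← pow_add, ← two_mul, ← pow_succ', ← hord, pow_orderOf_eq_one]
  -- the elements outside of `⟨x⟩`
  have hcos : ∀ y ∈ P, y ∉ Subgroup.zpowers x → ∃ k : ℤ, y = x ^ k * y₀ := by
    intro y hy hyx
    have h2 := (Subgroup.mul_mem_iff_of_index_two hidx (a := ⟨y, hy⟩)
      (b := ⟨y₀⁻¹, P.inv_mem hy₀⟩))
    have h3 : (⟨y, hy⟩ : P) * ⟨y₀⁻¹, P.inv_mem hy₀⟩ ∈ (Subgroup.zpowers x).subgroupOf P := by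
      rw [h2]
      constructor
      · intro h; exact absurd (Subgroup.mem_subgroupOf.1 h) hyx
      · intro h
        have h4 := Subgroup.mem_subgroupOf.1 h
        exact absurd (by simpa using Subgroup.inv_mem _ h4) hy₀x
    obtain ⟨k, hk⟩ := Subgroup.mem_zpowers_iff.1 (Subgroup.mem_subgroupOf.1 h3)
    refine ⟨k, ?_⟩
    have h4 : x ^ k = y * y₀⁻¹ := hk
    rw [h4, inv_mul_cancel_right]
  have hpow : ∀ k : ℤ, (x ^ k) ^ (m + 1) = 1 ∨ (x ^ k) ^ (m + 1) = x ^ 2 ^ j := by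
    intro k
    rcases hm with h1 | ⟨-, h1⟩
    · left
      have h2 : m + 1 = 2 ^ (j + 1) := by
        rw [h1]; exact Nat.sub_add_cancel Nat.one_le_two_pow
      rw [h2, ← zpow_natCast, ← zpow_mul, mul_comm, zpow_mul, zpow_natCast, ← hord,
        pow_orderOf_eq_one, one_zpow]
    · have h2 : m + 1 = 2 ^ j := by
        rw [h1]; exact Nat.sub_add_cancel Nat.one_le_two_pow
      rw [h2, ← zpow_natCast, ← zpow_mul, mul_comm, zpow_mul, zpow_natCast]
      rcases Int.even_or_odd' k with ⟨l, rfl | rfl⟩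
      · left
        rw [zpow_mul, zpow_two, hz2, one_zpow]
      · right
        rw [zpow_add, zpow_mul, zpow_two, hz2, one_zpow, one_mul, zpow_one]
  have hconjk : ∀ k : ℤ, y₀ * x ^ k * y₀⁻¹ = (x ^ k) ^ m := by
    intro k
    rw [← _root_.conj_zpow, hconj, ← zpow_natCast, ← zpow_natCast, ← zpow_mul, ← zpow_mul,
      mul_comm]
  refine ⟨hj, hx, hord, hcard, hm, ?_, ?_⟩
  · intro y hy hyx
    obtain ⟨k, rfl⟩ := hcos y hy hyx
    have h1 : x ^ k * y₀ * (x ^ k * y₀) = (x ^ k) ^ (m + 1) * (y₀ * y₀) := by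
      rw [pow_succ', ← hconjk]; group
    rw [h1]
    rcases hpow k with h2 | h2 <;> rcases hsq with h3 | h3 <;> rw [h2, h3]
    · left; rw [one_mul]
    · right; rw [one_mul]
    · right; rw [mul_one]
    · left; exact hz2
  · intro y hy hyx
    obtain ⟨k, rfl⟩ := hcos y hy hyx
    have h1 : x ^ k * y₀ * x * (x ^ k * y₀)⁻¹ = x ^ k * (y₀ * x * y₀⁻¹) * (x ^ k)⁻¹ := by
      group
    rw [h1, hconj]
    have h2 : x ^ k * x ^ m = x ^ m * x ^ k := by
      rw [← zpow_natCast, ← zpow_add, ← zpow_add, add_comm]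
    rw [h2, mul_inv_cancel_right]

theorem exists_isTm_quat {D : Subgroup G} {j : ℕ} (hj : 1 ≤ j)
    (e : D ≃* QuaternionGroup (2 ^ j)) :
    ∃ x : G, IsTm D x j (2 ^ (j + 1) - 1) ∧ ∀ y ∈ D, y ∉ Subgroup.zpowers x → y * y ≠ 1 := by
  have hne : NeZero (2 ^ j) := ⟨by positivity⟩
  let x₀ : D := e.symm (QuaternionGroup.a 1)
  have hx₀ : e x₀ = QuaternionGroup.a 1 := e.apply_symm_apply _
  have key : ∀ y (hy : y ∈ D), y ∉ Subgroup.zpowers (x₀ : G) →
      ∃ i, e ⟨y, hy⟩ = QuaternionGroup.xa i := by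
    intro y hy hyx
    rcases h : e ⟨y, hy⟩ with i | i
    · exfalso
      apply hyx
      rw [Subgroup.mem_zpowers_iff]
      refine ⟨i.val, ?_⟩
      have h1 : x₀ ^ i.val = ⟨y, hy⟩ := by
        apply e.injective
        rw [map_pow, hx₀, h, QuaternionGroup.a_one_pow, ZMod.natCast_val, ZMod.cast_id]
      have h2 := congrArg Subtype.val h1
      rw [Subgroup.coe_pow] at h2
      rw [zpow_natCast, h2]
    · exact ⟨i, rfl⟩
  have hord : orderOf (x₀ : G) = 2 ^ (j + 1) := by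
    rw [Subgroup.orderOf_coe, ← orderOf_injective e.toMonoidHom e.injective x₀]
    change orderOf (e x₀) = _
    rw [hx₀, QuaternionGroup.orderOf_a_one, ← pow_succ']
  have hcard : Nat.card D = 2 ^ (j + 2) := by
    rw [Nat.card_congr e.toEquiv, Nat.card_eq_fintype_card, QuaternionGroup.card, pow_add]
    ring
  have hsq : ∀ y ∈ D, y ∉ Subgroup.zpowers (x₀ : G) → y * y = (x₀ : G) ^ 2 ^ j := by
    intro y hy hyx
    obtain ⟨i, hi⟩ := key y hy hyx
    have h1 : (⟨y, hy⟩ : D) * ⟨y, hy⟩ = x₀ ^ 2 ^ j := by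
      apply e.injective
      rw [map_mul, hi, ← pow_two, QuaternionGroup.xa_sq, map_pow, hx₀, QuaternionGroup.a_one_pow]
    have h2 := congrArg Subtype.val h1
    rw [Subgroup.coe_pow] at h2
    exact h2
  have hz1 : (x₀ : G) ^ 2 ^ j ≠ 1 := by
    intro h
    have h1 := orderOf_dvd_of_pow_eq_one h
    rw [hord] at h1
    have h2 := Nat.le_of_dvd (by positivity) h1
    have h3 : 2 ^ j < 2 ^ (j + 1) := Nat.pow_lt_pow_right (by norm_num) (Nat.lt_succ_self j)
    omega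
  -- an element outside
  have hy₀ : ((e.symm (QuaternionGroup.xa 0) : D) : G) ∉ Subgroup.zpowers (x₀ : G) := by
    intro h
    obtain ⟨k, hk⟩ := Subgroup.mem_zpowers_iff.1 h
    have h1 : x₀ ^ k = e.symm (QuaternionGroup.xa 0) := Subtype.ext (by
      rw [Subgroup.coe_zpow]; exact hk)
    have h2 := congrArg e h1
    rw [map_zpow, hx₀, e.apply_symm_apply] at h2
    have h3 : ∃ l : ℕ, (QuaternionGroup.a 1 : QuaternionGroup (2 ^ j)) ^ k =
        (QuaternionGroup.a 1) ^ l := by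
      have h4 : (QuaternionGroup.a 1 : QuaternionGroup (2 ^ j)) ^ k ∈
          Submonoid.powers (QuaternionGroup.a 1 : QuaternionGroup (2 ^ j)) := by
        rw [mem_powers_iff_mem_zpowers]
        exact Subgroup.zpow_mem_zpowers _ k
      obtain ⟨l, hl⟩ := h4
      exact ⟨l, hl.symm⟩
    obtain ⟨l, hl⟩ := h3
    rw [hl, QuaternionGroup.a_one_pow] at h2
    exact absurd h2 (by simp)
  refine ⟨x₀, isTm_of hj x₀.2 hord hcard (Or.inl rfl)
    (e.symm (QuaternionGroup.xa 0) : D).2 hy₀ ?_ (Or.inr (hsq _ (Subtype.prop _) hy₀)), ?_⟩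
  · have h1 : (e.symm (QuaternionGroup.xa 0) : D) * x₀ * (e.symm (QuaternionGroup.xa 0) : D)⁻¹ =
        x₀⁻¹ := by
      apply e.injective
      rw [map_mul, map_mul, map_inv, map_inv, e.apply_symm_apply, hx₀]
      rw [mul_inv_eq_iff_eq_mul, eq_inv_mul_iff_mul_eq]
      rw [QuaternionGroup.xa_mul_a, QuaternionGroup.a_mul_xa]
      congr 1
      ring
    have h2 := congrArg Subtype.val h1
    have h3 : (x₀ : G) ^ (2 ^ (j + 1) - 1) = (x₀ : G)⁻¹ := by
      rw [eq_inv_iff_mul_eq_one, ← pow_succ, Nat.sub_add_cancel Nat.one_le_two_pow, ← hord,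
        pow_orderOf_eq_one]
    rw [h3]
    exact h2
  · intro y hy hyx
    rw [hsq y hy hyx]
    exact hz1

theorem exists_isTm_semi {D : Subgroup G} {j : ℕ} (hj : 2 ≤ j)
    (hcard : Nat.card D = 2 ^ (j + 2)) (hsd : IsQuasiDihedral D) :
    ∃ x : G, IsTm D x j (2 ^ j - 1) ∧ ∃ y ∈ D, y ∉ Subgroup.zpowers x ∧ y * y = 1 := by
  obtain ⟨n, hn, hc, x₀, y₀, hx, hy, hxy⟩ := hsd
  have hnj : n = j + 1 := by
    rw [hcard] at hc
    have := Nat.pow_right_injective le_rfl hc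
    omega
  subst hnj
  rw [Nat.add_sub_cancel] at hxy
  have hord : orderOf (x₀ : G) = 2 ^ (j + 1) := by rw [Subgroup.orderOf_coe, hx]
  have hy2 : (y₀ : G) * y₀ = 1 := by
    have h1 : y₀ ^ 2 = 1 := by rw [← hy, pow_orderOf_eq_one]
    have h2 := congrArg Subtype.val h1
    rw [pow_two] at h2
    exact h2
  have hconj : (y₀ : G) * x₀ * (y₀ : G)⁻¹ = (x₀ : G) ^ (2 ^ j - 1) := by
    have h2 := congrArg Subtype.val hxy
    rw [Subgroup.coe_pow] at h2
    exact h2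
  have hyx : (y₀ : G) ∉ Subgroup.zpowers (x₀ : G) := by
    intro h
    obtain ⟨k, hk⟩ := Subgroup.mem_zpowers_iff.1 h
    have h1 : (y₀ : G) * x₀ = x₀ * y₀ := by
      rw [← hk, ← zpow_one_add, ← zpow_add_one, add_comm]
    rw [h1, mul_inv_cancel_right] at hconj
    have h4j : 4 ≤ 2 ^ j := by
      calc 4 = 2 ^ 2 := by norm_num
        _ ≤ 2 ^ j := Nat.pow_le_pow_right (by norm_num) hj
    have h2 : (x₀ : G) ^ (2 ^ j - 2) = 1 := by
      have h3 : (x₀ : G) ^ (2 ^ j - 2) * x₀ = x₀ := by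
        rw [← pow_succ, show 2 ^ j - 2 + 1 = 2 ^ j - 1 by omega, ← hconj]
      exact mul_eq_right.1 h3
    have h3 := Nat.le_of_dvd (by omega) (orderOf_dvd_of_pow_eq_one h2)
    rw [hord, pow_succ] at h3
    omega
  exact ⟨x₀, isTm_of (by omega) x₀.2 hord hcard (Or.inr ⟨hj, rfl⟩) y₀.2 hyx hconj (Or.inl hy2),
    y₀, y₀.2, hyx, hy2⟩

end Cfsg.Agent.H619.Tame
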